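import Mathlib
import Cfsg.Prelude.Def_LocalEven

/-!
The data used about the simple groups `Sz(q)` and `PSL(2, 3^odd)` in the local analysis of
`S₄`-free groups.
-/

set_option autoImplicit false

namespace CfsgLib.LocalK

universe u v

/-- Every even power of two congruent to one modulo `r` is at least `2 ^ (4 k)`. -/
def Big (k r : ℕ) : Prop := ∀ a : ℕ, 0 < a → r ∣ 2 ^ (2 * a) - 1 → 2 * k ≤ a

theorem Big.mono {k l r : ℕ} (h : Big k r) (hlk : l ≤ k) : Big l r :=
  fun a ha hd => le_trans (Nat.mul_le_mul_left 2 hlk) (h a ha hd)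

theorem big_one {r : ℕ} (h5 : 5 ≤ r) : Big 1 r := by
  intro a ha hd
  by_contra h
  obtain rfl : a = 1 := by omega
  have := Nat.le_of_dvd (by norm_num) hd
  norm_num at this
  omega

/-- `K` has a prime `r` and a rank bound `n` as needed. -/
structure Good (K : Type u) [Group K] (r n : ℕ) : Prop where
  prime : r.Prime
  five_le : 5 ≤ r
  one_le : 1 ≤ n
  big : Big n r
  rank : ∀ B : Subgroup K, (∀ b ∈ B, b * b = 1) → Nat.card B ≤ 2 ^ n
  inverts : ∀ u : K, orderOf u = 2 → ∃ y : K, orderOf y = r ∧ u * y * u⁻¹ = y⁻¹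
  exists_invol : ∃ u : K, orderOf u = 2
  generates : ∀ (P : Sylow 2 K) (y : K), orderOf y = r →
    (P : Subgroup K) ⊔ Subgroup.zpowers y = ⊤
  outer : ∀ α : MulAut K, α * α = 1 →
    α ∈ (MulAut.conj : K →* MulAut K).range ∨ ∃ x : K, orderOf x = 3 ∧ α x = x⁻¹

theorem Good.of_equiv {K : Type u} {K' : Type v} [Group K] [Group K'] {r n : ℕ} (h : Good K r n)
    (e : K ≃* K') : Good K' r n where
  prime := h.prime
  five_le := h.five_le
  one_le := h.one_le
  big := h.big
  rank B hB := by
    have h1 := h.rank (B.map e.symm.toMonoidHom) (by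
      rintro _ ⟨b, hb, rfl⟩
      rw [← map_mul, hB b hb, map_one])
    rwa [Nat.card_congr (B.equivMapOfInjective e.symm.toMonoidHom e.symm.injective).toEquiv.symm] at h1
  inverts u hu := by
    obtain ⟨y, hy, hinv⟩ := h.inverts (e.symm u) (by rw [MulEquiv.orderOf_eq, hu])
    refine ⟨e y, by rw [MulEquiv.orderOf_eq, hy], ?_⟩
    have h1 := congrArg e hinv
    simpa using h1
  exists_invol := h.exists_invol.imp' e (fun u hu => by rw [MulEquiv.orderOf_eq, hu])
  generates P y hy := by
    have h1 := h.generates (P.comapOfInjective e.toMonoidHom e.injective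
      (fun x _ => ⟨e.symm x, e.apply_symm_apply x⟩)) (e.symm y) (by rw [MulEquiv.orderOf_eq, hy])
    have h2 := congrArg (Subgroup.map e.toMonoidHom) h1
    rw [Subgroup.map_sup, Subgroup.map_top_of_surjective _ e.surjective, MonoidHom.map_zpowers]
      at h2
    change (((P : Subgroup K').comap e.toMonoidHom).map e.toMonoidHom) ⊔ _ = _ at h2
    rw [Subgroup.map_comap_eq_self_of_surjective e.surjective] at h2
    simpa using h2
  outer α hα := by
    rcases h.outer ((MulAut.congr e).symm α) (by rw [← map_mul, hα, map_one]) with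
      ⟨g, hg⟩ | ⟨x, hx, hinv⟩
    · refine Or.inl ⟨e g, ?_⟩
      have h1 := congrArg (MulAut.congr e) hg
      rw [MulEquiv.apply_symm_apply] at h1
      rw [← h1]
      ext y
      simp
    · refine Or.inr ⟨e x, by rw [MulEquiv.orderOf_eq, hx], ?_⟩
      have h1 := congrArg e hinv
      simpa using h1

end CfsgLib.LocalK
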