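import Cfsg.Agent.Lib.LocalK.Component

/-!
Existence of steps in groups with trivial `2`-core.
-/

set_option autoImplicit false
set_option linter.style.haveILetI false

namespace CfsgLib.LocalK

universe u

theorem IsStep.map {X Y : Type u} [Group X] [Group Y] (f : X →* Y) (hf : Function.Injective f)
    {A A₁ : Subgroup X} {t y : X} {k r : ℕ} (h : IsStep A A₁ t y k r) :
    IsStep (A.map f) (A₁.map f) (f t) (f y) k r where
  le := Subgroup.map_mono h.le
  mem := Subgroup.mem_map_of_mem f h.mem
  prime := h.prime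
  five_le := h.five_le
  one_le := h.one_le
  big := h.big
  ord := by rw [orderOf_injective f hf, h.ord]
  inv := by rw [← map_inv, ← map_mul, ← map_mul, h.inv, map_inv]
  comm := by rintro _ ⟨a, ha, rfl⟩; rw [← map_mul, h.comm a ha, map_mul]
  card_le := by
    rw [Subgroup.card_map_of_injective hf, Subgroup.card_map_of_injective hf]
    exact h.card_le

/-- An inverted element of prime order `r ≥ 5` centralized by a hyperplane gives a step. -/
theorem isStep_hyperplane {X : Type u} [Group X] [Finite X] (hfree : ¬ Cfsg.Involves (Equiv.Perm (Fin 3)) X)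
    {A A₁ : Subgroup X} (hA : ∀ a ∈ A, a * a = 1) (hle : A₁ ≤ A)
    (hidx : A₁.relIndex A = 2) {t : X} (ht : t ∈ A) {y : X} {r : ℕ} (hr : r.Prime) (hr2 : r ≠ 2)
    (hy : orderOf y = r) (hinv : t * y * t⁻¹ = y⁻¹) (hcomm : ∀ a ∈ A₁, a * y = y * a) :
    IsStep A A₁ t y 1 r := by
  have h5 : 5 ≤ r := by
    have := hr.two_le
    by_contra h
    rcases (show r = 3 ∨ r = 4 by omega) with rfl | rfl
    · exact ne_three_of_inverted hfree (hA t ht) hy hinv
    · norm_num at hr
  refine ⟨hle, ht, hr, h5, le_rfl, big_one h5, hy, hinv, hcomm, ?_⟩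
  have h := Subgroup.relIndex_mul_relIndex ⊥ A₁ A bot_le hle
  rw [Subgroup.relIndex_bot_left, Subgroup.relIndex_bot_left, hidx] at h
  rw [pow_one, ← h, mul_comm]

theorem exists_step_aux : ∀ (n : ℕ) (X : Type u) [Group X] [Finite X], Nat.card X = n → SK X →
    Cfsg.pCore 2 X = ⊥ → ∀ A : Subgroup X, (∀ a ∈ A, a * a = 1) → A ≠ ⊥ →
    ∃ (A₁ : Subgroup X) (t y : X) (k r : ℕ), IsStep A A₁ t y k r := by
  intro n
  induction n using Nat.strong_induction_on with
  | _ n ih =>
  intro X _ _ hn h hcore A hA hA1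
  haveI : Fact (Nat.Prime 2) := ⟨Nat.prime_two⟩
  haveI : Nontrivial X := by
    by_contra hc
    rw [not_nontrivial_iff_subsingleton] at hc
    exact hA1 (Subsingleton.elim _ _)
  obtain ⟨N, hN, hN0, hmin⟩ : ∃ N : Subgroup X, N.Normal ∧ N ≠ ⊥ ∧
      ∀ M : Subgroup X, M.Normal → M ≠ ⊥ → M ≤ N → M = N := by
    obtain ⟨N, hN⟩ := (Set.toFinite {N : Subgroup X | N.Normal ∧ N ≠ ⊥}).exists_minimal
      ⟨⊤, inferInstance, top_ne_bot⟩
    exact ⟨N, hN.prop.1, hN.prop.2, fun M h1 h2 h3 => le_antisymm h3 (hN.le_of_le ⟨h1, h2⟩ h3)⟩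
  haveI := hN
  set C := Subgroup.centralizer (N : Set X) with hC
  -- steps inside a proper centralizer
  have hdescend : N ≤ Subgroup.centralizer (A : Set X) → C ≠ ⊤ →
      ∃ (A₁ : Subgroup X) (t y : X) (k r : ℕ), IsStep A A₁ t y k r := by
    intro hNA hCtop
    have hAC : A ≤ C := Subgroup.le_centralizer_iff.mp hNA
    have hlt : Nat.card C < n :=
      hn ▸ lt_of_le_of_ne (Subgroup.card_le_card_group C) (fun e => hCtop (Subgroup.eq_top_of_card_eq _ e))
    obtain ⟨A₁, t, y, k, r, hs⟩ := ih _ hlt C rfl (h.normal C) (pCore_normal_subgroup C hcore)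
      (A.subgroupOf C) (fun a ha => Subtype.ext (hA _ ha))
      (fun e => hA1 (by
        rw [Subgroup.subgroupOf_eq_bot, disjoint_iff, inf_eq_left.mpr hAC] at e
        exact e))
    have := hs.map C.subtype C.subtype_injective
    rw [Subgroup.map_subgroupOf_eq_of_le hAC] at this
    exact ⟨_, _, _, _, _, this⟩
  by_cases hna : IsMulCommutative N
  · -- abelian, hence of odd order
    have hodd : Odd (Nat.card N) := by
      rw [← Nat.not_even_iff_odd, even_iff_two_dvd]
      intro hd
      let P : Sylow 2 N := default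
      haveI : (P : Subgroup N).Normal := by
        letI : CommGroup N := { (inferInstance : Group N) with mul_comm := hna.is_comm.comm }
        exact Subgroup.normal_of_comm _
      haveI := Sylow.characteristic_of_normal P inferInstance
      have hP : (P : Subgroup N).map N.subtype ≤ Cfsg.pCore 2 X :=
        CfsgLib.Fitting.le_pCore (CfsgLib.PSolvable.normal_map_of_characteristic N _) (P.2.map _)
      rw [hcore, le_bot_iff, Subgroup.map_eq_bot_iff_of_injective _ N.subtype_injective] at hP
      exact P.ne_bot_of_dvd_card hd hP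
    by_cases hNA : N ≤ Subgroup.centralizer (A : Set X)
    swap
    · obtain ⟨B₂, hB₂, hidx, x, hx, -, d, hd, hd1, hinv, hcd⟩ :=
        CfsgLib.PushUp.exists_inverted hA Subgroup.le_normalizer_of_normal hodd hNA
      obtain ⟨r, hr, hrd⟩ := Nat.exists_prime_and_dvd (fun e => hd1 (orderOf_eq_one_iff.mp e))
      have ho : orderOf (d ^ (orderOf d / r)) = r := orderOf_pow_orderOf_div (orderOf_pos d).ne' hrd
      have hr2 : r ≠ 2 := by
        rintro rfl
        exact Nat.not_even_iff_odd.mpr (hodd.of_dvd_nat (N.orderOf_dvd_natCard hd))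
          (even_iff_two_dvd.mpr hrd)
      exact ⟨B₂, x, _, 1, r, isStep_hyperplane h.free hA hB₂ hidx hx hr hr2 ho
        (by rw [← conj_pow, hinv, inv_pow]) (fun a ha => (Commute.pow_right (hcd a ha) _).eq)⟩
    by_cases hCtop : C = ⊤
    swap
    · exact hdescend hNA hCtop
    -- central: lift from the quotient
    have hcen : ∀ z ∈ N, ∀ g : X, z * g = g * z := fun z hz g =>
      (Subgroup.mem_centralizer_iff.mp (hCtop.ge (Subgroup.mem_top g)) z hz)
    set π := QuotientGroup.mk' N with hπ
    have hπs : Function.Surjective π := QuotientGroup.mk'_surjective N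
    have hπ1 : ∀ {g : X}, π g = 1 ↔ g ∈ N := fun {g} => QuotientGroup.eq_one_iff g
    have hlt : Nat.card (X ⧸ N) < n := by
      rw [← hn, N.card_eq_card_quotient_mul_card_subgroup]
      have h2 : 2 ≤ Nat.card N := Subgroup.one_lt_card_iff_ne_bot N |>.mpr hN0
      have := Nat.card_pos (α := X ⧸ N)
      nlinarith
    have hcore' : Cfsg.pCore 2 (X ⧸ N) = ⊥ := CfsgLib.PushUp.pCore_quotient_eq_bot
      fun T hT hNT hTp => by
        haveI := hT
        let P : Sylow 2 T := default
        have hTP : ∀ x : T, ∃ q ∈ (P : Subgroup T), π (x : X) = π (q : X) := by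
          intro x
          have hsur : Function.Surjective (π.subgroupMap T) := π.subgroupMap_surjective T
          have h1 : ((P.mapSurjective hsur : Sylow 2 (T.map π)) : Subgroup (T.map π)) = ⊤ :=
            ((P.mapSurjective hsur).is_maximal' (hTp.to_subgroup ⊤) le_top).symm
          rw [Sylow.coe_mapSurjective] at h1
          obtain ⟨q, hq, hqx⟩ := h1.ge (Subgroup.mem_top (π.subgroupMap T x))
          exact ⟨q, hq, (congrArg Subtype.val hqx).symm⟩
        have hPn : (P : Subgroup T).Normal := ⟨fun p hp x => by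
          obtain ⟨q, hq, hqx⟩ := hTP x
          have hz : (x : X) * (q : X)⁻¹ ∈ N := hπ1.mp (by rw [map_mul, map_inv, hqx, mul_inv_cancel])
          have he : x * p * x⁻¹ = q * p * q⁻¹ := Subtype.ext (by
            have hc := hcen _ hz ((q : X) * p * (q : X)⁻¹)
            simp only [Subgroup.coe_mul, Subgroup.coe_inv]
            calc (x : X) * p * (x : X)⁻¹
                = ((x : X) * (q : X)⁻¹) * ((q : X) * p * (q : X)⁻¹) * ((x : X) * (q : X)⁻¹)⁻¹ := by
                  group
              _ = _ := by rw [hc, mul_inv_cancel_right])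
          rw [he]
          exact mul_mem (mul_mem hq hp) (inv_mem hq)⟩
        haveI := Sylow.characteristic_of_normal P hPn
        have hP : (P : Subgroup T).map T.subtype ≤ Cfsg.pCore 2 X :=
          CfsgLib.Fitting.le_pCore (CfsgLib.PSolvable.normal_map_of_characteristic T _) (P.2.map _)
        rw [hcore, le_bot_iff, Subgroup.map_eq_bot_iff_of_injective _ T.subtype_injective] at hP
        intro x hx
        obtain ⟨q, hq, hqx⟩ := hTP ⟨x, hx⟩
        rw [hP, Subgroup.mem_bot] at hq
        rw [hq, Subgroup.coe_one, map_one] at hqx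
        exact hπ1.mp hqx
    have hNmeet : ∀ a ∈ A, a ∈ N → a = 1 := fun a ha haN => by
      have h2 : orderOf a ∣ 2 := orderOf_dvd_of_pow_eq_one (by rw [pow_two, hA a ha])
      exact orderOf_eq_one_iff.mp (Nat.eq_one_of_dvd_coprimes
        (Nat.coprime_two_left.mpr hodd) h2 (N.orderOf_dvd_natCard haN))
    obtain ⟨Ab, tb, yb, k, r, hs⟩ := ih _ hlt (X ⧸ N) rfl (h.of_surjective π hπs) hcore'
      (A.map π) (by rintro _ ⟨a, ha, rfl⟩; rw [← map_mul, hA a ha, map_one])
      (fun e => hA1 (eq_bot_iff.mpr fun a ha => Subgroup.mem_bot.mpr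
        (hNmeet a ha (hπ1.mp (Subgroup.mem_bot.mp (e ▸ Subgroup.mem_map_of_mem π ha))))))
    obtain ⟨t, htA, rfl⟩ := hs.mem
    obtain ⟨g, rfl⟩ := hπs yb
    set z := t * g * t⁻¹ * g with hz
    have hzN : z ∈ N := hπ1.mp (by rw [hz, map_mul, map_mul, map_mul, map_inv, hs.inv, inv_mul_cancel])
    obtain ⟨j, hj⟩ : ∃ j, orderOf z = 2 * j + 1 := hodd.of_dvd_nat (N.orderOf_dvd_natCard hzN)
    set y := g * z ^ j with hy
    have hπy : π y = π g := by rw [hy, map_mul, map_pow, hπ1.mpr hzN, one_pow, mul_one]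
    have hzc : ∀ x : X, Commute z x := hcen z hzN
    have hyinv : t * y * t⁻¹ = y⁻¹ := by
      have e1 : t * g * t⁻¹ = z * g⁻¹ := by rw [hz, mul_inv_cancel_right]
      have h2 : z ^ j * z * z ^ j = 1 := by
        rw [← pow_succ, ← pow_add, show j + 1 + j = orderOf z by omega, pow_orderOf_eq_one]
      calc t * y * t⁻¹ = (t * g * t⁻¹) * (t * z ^ j * t⁻¹) := by rw [hy]; group
        _ = z * g⁻¹ * z ^ j := by
          rw [e1, ((hzc t).pow_left j).symm.eq, mul_inv_cancel_right (z ^ j) t]
        _ = z * z ^ j * g⁻¹ := by rw [mul_assoc, ← ((hzc g⁻¹).pow_left j).eq, ← mul_assoc]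
        _ = (z ^ j)⁻¹ * g⁻¹ := by
          congr 1
          refine eq_inv_of_mul_eq_one_right ?_
          rw [← mul_assoc]
          exact h2
        _ = y⁻¹ := by rw [hy, mul_inv_rev]
    obtain ⟨m, hm⟩ := exists_pow_orderOf π (g := y) (r := r) (by rw [hπy]; exact hs.ord)
    refine ⟨Ab.comap π ⊓ A, t, y ^ m, k, r, inf_le_right, htA, hs.prime, hs.five_le, hs.one_le,
      hs.big, hm, by rw [← conj_pow, hyinv, inv_pow], fun a ha => ?_, ?_⟩
    · have hcomm : π a * π y = π y * π a := by rw [hπy]; exact hs.comm _ ha.1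
      set w := a * y * a⁻¹ * y⁻¹ with hw
      have hwN : w ∈ N := hπ1.mp (by
        rw [hw, map_mul, map_mul, map_mul, map_inv, map_inv, hcomm, mul_inv_cancel_right,
          mul_inv_cancel])
      have hwy : a * y * a⁻¹ = w * y := by rw [hw, inv_mul_cancel_right]
      have haa := hA a ha.2
      have h2 : w * w = 1 := by
        have hcw := hcen w hwN
        have e : a * (a * y * a⁻¹) * a⁻¹ = y := by
          calc a * (a * y * a⁻¹) * a⁻¹ = (a * a) * y * (a * a)⁻¹ := by group
            _ = y := by rw [haa, inv_one, one_mul, mul_one]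
        rw [hwy, ← mul_assoc, ← hcw a, mul_assoc, mul_assoc, ← mul_assoc a, hwy, ← mul_assoc] at e
        exact mul_eq_right.mp e
      have hw1 : w = 1 := by
        have h3 : orderOf w ∣ 2 := orderOf_dvd_of_pow_eq_one (by rw [pow_two, h2])
        exact orderOf_eq_one_iff.mp (Nat.eq_one_of_dvd_coprimes (Nat.coprime_two_left.mpr hodd) h3
          (N.orderOf_dvd_natCard hwN))
      rw [hw1, one_mul] at hwy
      exact (Commute.pow_right (mul_inv_eq_iff_eq_mul.mp hwy : Commute a y) m).eq
    · have hinj : Set.InjOn π A := fun a ha b hb hab => inv_mul_eq_one.mp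
        (hNmeet _ (mul_mem (inv_mem ha) hb) (hπ1.mp (by rw [map_mul, map_inv, hab, inv_mul_cancel])))
      have hc1 : Nat.card (A.map π) = Nat.card A := Nat.card_image_of_injOn hinj
      have hc2 : Nat.card Ab = Nat.card ↥(Ab.comap π ⊓ A) := by
        refine Eq.trans ?_ (Nat.card_image_of_injOn (hinj.mono (inf_le_right : Ab.comap π ⊓ A ≤ A)))
        refine Nat.card_congr (Equiv.setCongr (Set.ext fun q => ?_))
        refine ⟨fun hq => ?_, ?_⟩
        · obtain ⟨a, ha, rfl⟩ := hs.le hq
          exact ⟨a, ⟨hq, ha⟩, rfl⟩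
        · rintro ⟨a, ha, rfl⟩; exact ha.1
      rw [← hc1, ← hc2]
      exact hs.card_le
  · by_cases hNA : N ≤ Subgroup.centralizer (A : Set X)
    · refine hdescend hNA fun e => hna ⟨⟨fun a b => Subtype.ext ?_⟩⟩
      exact (Subgroup.mem_centralizer_iff.mp (e.ge (Subgroup.mem_top (b : X))) a a.2)
    · obtain ⟨A₁, t, y, k, r, hs, -, -⟩ := exists_component_step h hmin hna hA hNA
      exact ⟨A₁, t, y, k, r, hs⟩

theorem exists_step {X : Type u} [Group X] [Finite X] (h : SK X) (hcore : Cfsg.pCore 2 X = ⊥)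
    {A : Subgroup X} (hA : ∀ a ∈ A, a * a = 1) (hA1 : A ≠ ⊥) :
    ∃ (A₁ : Subgroup X) (t y : X) (k r : ℕ), IsStep A A₁ t y k r :=
  exists_step_aux _ X rfl h hcore A hA hA1

end CfsgLib.LocalK
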