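import Cfsg.Agent.Lib.LocalK.Module
import Cfsg.Agent.Lib.LocalK.Exists

/-!
The squares inequalities for elementary abelian `2`-subgroups of linear groups without `S₃`-sections.
-/

set_option autoImplicit false
set_option linter.style.haveILetI false

namespace CfsgLib.LocalK

open scoped commutatorElement Pointwise
open CfsgLib.PushUp (cd cd_mul cd_mono_left cd_mono_right mem_centralizer_iff_conj conj_fix_iff)

universe u

variable {L : Type u} [Group L] [Finite L]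

/-- `|W : U| ≥ 2 ^ (4 k)` for an invariant proper subgroup `U` of a free module. -/
theorem free_index {W U : Subgroup L} (he : ∀ w ∈ W, w * w = 1) (hU : U ≤ W) (hne : U ≠ W)
    {y t : L} {k r : ℕ} (hr : r.Prime) (hr2 : r ≠ 2) (hbig : Big k r)
    (hy : ∃ j, orderOf y = r ^ j)
    (hyW : y ∈ Subgroup.normalizer (W : Set L)) (htW : t ∈ Subgroup.normalizer (W : Set L))
    (hyU : y ∈ Subgroup.normalizer (U : Set L)) (htU : t ∈ Subgroup.normalizer (U : Set L))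
    (hinv : t * y * t⁻¹ * y ∈ Subgroup.centralizer (W : Set L))
    (ht2 : t * t ∈ Subgroup.centralizer (W : Set L))
    (hfpf : W ⊓ Subgroup.centralizer ({y} : Set L) = ⊥) :
    2 ^ (4 * k) * Nat.card U ≤ Nat.card W := by
  have hcomm : ∀ {a b : L}, a ∈ W → b ∈ W → a * b = b * a := fun ha hb =>
    (Subgroup.mem_centralizer_iff.mp (CfsgLib.PushUp.comm_of_sq he hb) _ ha)
  set H := Subgroup.normalizer (U : Set L) with hH
  have hWH : W ≤ H := fun w hw => Subgroup.centralizer_le_normalizer _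
    (Subgroup.mem_centralizer_iff.mpr fun u hu => hcomm (hU hu) hw)
  have hUH : U ≤ H := Subgroup.le_normalizer
  haveI : (U.subgroupOf H).Normal := Subgroup.normal_subgroupOf_of_le_normalizer le_rfl
  set π := QuotientGroup.mk' (U.subgroupOf H) with hπ
  have hπ1 : ∀ {g : H}, π g = 1 ↔ (g : L) ∈ U := fun {g} =>
    (QuotientGroup.eq_one_iff g).trans Subgroup.mem_subgroupOf
  set W' := (W.subgroupOf H).map π with hW'
  set y' := π ⟨y, hyU⟩ with hy'
  set t' := π ⟨t, htU⟩ with ht'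
  have he' : ∀ w ∈ W', w * w = 1 := by
    rintro _ ⟨w, hw, rfl⟩
    rw [← map_mul, show w * w = 1 from Subtype.ext (he _ hw), map_one]
  have hmemn : ∀ {g : H}, (g : L) ∈ Subgroup.normalizer (W : Set L) →
      π g ∈ Subgroup.normalizer (W' : Set (H ⧸ U.subgroupOf H)) := fun {g} hg =>
    Subgroup.mem_normalizer_fintype (by
      rintro _ ⟨w, hw, rfl⟩
      exact ⟨g * w * g⁻¹, show (g : L) * (w : L) * (g : L)⁻¹ ∈ W from conj_mem_of_mem_normalizer hg hw,
        by rw [map_mul, map_mul, map_inv]⟩)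
  have hcen : ∀ {g : H}, (g : L) ∈ Subgroup.centralizer (W : Set L) →
      π g ∈ Subgroup.centralizer (W' : Set (H ⧸ U.subgroupOf H)) := fun {g} hg =>
    mem_centralizer_iff_conj.mpr (by
      rintro _ ⟨w, hw, rfl⟩
      rw [← map_inv, ← map_mul, ← map_mul]
      exact congrArg π (Subtype.ext (mem_centralizer_iff_conj.mp hg _ hw)))
  have hord : ∃ j, orderOf y' = r ^ j := by
    obtain ⟨j, hj⟩ := hy
    have h1 : orderOf y' ∣ r ^ j := by
      rw [← hj, ← Subgroup.orderOf_mk y hyU]; exact orderOf_map_dvd π _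
    obtain ⟨i, -, hi⟩ := (Nat.dvd_prime_pow hr).mp h1
    exact ⟨i, hi⟩
  -- injectivity of `w ↦ w * y w y⁻¹`
  have hfpf' : W' ⊓ Subgroup.centralizer ({y'} : Set (H ⧸ U.subgroupOf H)) = ⊥ := by
    rw [eq_bot_iff]
    rintro _ ⟨⟨w, hw, rfl⟩, hc⟩
    rw [Subgroup.mem_bot, hπ1]
    have h1 : y * (w : L) * y⁻¹ * (w : L)⁻¹ ∈ U := by
      have := mem_centralizer_singleton_conj.mp hc
      rw [hy', ← map_inv, ← map_mul, ← map_mul] at this
      exact hπ1.mp (show π (⟨y, hyU⟩ * w * ⟨y, hyU⟩⁻¹ * w⁻¹) = 1 by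
        rw [map_mul, this, map_inv, mul_inv_cancel])
    let ψ : U →* U :=
      { toFun := fun u => ⟨y * u * y⁻¹ * (u : L)⁻¹,
          mul_mem (conj_mem_of_mem_normalizer hyU u.2) (inv_mem u.2)⟩
        map_one' := Subtype.ext (by simp)
        map_mul' := fun a b => Subtype.ext (by
          show y * ((a : L) * b) * y⁻¹ * ((a : L) * b)⁻¹
            = y * a * y⁻¹ * (a : L)⁻¹ * (y * b * y⁻¹ * (b : L)⁻¹)
          have hm : y * (b : L) * y⁻¹ * (b : L)⁻¹ ∈ W :=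
            mul_mem (conj_mem_of_mem_normalizer hyW (hU b.2)) (inv_mem (hU b.2))
          rw [← hcomm hm (mul_mem (conj_mem_of_mem_normalizer hyW (hU a.2)) (inv_mem (hU a.2)))]
          calc y * ((a : L) * b) * y⁻¹ * ((a : L) * b)⁻¹
              = (y * a * y⁻¹) * (y * b * y⁻¹ * (b : L)⁻¹) * (a : L)⁻¹ := by group
            _ = _ := by rw [hcomm (conj_mem_of_mem_normalizer hyW (hU a.2)) hm]; group) }
    have hzero : ∀ v ∈ W, y * v * y⁻¹ * v⁻¹ = 1 → v = 1 := fun v hv h =>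
      Subgroup.mem_bot.mp (hfpf ▸ ⟨hv, mem_centralizer_singleton_conj.mpr (mul_inv_eq_one.mp h)⟩)
    have hψ : Function.Bijective ψ := Finite.injective_iff_bijective.mp ((injective_iff_map_eq_one ψ).mpr
      fun u hu => Subtype.ext (hzero _ (hU u.2) (congrArg Subtype.val hu)))
    obtain ⟨u, hu⟩ := hψ.2 ⟨_, h1⟩
    have hu' : y * (u : L) * y⁻¹ * (u : L)⁻¹ = y * (w : L) * y⁻¹ * (w : L)⁻¹ := congrArg Subtype.val hu
    have hv : y * ((u : L)⁻¹ * w) * y⁻¹ * ((u : L)⁻¹ * w)⁻¹ = 1 := by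
      have hc := hcomm (inv_mem (conj_mem_of_mem_normalizer hyW (hU u.2)))
        (mul_mem (conj_mem_of_mem_normalizer hyW (show (w : L) ∈ W from hw))
          (inv_mem (show (w : L) ∈ W from hw)))
      calc y * ((u : L)⁻¹ * w) * y⁻¹ * ((u : L)⁻¹ * w)⁻¹
          = (y * u * y⁻¹)⁻¹ * (y * w * y⁻¹ * (w : L)⁻¹) * u := by group
        _ = (y * w * y⁻¹ * (w : L)⁻¹) * ((y * u * y⁻¹)⁻¹ * u) := by rw [hc]; group
        _ = (y * u * y⁻¹ * (u : L)⁻¹) * ((y * u * y⁻¹)⁻¹ * u) := by rw [hu']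
        _ = y * u * y⁻¹ * ((u : L)⁻¹ * (y * u * y⁻¹)⁻¹) * u := by group
        _ = y * u * y⁻¹ * ((y * u * y⁻¹)⁻¹ * (u : L)⁻¹) * u := by
            rw [hcomm (inv_mem (hU u.2)) (inv_mem (conj_mem_of_mem_normalizer hyW (hU u.2)))]
        _ = 1 := by group
    have := hzero _ (mul_mem (inv_mem (hU u.2)) (show (w : L) ∈ W from hw)) hv
    rw [inv_mul_eq_one] at this
    rw [← this]
    exact u.2
  obtain ⟨hsq, hge, -⟩ := free_card he' hr hr2 hbig hord (hmemn hyW) (hmemn htW)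
    (by
      have := hcen (g := ⟨t, htU⟩ * ⟨y, hyU⟩ * ⟨t, htU⟩⁻¹ * ⟨y, hyU⟩) hinv
      rwa [map_mul, map_mul, map_mul, map_inv] at this)
    (by
      have := hcen (g := ⟨t, htU⟩ * ⟨t, htU⟩) ht2
      rwa [map_mul] at this)
    hfpf'
  have hW'ne : W' ≠ ⊥ := fun h => hne (le_antisymm hU fun w hw =>
    hπ1.mp (Subgroup.mem_bot.mp (h.le (Subgroup.mem_map_of_mem π (show (⟨w, hWH hw⟩ : H) ∈ W.subgroupOf H from hw)))))
  have hcard : Nat.card W' * Nat.card U = Nat.card W := by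
    rw [hW', ← Subgroup.relIndex_ker, hπ, QuotientGroup.ker_mk', Subgroup.relIndex_subgroupOf hWH,
      mul_comm]
    have h := Subgroup.relIndex_mul_relIndex ⊥ U W bot_le hU
    rwa [Subgroup.relIndex_bot_left, Subgroup.relIndex_bot_left] at h
  rw [← hcard, hsq, show 4 * k = 2 * k * 2 by ring, pow_mul]
  exact Nat.mul_le_mul_right _ (Nat.pow_le_pow_left (hge hW'ne) 2)

theorem exists_fixed_ne_one {W B : Subgroup L} (he : ∀ w ∈ W, w * w = 1) (hW : W ≠ ⊥)
    (hBW : B ≤ Subgroup.normalizer (W : Set L))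
    (hB : ∀ b ∈ B, b * b ∈ Subgroup.centralizer (W : Set L)) :
    W ⊓ Subgroup.centralizer (B : Set L) ≠ ⊥ := by
  haveI : Fact (Nat.Prime 2) := ⟨Nat.prime_two⟩
  let φ := CfsgLib.Coprime.conjAct (A := B) (V := W) hBW
  have hp : IsPGroup 2 φ.range := by
    rintro ⟨_, b, rfl⟩
    refine ⟨1, Subtype.ext ?_⟩
    rw [pow_one, SubmonoidClass.coe_pow, pow_two, ← map_mul]
    refine MulEquiv.ext fun w => Subtype.ext ?_
    exact mem_centralizer_iff_conj.mp (hB b b.2) _ w.2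
  letI : MulAction φ.range W := MulAction.compHom W φ.range.subtype
  have hd : 2 ∣ Nat.card W := by
    obtain ⟨a, ha⟩ := exists_card_eq_two_pow he
    rcases a with _ | a
    · exact absurd (Subgroup.card_eq_one.mp (by rw [ha, pow_zero])) hW
    · rw [ha, pow_succ]; exact dvd_mul_left 2 _
  obtain ⟨w, hw, hne⟩ := hp.exists_fixed_point_of_prime_dvd_card_of_fixed_point W hd
    (a := (1 : W)) (fun g => map_one (g : MulAut W))
  intro hbot
  refine hne.symm (Subtype.ext (Subgroup.mem_bot.mp (hbot ▸ ⟨w.2, ?_⟩)))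
  refine Subgroup.mem_centralizer_iff.mpr fun b hb => (conj_fix_iff.mp ?_).symm
  exact congrArg Subtype.val (hw ⟨φ ⟨b, hb⟩, ⟨b, hb⟩, rfl⟩)

/-- A subgroup inducing a `2`-group on `W` does not satisfy `[W, B] = W`. -/
theorem commutator_ne_self {W B : Subgroup L} (he : ∀ w ∈ W, w * w = 1) (hW : W ≠ ⊥)
    (hBW : B ≤ Subgroup.normalizer (W : Set L))
    (hB : ∀ b ∈ B, b * b ∈ Subgroup.centralizer (W : Set L)) : ⁅W, B⁆ ≠ W := by
  intro heq
  obtain ⟨U, hU⟩ := (Set.toFinite {U : Subgroup L | U ≤ W ∧ U ≠ W ∧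
    B ≤ Subgroup.normalizer (U : Set L)}).exists_maximal ⟨⊥, bot_le, hW.symm, fun b _ => by
      exact Subgroup.mem_normalizer_fintype fun x hx => by simp_all⟩
  obtain ⟨hUW, hUne, hBU⟩ := hU.prop
  set H := Subgroup.normalizer (U : Set L) with hH
  have hWH : W ≤ H := fun w hw => Subgroup.centralizer_le_normalizer _
    (Subgroup.mem_centralizer_iff.mpr fun u hu =>
      Subgroup.mem_centralizer_iff.mp (CfsgLib.PushUp.comm_of_sq he hw) _ (hUW hu))
  haveI : (U.subgroupOf H).Normal := Subgroup.normal_subgroupOf_of_le_normalizer le_rfl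
  set π := QuotientGroup.mk' (U.subgroupOf H) with hπ
  have hπ1 : ∀ {g : H}, π g = 1 ↔ (g : L) ∈ U := fun {g} =>
    (QuotientGroup.eq_one_iff g).trans Subgroup.mem_subgroupOf
  set W' := (W.subgroupOf H).map π with hW'
  set B' := (B.subgroupOf H).map π with hB'
  have h1 : W' ≠ ⊥ := fun h => hUne (le_antisymm hUW fun w hw => hπ1.mp (Subgroup.mem_bot.mp
    (h.le (Subgroup.mem_map_of_mem π (show (⟨w, hWH hw⟩ : H) ∈ W.subgroupOf H from hw)))))
  have h2 := exists_fixed_ne_one (W := W') (B := B')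
    (by
      rintro _ ⟨w, hw, rfl⟩
      rw [← map_mul, show w * w = 1 from Subtype.ext (he _ hw), map_one])
    h1
    (by
      rintro _ ⟨b, hb, rfl⟩
      refine Subgroup.mem_normalizer_fintype ?_
      rintro _ ⟨w, hw, rfl⟩
      exact ⟨b * w * b⁻¹,
        show (b : L) * (w : L) * (b : L)⁻¹ ∈ W from conj_mem_of_mem_normalizer (hBW hb) hw,
        by rw [map_mul, map_mul, map_inv]⟩)
    (by
      rintro _ ⟨b, hb, rfl⟩
      refine mem_centralizer_iff_conj.mpr ?_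
      rintro _ ⟨w, hw, rfl⟩
      rw [← map_mul, ← map_inv, ← map_mul, ← map_mul]
      exact congrArg π (Subtype.ext (mem_centralizer_iff_conj.mp (hB _ hb) _ hw)))
  obtain ⟨_, ⟨⟨w, hw, rfl⟩, hfix⟩, hne⟩ := Subgroup.bot_or_exists_ne_one _ |>.resolve_left h2
  -- the fixed point together with `U` is invariant
  have hwU : (w : L) ∉ U := fun h => hne (hπ1.mpr h)
  set U₁ := U ⊔ Subgroup.zpowers (w : L) with hU₁
  have hU₁W : U₁ ≤ W := sup_le hUW (Subgroup.zpowers_le.mpr hw)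
  have hfix' : ∀ b ∈ B, b * (w : L) * b⁻¹ * (w : L)⁻¹ ∈ U := fun b hb => by
    have h3 := mem_centralizer_iff_conj.mp
      (show π w ∈ Subgroup.centralizer (B' : Set _) from hfix) (π ⟨b, hBU hb⟩) ⟨_, hb, rfl⟩
    refine hπ1.mp (show π (⟨b, hBU hb⟩ * w * ⟨b, hBU hb⟩⁻¹ * w⁻¹) = 1 from ?_)
    rw [map_mul, map_mul, map_mul, map_inv, map_inv, mul_inv_eq_one]
    exact conj_fix_iff.mpr (conj_fix_iff.mp h3).symm
  have hU₁n : B ≤ Subgroup.normalizer (U₁ : Set L) := fun b hb => by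
    have hle : U₁ ≤ U₁.comap (MulAut.conj b).toMonoidHom := by
      refine sup_le (fun u hu => ?_) (Subgroup.zpowers_le.mpr ?_)
      · show b * u * b⁻¹ ∈ U₁
        exact Subgroup.mem_sup_left (conj_mem_of_mem_normalizer (hBU hb) hu)
      · show b * (w : L) * b⁻¹ ∈ U₁
        rw [show b * (w : L) * b⁻¹ = b * (w : L) * b⁻¹ * (w : L)⁻¹ * w by group]
        exact mul_mem (Subgroup.mem_sup_left (hfix' b hb))
          (Subgroup.mem_sup_right (Subgroup.mem_zpowers _))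
    exact Subgroup.mem_normalizer_fintype fun x hx => hle hx
  have hU₁eq : U₁ = W := by
    by_contra hc
    exact hwU (hU.le_of_ge ⟨hU₁W, hc, hU₁n⟩ le_sup_left
      (Subgroup.mem_sup_right (Subgroup.mem_zpowers _)))
  refine hUne (le_antisymm hUW (heq ▸ Subgroup.commutator_le.mpr fun v hv b hb => ?_))
  replace hv : v ∈ (U : Set L) * ((Subgroup.zpowers (w : L) : Subgroup L) : Set L) := by
    rw [← Subgroup.coe_mul_of_right_le_normalizer_left U _
      (show Subgroup.zpowers (w : L) ≤ _ from Subgroup.zpowers_le.mpr (hWH hw))]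
    exact hU₁eq.ge hv
  obtain ⟨u, hu, _, ⟨j, rfl⟩, rfl⟩ := hv
  rw [commutatorElement_def]
  have h4 : ∀ j : ℤ, b * (w : L) ^ j * b⁻¹ * ((w : L) ^ j)⁻¹ ∈ U := fun j => by
    have h5 : π (⟨b, hBU hb⟩ * w ^ j * ⟨b, hBU hb⟩⁻¹ * (w ^ j)⁻¹) = 1 := by
      rw [map_mul, map_mul, map_mul, map_inv, map_inv, map_zpow, ← conj_zpow, mul_inv_eq_one]
      congr 1
      have h6 := hπ1.mpr (show ((⟨b, hBU hb⟩ * w * ⟨b, hBU hb⟩⁻¹ * w⁻¹ : H) : L) ∈ U from hfix' b hb)
      rwa [map_mul, map_mul, map_mul, map_inv, map_inv, mul_inv_eq_one] at h6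
    have h7 := hπ1.mp h5
    simpa only [Subgroup.coe_mul, Subgroup.coe_inv, Subgroup.coe_zpow] using h7
  rw [show u * (w : L) ^ j * b * (u * (w : L) ^ j)⁻¹ * b⁻¹
    = u * (b * (w : L) ^ j * b⁻¹ * ((w : L) ^ j)⁻¹)⁻¹ * (b * u⁻¹ * b⁻¹) by group]
  exact mul_mem (mul_mem hu (inv_mem (h4 j))) (conj_mem_of_mem_normalizer (hBU hb) (inv_mem hu))

/-- The bounds for the image in a faithful quotient. -/
theorem offender_bound {W G : Subgroup L} (he : ∀ w ∈ W, w * w = 1)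
    (hGW : G ≤ Subgroup.normalizer (W : Set L)) {X : Type u} [Group X] [Finite X] (π : G →* X)
    (hπ : Function.Surjective π)
    (hker : π.ker = (Subgroup.centralizer (W : Set L)).subgroupOf G) (hX : SK X)
    (hcore : Cfsg.pCore 2 X = ⊥) (A : Subgroup L) (hAG : A ≤ G)
    (hA2 : ∀ a ∈ A, a * a ∈ Subgroup.centralizer (W : Set L)) :
    cd A W ^ 2 ≤ cd W A ∧ cd A W ^ 2 ≤ Nat.card ↥⁅W, A⁆ := by
  suffices ∀ (n : ℕ) (A : Subgroup L), Nat.card A = n → A ≤ G →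
      (∀ a ∈ A, a * a ∈ Subgroup.centralizer (W : Set L)) →
      cd A W ^ 2 ≤ cd W A ∧ cd A W ^ 2 ≤ Nat.card ↥⁅W, A⁆ from this _ A rfl hAG hA2
  intro n
  induction n using Nat.strong_induction_on with
  | _ n ih =>
  intro A hn hAG hA2
  have hπ1 : ∀ {g : G}, π g = 1 ↔ (g : L) ∈ Subgroup.centralizer (W : Set L) := fun {g} => by
    rw [← MonoidHom.mem_ker, hker, Subgroup.mem_subgroupOf]
  by_cases hAC : A ≤ Subgroup.centralizer (W : Set L)
  · rw [CfsgLib.PushUp.cd_eq_one_iff.mpr hAC, one_pow]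
    exact ⟨CfsgLib.PushUp.cd_pos _ _, Nat.card_pos⟩
  set Ab := (A.subgroupOf G).map π with hAb
  have hAb2 : ∀ a ∈ Ab, a * a = 1 := by
    rintro _ ⟨a, ha, rfl⟩
    rw [← map_mul]; exact hπ1.mpr (hA2 _ ha)
  have hAbne : Ab ≠ ⊥ := fun h => hAC fun a ha => hπ1.mp (Subgroup.mem_bot.mp
    (h.le (Subgroup.mem_map_of_mem π (show (⟨a, hAG ha⟩ : G) ∈ A.subgroupOf G from ha))))
  obtain ⟨A₁b, tb, yb, k, r, hs⟩ := exists_step hX hcore hAb2 hAbne
  obtain ⟨⟨t, htG⟩, htA, rfl⟩ := hs.mem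
  change t ∈ A at htA
  obtain ⟨yl, hyl⟩ := hπ yb
  obtain ⟨m, hm⟩ := exists_pow_orderOf π (g := yl) (r := r) (by rw [hyl]; exact hs.ord)
  -- a power of `yl` of order `r`; use an `r`-element over `yb`
  haveI := Fact.mk hs.prime
  obtain ⟨⟨y, hyG⟩, hyo, hπy⟩ : ∃ g : G, (∃ j, orderOf g = r ^ j) ∧ π g = yb := by
    obtain ⟨e, d, hd, hed⟩ := Nat.exists_eq_pow_mul_and_not_dvd (orderOf_pos yl).ne' r hs.prime.ne_one
    have hcop : (orderOf (yl ^ d)).Coprime d := by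
      rw [orderOf_pow' _ (fun h0 => (orderOf_pos yl).ne' (by rw [hed, h0, mul_zero])), hed,
        Nat.gcd_mul_left_left, Nat.mul_div_cancel _ (Nat.pos_of_ne_zero fun h0 =>
          (orderOf_pos yl).ne' (by rw [hed, h0, mul_zero]))]
      exact ((hs.prime.coprime_iff_not_dvd).mpr hd).pow_left e
    have hcop' : (orderOf yb).Coprime d := by
      rw [hs.ord]; exact hs.prime.coprime_iff_not_dvd.mpr hd
    obtain ⟨i, hi⟩ := exists_pow_eq_self_of_coprime (x := yb) (n := d) hcop'.symm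
    refine ⟨(yl ^ d) ^ i, ?_, by rw [map_pow, map_pow, hyl, hi]⟩
    have h1 : orderOf ((yl ^ d) ^ i) ∣ r ^ e := by
      refine orderOf_dvd_of_pow_eq_one ?_
      rw [← pow_mul, ← pow_mul, mul_comm i, ← mul_assoc, mul_comm d, ← hed, pow_mul,
        pow_orderOf_eq_one, one_pow]
    obtain ⟨j, -, hj⟩ := (Nat.dvd_prime_pow hs.prime).mp h1
    exact ⟨j, hj⟩
  rw [Subgroup.orderOf_mk] at hyo
  have hr2 : r ≠ 2 := fun h => by have := hs.five_le; omega
  have hyodd : Odd (orderOf y) := by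
    obtain ⟨j, hj⟩ := hyo
    rw [hj]; exact (hs.prime.eq_two_or_odd'.resolve_left hr2).pow
  have hinv : t * y * t⁻¹ * y ∈ Subgroup.centralizer (W : Set L) :=
    hπ1 (g := ⟨t, htG⟩ * ⟨y, hyG⟩ * ⟨t, htG⟩⁻¹ * ⟨y, hyG⟩) |>.mp (by
      rw [map_mul, map_mul, map_mul, map_inv, hπy, hs.inv, inv_mul_cancel])
  set A₁ := (A₁b.comap π).map G.subtype ⊓ A with hA₁
  have hA₁mem : ∀ {a : L}, a ∈ A₁ ↔ ∃ ha : a ∈ A, π ⟨a, hAG ha⟩ ∈ A₁b := fun {a} =>
    ⟨fun ⟨⟨g, hg, hga⟩, ha⟩ => ⟨ha, by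
      rwa [show (⟨a, hAG ha⟩ : G) = g from Subtype.ext hga.symm]⟩,
      fun ⟨ha, h⟩ => ⟨⟨⟨a, hAG ha⟩, h, rfl⟩, ha⟩⟩
  have hA₁A : A₁ ≤ A := inf_le_right
  have htA₁ : t ∉ A₁ := fun h => hs.not_mem (hA₁mem.mp h).2
  have hlt : Nat.card A₁ < n :=
    hn ▸ lt_of_le_of_ne (Subgroup.card_le_of_le hA₁A) (fun e =>
      htA₁ (Subgroup.eq_of_le_of_card_ge hA₁A e.ge ▸ htA))
  obtain ⟨ih1, ih2⟩ := ih _ hlt A₁ rfl (hA₁A.trans hAG) (fun a ha => hA2 a (hA₁A ha))
  have hkcd : cd A W ≤ 2 ^ k * cd A₁ W := by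
    have e : ∀ B : Subgroup L, B ≤ G → cd B W = Nat.card ((B.subgroupOf G).map π) := fun B hB => by
      rw [← Subgroup.relIndex_ker, hker, cd, Subgroup.relIndex_subgroupOf hB]
    have hA₁im : (A₁.subgroupOf G).map π = A₁b := le_antisymm (by
      rintro _ ⟨a, ha, rfl⟩
      exact (hA₁mem.mp ha).2) fun q hq => by
      obtain ⟨a, ha, rfl⟩ := hs.le hq
      exact ⟨a, hA₁mem.mpr ⟨ha, hq⟩, rfl⟩
    rw [e A hAG, e A₁ (hA₁A.trans hAG), hA₁im]
    exact hs.card_le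
  have hyW : y ∈ Subgroup.normalizer (W : Set L) := hGW hyG
  have htW : t ∈ Subgroup.normalizer (W : Set L) := hGW htG
  have ht2 := hA2 t htA
  set W₁ := ⁅W, Subgroup.zpowers y⁆ with hW₁
  set W₀ := W ⊓ Subgroup.centralizer ({y} : Set L) with hW₀
  obtain ⟨hmeet, hsupW⟩ := decompose he hyodd hyW
  have hW₁W : W₁ ≤ W := commutator_le_self hyW
  have he₁ : ∀ w ∈ W₁, w * w = 1 := fun w hw => he w (hW₁W hw)
  have hfpf : W₁ ⊓ Subgroup.centralizer ({y} : Set L) = ⊥ := le_bot_iff.mp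
    (hmeet ▸ le_inf (le_inf (inf_le_left.trans hW₁W) inf_le_right) inf_le_left)
  have hA₁y : ∀ a ∈ A₁, a * y * a⁻¹ * y⁻¹ ∈ Subgroup.centralizer (W : Set L) := fun a ha => by
    obtain ⟨haA, hab⟩ := hA₁mem.mp ha
    refine hπ1 (g := ⟨a, hAG haA⟩ * ⟨y, hyG⟩ * ⟨a, hAG haA⟩⁻¹ * ⟨y, hyG⟩⁻¹) |>.mp ?_
    rw [map_mul, map_mul, map_mul, map_inv, map_inv, hπy, hs.comm _ hab, mul_inv_cancel_right,
      mul_inv_cancel]
  have hpowG : ∀ {g : L}, g ∈ Subgroup.zpowers y → g ∈ G := fun hg => Subgroup.zpowers_le.mpr hyG hg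
  have hconjy : ∀ {a : L} (haA : a ∈ A) {g : L} (hg : g ∈ Subgroup.zpowers y) (e : ℤ),
      π ⟨a, hAG haA⟩ * yb * (π ⟨a, hAG haA⟩)⁻¹ = yb ^ e →
      ∃ g' ∈ Subgroup.zpowers y, g'⁻¹ * (a * g * a⁻¹) ∈ Subgroup.centralizer (W : Set L) := by
    intro a haA g hg e he'
    obtain ⟨j, rfl⟩ := hg
    refine ⟨y ^ (e * j), ⟨_, rfl⟩, hπ1 (g := (⟨y, hyG⟩ ^ (e * j))⁻¹ *
      (⟨a, hAG haA⟩ * ⟨y, hyG⟩ ^ j * ⟨a, hAG haA⟩⁻¹)) |>.mp ?_⟩
    rw [map_mul, map_inv, map_mul, map_mul, map_inv, map_zpow, map_zpow, hπy, ← conj_zpow, he',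
      ← zpow_mul, inv_mul_cancel]
  have hA₁n : A₁ ≤ Subgroup.normalizer (W₁ : Set L) := fun a ha =>
    mem_normalizer_commutator hyW (hGW (hAG (hA₁A ha))) fun g hg =>
      hconjy (hA₁A ha) hg 1 (by
        rw [hs.comm _ (hA₁mem.mp ha).2, mul_inv_cancel_right, zpow_one])
  have htn : t ∈ Subgroup.normalizer (W₁ : Set L) := mem_normalizer_commutator hyW htW fun g hg =>
    hconjy htA hg (-1) (by rw [zpow_neg_one]; exact hs.inv)
  have hyn : y ∈ Subgroup.normalizer (W₁ : Set L) := mem_normalizer_commutator hyW hyW fun g hg =>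
    ⟨g, hg, by
      obtain ⟨j, rfl⟩ := hg
      show (y ^ j)⁻¹ * (y * y ^ j * y⁻¹) ∈ _
      rw [show y * y ^ j * y⁻¹ = y ^ j by group, inv_mul_cancel]
      exact one_mem _⟩
  have hW₁ne : W₁ ≠ ⊥ := fun h => by
    rw [← hW₁, h, sup_bot_eq] at hsupW
    have h2 : y ∈ Subgroup.centralizer (W : Set L) := mem_centralizer_iff_conj.mpr fun w hw =>
      mem_centralizer_singleton_conj.mp (hsupW.ge hw).2
    have h3 := (hπ1 (g := ⟨y, hyG⟩)).mpr h2
    rw [hπy] at h3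
    exact hs.ne_one h3
  have hinv₁ : t * y * t⁻¹ * y ∈ Subgroup.centralizer (W₁ : Set L) :=
    CfsgLib.PushUp.centralizer_mono hW₁W hinv
  have ht2₁ : t * t ∈ Subgroup.centralizer (W₁ : Set L) := CfsgLib.PushUp.centralizer_mono hW₁W ht2
  have hA₁2 : ∀ a ∈ A₁, a * a ∈ Subgroup.centralizer (W₁ : Set L) := fun a ha =>
    CfsgLib.PushUp.centralizer_mono hW₁W (hA2 a (hA₁A ha))
  -- elements normalizing `A₁` modulo `C(W)` preserve its fixed points and its commutators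
  have hcommA : ∀ {g : L}, g ∈ Subgroup.normalizer (W : Set L) →
      (∀ a ∈ A₁, a * g * a⁻¹ * g⁻¹ ∈ Subgroup.centralizer (W : Set L)) →
      ∀ a ∈ A₁, ∀ w ∈ W, a * (g * w * g⁻¹) * a⁻¹ = g * (a * w * a⁻¹) * g⁻¹ := by
    intro g hg hc a ha w hw
    have h1 : g * (a * w * a⁻¹) * g⁻¹ ∈ W :=
      conj_mem_of_mem_normalizer hg (conj_mem_of_mem_normalizer (hGW (hAG (hA₁A ha))) hw)
    calc a * (g * w * g⁻¹) * a⁻¹ = (a * g * a⁻¹ * g⁻¹) * (g * (a * w * a⁻¹) * g⁻¹) *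
          (a * g * a⁻¹ * g⁻¹)⁻¹ := by group
      _ = _ := mem_centralizer_iff_conj.mp (hc a ha) _ h1
  have htcomm : ∀ a ∈ A₁, a * t * a⁻¹ * t⁻¹ ∈ Subgroup.centralizer (W : Set L) := fun a ha => by
    refine hπ1 (g := ⟨a, hAG (hA₁A ha)⟩ * ⟨t, htG⟩ * ⟨a, hAG (hA₁A ha)⟩⁻¹ * ⟨t, htG⟩⁻¹) |>.mp ?_
    rw [map_mul, map_mul, map_mul, map_inv, map_inv,
      comm_of_sq hAb2 (Subgroup.mem_map_of_mem π
        (show (⟨a, hAG (hA₁A ha)⟩ : G) ∈ A.subgroupOf G from hA₁A ha))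
        (Subgroup.mem_map_of_mem π (show (⟨t, htG⟩ : G) ∈ A.subgroupOf G from htA)),
      mul_inv_cancel_right, mul_inv_cancel]
  constructor
  · -- fixed points
    set V := W₁ ⊓ Subgroup.centralizer (A₁ : Set L) with hV
    have hVne : V ≠ ⊥ := exists_fixed_ne_one he₁ hW₁ne hA₁n hA₁2
    have hVn : ∀ {g : L}, g ∈ Subgroup.normalizer (W₁ : Set L) →
        g ∈ Subgroup.normalizer (W : Set L) →
        (∀ a ∈ A₁, a * g * a⁻¹ * g⁻¹ ∈ Subgroup.centralizer (W : Set L)) →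
        g ∈ Subgroup.normalizer (V : Set L) := fun {g} h1 h2 h3 =>
      Subgroup.mem_normalizer_fintype fun x hx => ⟨conj_mem_of_mem_normalizer h1 hx.1,
        Subgroup.mem_centralizer_iff.mpr fun a ha => (conj_fix_iff.mp (by
          rw [hcommA h2 h3 a ha x (hW₁W hx.1),
            conj_fix_iff.mpr (Subgroup.mem_centralizer_iff.mp hx.2 a ha).symm])).symm⟩
    have hfV : V ⊓ Subgroup.centralizer ({y} : Set L) = ⊥ :=
      le_bot_iff.mp (hfpf ▸ inf_le_inf_right _ inf_le_left)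
    obtain ⟨hsq, hge, -⟩ := free_card (fun w (hw : w ∈ V) => he₁ w hw.1) hs.prime hr2 hs.big hyo
      (hVn hyn hyW hA₁y) (hVn htn htW htcomm) (CfsgLib.PushUp.centralizer_mono inf_le_left hinv₁)
      (CfsgLib.PushUp.centralizer_mono inf_le_left ht2₁) hfV
    set C := V ⊓ Subgroup.centralizer ({t} : Set L) with hC
    have hcdV : cd V (Subgroup.zpowers t) = Nat.card C := by
      have h := CfsgLib.Coprime.relIndex_mul_card_inf
        (Subgroup.centralizer (Subgroup.zpowers t : Set L)) V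
      rw [show Nat.card ↥(Subgroup.centralizer (Subgroup.zpowers t : Set L) ⊓ V) = Nat.card C by
        rw [hC, centralizer_zpowers, inf_comm], hsq, pow_two] at h
      exact Nat.eq_of_mul_eq_mul_right Nat.card_pos h
    have h1 : 2 ^ (2 * k) ≤ cd (Subgroup.centralizer (A₁ : Set L) ⊓ W) A := by
      refine ((hge hVne).trans hcdV.ge).trans ?_
      exact (cd_mono_left (Subgroup.zpowers_le.mpr htA)).trans
        (cd_mono_right (le_inf inf_le_right (inf_le_left.trans hW₁W)))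
    calc cd A W ^ 2 ≤ (2 ^ k * cd A₁ W) ^ 2 := Nat.pow_le_pow_left hkcd 2
      _ = 2 ^ (2 * k) * cd A₁ W ^ 2 := by rw [mul_pow, ← pow_mul, mul_comm k]
      _ ≤ cd (Subgroup.centralizer (A₁ : Set L) ⊓ W) A * cd W A₁ := Nat.mul_le_mul h1 ih1
      _ = cd W A := cd_mul hA₁A
  · -- commutators
    set U := ⁅W₁, A₁⁆ with hU
    have hUW₁ : U ≤ W₁ := Subgroup.commutator_le.mpr fun w hw a ha => by
      rw [commutatorElement_def, show w * a * w⁻¹ * a⁻¹ = w * (a * w⁻¹ * a⁻¹) by group]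
      exact mul_mem hw (conj_mem_of_mem_normalizer (hA₁n ha) (inv_mem hw))
    have hUn : ∀ {g : L}, g ∈ Subgroup.normalizer (W₁ : Set L) →
        g ∈ Subgroup.normalizer (W : Set L) →
        (∀ a ∈ A₁, a * g * a⁻¹ * g⁻¹ ∈ Subgroup.centralizer (W : Set L)) →
        g ∈ Subgroup.normalizer (U : Set L) := fun {g} h1 h2 h3 => by
      refine Subgroup.mem_normalizer_fintype fun x hx => ?_
      have hle : U ≤ U.comap (MulAut.conj g).toMonoidHom := Subgroup.commutator_le.mpr fun w hw a ha => by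
        show g * (⁅w, a⁆ : L) * g⁻¹ ∈ U
        have e : g * (⁅w, a⁆ : L) * g⁻¹ = ⁅g * w * g⁻¹, a⁆ := by
          rw [commutatorElement_def, commutatorElement_def]
          calc g * (w * a * w⁻¹ * a⁻¹) * g⁻¹ = (g * w * g⁻¹) * (g * (a * w⁻¹ * a⁻¹) * g⁻¹) := by group
            _ = (g * w * g⁻¹) * (a * (g * w⁻¹ * g⁻¹) * a⁻¹) := by
                rw [hcommA h2 h3 a ha _ (inv_mem (hW₁W hw))]
            _ = _ := by group
        rw [e]
        exact Subgroup.commutator_mem_commutator (conj_mem_of_mem_normalizer h1 hw) ha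
      exact hle hx
    have hUne : U ≠ W₁ := commutator_ne_self he₁ hW₁ne hA₁n hA₁2
    have hfree := free_index he₁ hUW₁ hUne hs.prime hr2 hs.big hyo hyn htn (hUn hyn hyW hA₁y)
      (hUn htn htW htcomm) hinv₁ ht2₁ hfpf
    -- the image of `w ↦ [w, t]` together with `U`
    have hcomm : ∀ {a b : L}, a ∈ W → b ∈ W → a * b = b * a := fun ha hb =>
      (Subgroup.mem_centralizer_iff.mp (CfsgLib.PushUp.comm_of_sq he hb) _ ha)
    set R := U ⊔ ⁅W₁, Subgroup.zpowers t⁆ with hR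
    have hRW₁ : R ≤ W₁ := sup_le hUW₁ (commutator_le_self htn)
    set R' := R.map (MulAut.conj y).toMonoidHom with hR'
    have hR'W₁ : R' ≤ W₁ := by
      rintro _ ⟨x, hx, rfl⟩; exact conj_mem_of_mem_normalizer hyn (hRW₁ hx)
    have hUR' : U ≤ R' := fun x hx => ⟨y⁻¹ * x * y, Subgroup.mem_sup_left
      ((Subgroup.mem_normalizer_iff''.mp (hUn hyn hyW hA₁y) x).mp hx), by
        show y * (y⁻¹ * x * y) * y⁻¹ = x; group⟩
    have hgen : W₁ ≤ R ⊔ R' := by
      -- both `t` and `y t y⁻¹` are trivial modulo `R ⊔ R'`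
      have htr : ∀ w ∈ W₁, t * w * t⁻¹ * w⁻¹ ∈ R := fun w hw => by
        refine Subgroup.mem_sup_right ?_
        have h1 := Subgroup.commutator_mem_commutator (inv_mem hw) (Subgroup.mem_zpowers t)
        rw [commutatorElement_def, inv_inv] at h1
        have e := hcomm (conj_mem_of_mem_normalizer (hGW htG) (hW₁W hw)) (inv_mem (hW₁W hw))
        rw [e, show w⁻¹ * (t * w * t⁻¹) = w⁻¹ * t * w * t⁻¹ by group]
        exact h1
      let V := R ⊔ R'
      have hkey : ∀ w ∈ W₁, y ^ 2 * w * (y ^ 2)⁻¹ * w⁻¹ ∈ V := by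
        intro w hw
        -- `y ² ≡ (y t y⁻¹) t` modulo the centralizer
        set v := t * w * t⁻¹ with hv
        have hvW : v ∈ W₁ := conj_mem_of_mem_normalizer htn hw
        have h1 : y * (t * (y⁻¹ * v * y) * t⁻¹) * y⁻¹ * v⁻¹ ∈ R' := by
          refine ⟨t * (y⁻¹ * v * y) * t⁻¹ * (y⁻¹ * v * y)⁻¹,
            htr _ ((Subgroup.mem_normalizer_iff''.mp hyn v).mp hvW), ?_⟩
          show y * (t * (y⁻¹ * v * y) * t⁻¹ * (y⁻¹ * v * y)⁻¹) * y⁻¹ = _
          group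
        have hc : (t * y⁻¹ * t⁻¹) * y⁻¹ ∈ Subgroup.centralizer (W : Set L) := by
          refine hπ1 (g := ⟨t, htG⟩ * ⟨y, hyG⟩⁻¹ * ⟨t, htG⟩⁻¹ * ⟨y, hyG⟩⁻¹) |>.mp ?_
          rw [map_mul, map_mul, map_mul, map_inv, map_inv, hπy]
          have := congrArg (fun q => q⁻¹) hs.inv
          simp only [mul_inv_rev, inv_inv] at this
          rw [mul_assoc (π ⟨t, htG⟩), this, mul_inv_cancel]
        have e2 : y * (t * (y⁻¹ * v * y) * t⁻¹) * y⁻¹ = y ^ 2 * w * (y ^ 2)⁻¹ := by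
          have hz : y * w * y⁻¹ ∈ W := conj_mem_of_mem_normalizer hyW (hW₁W hw)
          have h2 : t * t * w * (t * t)⁻¹ = w := mem_centralizer_iff_conj.mp ht2 _ (hW₁W hw)
          calc y * (t * (y⁻¹ * v * y) * t⁻¹) * y⁻¹
              = y * ((t * y⁻¹ * t⁻¹) * (t * t * w * (t * t)⁻¹) * (t * y⁻¹ * t⁻¹)⁻¹) * y⁻¹ := by
                rw [hv]; group
            _ = y * (((t * y⁻¹ * t⁻¹) * y⁻¹) * (y * w * y⁻¹) *
                  ((t * y⁻¹ * t⁻¹) * y⁻¹)⁻¹) * y⁻¹ := by rw [h2]; group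
            _ = _ := by rw [mem_centralizer_iff_conj.mp hc _ hz, pow_two]; group
        rw [show y ^ 2 * w * (y ^ 2)⁻¹ * w⁻¹
          = (y * (t * (y⁻¹ * v * y) * t⁻¹) * y⁻¹ * v⁻¹) * (t * w * t⁻¹ * w⁻¹) by rw [e2, hv]; group]
        exact mul_mem (Subgroup.mem_sup_right h1) (Subgroup.mem_sup_left (htr w hw))
      -- `w ↦ [y², w]` is onto
      have hy2n : y ^ 2 ∈ Subgroup.normalizer (W₁ : Set L) := pow_mem hyn 2
      let ψ : W₁ →* W₁ :=
        { toFun := fun u => ⟨y ^ 2 * u * (y ^ 2)⁻¹ * (u : L)⁻¹,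
            mul_mem (conj_mem_of_mem_normalizer hy2n u.2) (inv_mem u.2)⟩
          map_one' := Subtype.ext (by simp)
          map_mul' := fun a b => Subtype.ext (by
            show y ^ 2 * ((a : L) * b) * (y ^ 2)⁻¹ * ((a : L) * b)⁻¹ = y ^ 2 * a * (y ^ 2)⁻¹ *
              (a : L)⁻¹ * (y ^ 2 * b * (y ^ 2)⁻¹ * (b : L)⁻¹)
            have hm : y ^ 2 * (b : L) * (y ^ 2)⁻¹ * (b : L)⁻¹ ∈ W :=
              hW₁W (mul_mem (conj_mem_of_mem_normalizer hy2n b.2) (inv_mem b.2))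
            calc y ^ 2 * ((a : L) * b) * (y ^ 2)⁻¹ * ((a : L) * b)⁻¹
                = (y ^ 2 * a * (y ^ 2)⁻¹) * ((y ^ 2 * b * (y ^ 2)⁻¹ * (b : L)⁻¹) * (a : L)⁻¹) := by
                  group
              _ = _ := by rw [hcomm hm (inv_mem (hW₁W a.2))]; group) }
      have hψ : Function.Bijective ψ := Finite.injective_iff_bijective.mp
        ((injective_iff_map_eq_one ψ).mpr fun u hu => by
          have h1 : y ^ 2 * (u : L) * (y ^ 2)⁻¹ = u := mul_inv_eq_one.mp (congrArg Subtype.val hu)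
          have h2 := CfsgLib.PushUp.centralizer_fix_sq (g := y) (z := (u : L)) hyodd
            (Subgroup.mem_centralizer_singleton_iff.mpr (conj_fix_iff.mp h1).symm)
          refine Subtype.ext (Subgroup.mem_bot.mp (hfpf ▸ ⟨u.2, mem_centralizer_singleton_conj.mpr ?_⟩))
          exact conj_fix_iff.mpr (Subgroup.mem_centralizer_singleton_iff.mp h2).symm)
      intro w hw
      obtain ⟨u, hu⟩ := hψ.2 ⟨w, hw⟩
      rw [show w = y ^ 2 * u * (y ^ 2)⁻¹ * (u : L)⁻¹ from (congrArg Subtype.val hu).symm]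
      exact hkey _ u.2
    have hR2 : 2 ^ (2 * k) * Nat.card U ≤ Nat.card R := by
      have hn' : R' ≤ Subgroup.normalizer (R : Set L) :=
        ((hR'W₁.trans hW₁W).trans (show W ≤ Subgroup.centralizer (R : Set L) from fun w hw =>
          Subgroup.mem_centralizer_iff.mpr fun c hc => hcomm (hW₁W (hRW₁ hc)) hw)).trans
            (Subgroup.centralizer_le_normalizer _)
      have h1 := CfsgLib.Coprime.card_sup_mul_card_inf hn'
      rw [show Nat.card R' = Nat.card R from Subgroup.card_map_of_injective (MulAut.conj y).injective]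
        at h1
      have h2 : Nat.card W₁ * Nat.card U ≤ Nat.card R * Nat.card R := h1 ▸ Nat.mul_le_mul
        (Subgroup.card_le_of_le hgen) (Subgroup.card_le_of_le (le_inf le_sup_left hUR'))
      refine Nat.pow_le_pow_iff_left two_ne_zero |>.mp ?_
      calc (2 ^ (2 * k) * Nat.card U) ^ 2 = 2 ^ (4 * k) * Nat.card U * Nat.card U := by ring
        _ ≤ Nat.card W₁ * Nat.card U := Nat.mul_le_mul_right _ hfree
        _ ≤ Nat.card R * Nat.card R := h2
        _ = Nat.card R ^ 2 := (pow_two _).symm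
    -- `[W, A₁] ∩ W₁ = U`
    set WA := ⁅W, A₁⁆ with hWA
    have hW₀n : ∀ a ∈ A₁, ∀ w ∈ W₀, a * w * a⁻¹ ∈ W₀ := fun a ha w hw => by
      refine ⟨conj_mem_of_mem_normalizer (hGW (hAG (hA₁A ha))) hw.1,
        mem_centralizer_singleton_conj.mpr ?_⟩
      rw [← hcommA hyW hA₁y a ha w hw.1, mem_centralizer_singleton_conj.mp hw.2]
    have hWAle : WA ≤ W₀ ⊔ U := Subgroup.commutator_le.mpr fun w hw a ha => by
      have hn' : W₁ ≤ Subgroup.normalizer (W₀ : Set L) :=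
        ((hW₁W).trans (show W ≤ Subgroup.centralizer (W₀ : Set L) from fun w hw =>
          Subgroup.mem_centralizer_iff.mpr fun c hc => hcomm hc.1 hw)).trans
            (Subgroup.centralizer_le_normalizer _)
      obtain ⟨p, hp, q, hq, rfl⟩ : w ∈ (W₀ : Set L) * (W₁ : Set L) := by
        rw [← Subgroup.coe_mul_of_right_le_normalizer_left _ _ hn']
        exact hsupW.ge hw
      rw [commutatorElement_def]
      have e : p * q * a * (p * q)⁻¹ * a⁻¹ = (p * (a * p⁻¹ * a⁻¹)) * (q * (a * q⁻¹ * a⁻¹)) := by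
        have h1 : q * (a * q⁻¹ * a⁻¹) ∈ W := mul_mem (hW₁W hq)
          (conj_mem_of_mem_normalizer (hGW (hAG (hA₁A ha))) (inv_mem (hW₁W hq)))
        calc p * q * a * (p * q)⁻¹ * a⁻¹ = p * ((q * (a * q⁻¹ * a⁻¹)) * (a * p⁻¹ * a⁻¹)) := by group
          _ = _ := by
            rw [hcomm h1 (conj_mem_of_mem_normalizer (hGW (hAG (hA₁A ha))) (inv_mem hp.1))]; group
      rw [e]
      refine mul_mem (Subgroup.mem_sup_left (mul_mem hp (hW₀n a ha _ (inv_mem hp))))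
        (Subgroup.mem_sup_right ?_)
      have := Subgroup.commutator_mem_commutator hq ha
      rw [commutatorElement_def, show q * a * q⁻¹ * a⁻¹ = q * (a * q⁻¹ * a⁻¹) by group] at this
      exact this
    have hWAW₁ : WA ⊓ W₁ ≤ U := fun x hx => by
      have hn' : U ≤ Subgroup.normalizer (W₀ : Set L) :=
        ((hUW₁.trans hW₁W).trans (show W ≤ Subgroup.centralizer (W₀ : Set L) from fun w hw =>
          Subgroup.mem_centralizer_iff.mpr fun c hc => hcomm hc.1 hw)).trans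
            (Subgroup.centralizer_le_normalizer _)
      obtain ⟨p, hp, q, hq, rfl⟩ : x ∈ (W₀ : Set L) * (U : Set L) := by
        rw [← Subgroup.coe_mul_of_right_le_normalizer_left _ _ hn']
        exact hWAle hx.1
      have : p = 1 := Subgroup.mem_bot.mp (hmeet ▸ ⟨hp, by
        rw [show p = p * q * q⁻¹ by group]
        show p * q * q⁻¹ ∈ W₁
        exact mul_mem (show p * q ∈ W₁ from hx.2) (inv_mem (hUW₁ (show q ∈ U from hq)))⟩)
      show p * q ∈ U
      rw [this, one_mul]; exact hq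
    have hWAA : WA ≤ ⁅W, A⁆ := Subgroup.commutator_mono le_rfl hA₁A
    have hRA : R ≤ ⁅W, A⁆ := sup_le (Subgroup.commutator_mono hW₁W hA₁A)
      (Subgroup.commutator_mono hW₁W (Subgroup.zpowers_le.mpr htA))
    have hWAW : WA ≤ W := Subgroup.commutator_le.mpr fun w hw a ha => by
      rw [commutatorElement_def, show w * a * w⁻¹ * a⁻¹ = w * (a * w⁻¹ * a⁻¹) by group]
      exact mul_mem hw (conj_mem_of_mem_normalizer (hGW (hAG (hA₁A ha))) (inv_mem hw))
    have hn' : R ≤ Subgroup.normalizer (WA : Set L) :=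
      ((hRW₁.trans hW₁W).trans (show W ≤ Subgroup.centralizer (WA : Set L) from fun w hw =>
        Subgroup.mem_centralizer_iff.mpr fun c hc => hcomm (hWAW hc) hw)).trans
          (Subgroup.centralizer_le_normalizer _)
    have h3 := CfsgLib.Coprime.card_sup_mul_card_inf hn'
    have h4 : Nat.card WA * Nat.card R ≤ Nat.card ↥⁅W, A⁆ * Nat.card U := h3 ▸ Nat.mul_le_mul
      (Subgroup.card_le_of_le (sup_le hWAA hRA))
      (Subgroup.card_le_of_le ((inf_le_inf_left _ hRW₁).trans hWAW₁))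
    have h5 : 2 ^ (2 * k) * Nat.card WA ≤ Nat.card ↥⁅W, A⁆ := by
      refine Nat.le_of_mul_le_mul_right ?_ (Nat.card_pos (α := U))
      calc 2 ^ (2 * k) * Nat.card WA * Nat.card U
          = Nat.card WA * (2 ^ (2 * k) * Nat.card U) := by ring
        _ ≤ Nat.card WA * Nat.card R := Nat.mul_le_mul_left _ hR2
        _ ≤ _ := h4
    calc cd A W ^ 2 ≤ (2 ^ k * cd A₁ W) ^ 2 := Nat.pow_le_pow_left hkcd 2
      _ = 2 ^ (2 * k) * cd A₁ W ^ 2 := by rw [mul_pow, ← pow_mul, mul_comm k]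
      _ ≤ 2 ^ (2 * k) * Nat.card WA := Nat.mul_le_mul_left _ ih2
      _ ≤ _ := h5

end CfsgLib.LocalK
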