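import Cfsg.Agent.Lib.LocalK.Step
import Cfsg.Agent.Lib.PushUp.Main

/-!
Steps inside a nonabelian minimal normal subgroup.
-/

set_option autoImplicit false
set_option linter.style.haveILetI false

namespace CfsgLib.LocalK

open scoped Pointwise
open CfsgLib.MinNormal (cj mem_cj cj_one cj_mul SimpleConjugates)

universe u

variable {X : Type u} [Group X] [Finite X]

theorem simpleConjugates_shift {N L : Subgroup X} (d : SimpleConjugates N L) (g : X) :
    SimpleConjugates N (cj L g) where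
  normal := d.normal
  le := d.cj_le g
  simple := d.simple_cj g
  nab := d.nab_cj g
  norm h := by rw [cj_mul]; exact d.norm _
  sup := le_antisymm (iSup_le fun h => by rw [cj_mul]; exact d.cj_le _) (by
    conv_lhs => rw [← d.sup]
    exact iSup_le fun h => le_iSup_of_le (h * g⁻¹) (by rw [cj_mul, inv_mul_cancel_right]))
  inf a b h := by rw [cj_mul, cj_mul] at h ⊢; exact d.inf _ _ h
  comm a b h := by rw [cj_mul, cj_mul] at h ⊢; exact d.comm _ _ h

theorem good_of_simpleConjugates (h : SK X) {N L : Subgroup X} (d : SimpleConjugates N L) :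
    ∃ r n : ℕ, Good L r n := by
  haveI := d.simple
  haveI := d.normal
  haveI : (L.subgroupOf N).Normal := Subgroup.normal_subgroupOf_of_le_normalizer (by
    have := d.norm 1; rwa [cj_one] at this)
  exact exists_good d.nab (kgroup_simple
    (Subgroup.IsSubnormal.trans d.le (Subgroup.Normal.isSubnormal inferInstance)
      (Subgroup.Normal.isSubnormal d.normal)) d.simple d.nab h.kgroup)

/-- The element `y = y₀ w` forces a subgroup normalized by a Sylow `2`-subgroup to be everything. -/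
theorem eq_of_orbit_elem {N L : Subgroup X} (d : SimpleConjugates N L) {r n : ℕ} (hg : Good L r n)
    {y0 : L} (hy0 : orderOf y0 = r) {y w : X} (hw : w ∈ Subgroup.centralizer (L : Set X))
    (hy : y = y0 * w) (S : Sylow 2 X) {T : Subgroup X} (hTN : T ≤ N)
    (hST : (S : Subgroup X) ⊓ N ≤ T) (hSN : (S : Subgroup X) ≤ Subgroup.normalizer (T : Set X))
    (hyT : y ∈ T) (htop : N ⊔ (S : Subgroup X) = ⊤) : T = N := by
  haveI : Fact (Nat.Prime 2) := ⟨Nat.prime_two⟩
  haveI := d.normal
  haveI := d.simple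
  haveI : (L.subgroupOf N).Normal := Subgroup.normal_subgroupOf_of_le_normalizer (by
    have := d.norm 1; rwa [cj_one] at this)
  have hidx : ¬ 2 ∣ ((S : Subgroup X).subgroupOf L).index := by
    intro h
    have h1 : ((S : Subgroup X).subgroupOf L).index
        = ((S : Subgroup X).subgroupOf N).relIndex (L.subgroupOf N) :=
      (Subgroup.relIndex_subgroupOf d.le).symm
    have h2 : ((S : Subgroup X).subgroupOf N).relIndex (L.subgroupOf N)
        ∣ (S : Subgroup X).relIndex N :=
      CfsgLib.Fitting.relIndex_dvd_index_of_normal_right _ _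
    exact CfsgLib.PushUp.not_two_dvd_relIndex S N (h.trans (h1 ▸ h2))
  let P : Sylow 2 L :=
    ((S.2.comap_of_injective L.subtype L.subtype_injective) :
      IsPGroup 2 ((S : Subgroup X).subgroupOf L)).toSylow hidx
  let H : Subgroup L := ⨅ i : ℤ, (T.subgroupOf L).comap (MulAut.conj (y0 ^ i)).toMonoidHom
  have hPH : (P : Subgroup L) ≤ H := le_iInf fun i s hs => by
    have hsT : (s : X) ∈ T := hST ⟨hs, d.le s.2⟩
    show ((y0 ^ i * s * (y0 ^ i)⁻¹ : L) : X) ∈ T
    have hc : Commute (y0 : X) w := Subgroup.mem_centralizer_iff.mp hw _ y0.2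
    have hcs : w ^ i * s * (w ^ i)⁻¹ = s :=
      CfsgLib.PushUp.mem_centralizer_iff_conj.mp (zpow_mem hw i) _ s.2
    have e : y ^ i * s * (y ^ i)⁻¹ = ((y0 ^ i * s * (y0 ^ i)⁻¹ : L) : X) := by
      rw [hy, hc.mul_zpow, Subgroup.coe_mul, Subgroup.coe_mul, Subgroup.coe_inv,
        SubgroupClass.coe_zpow]
      calc (y0 : X) ^ i * w ^ i * s * ((y0 : X) ^ i * w ^ i)⁻¹
          = (y0 : X) ^ i * (w ^ i * s * (w ^ i)⁻¹) * ((y0 : X) ^ i)⁻¹ := by group
        _ = _ := by rw [hcs]
    rw [← e]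
    exact mul_mem (mul_mem (zpow_mem hyT i) hsT) (inv_mem (zpow_mem hyT i))
  have hyH : y0 ∈ Subgroup.normalizer (H : Set L) := Subgroup.mem_normalizer_fintype fun z hz => by
    refine Subgroup.mem_iInf.mpr fun i => ?_
    have := Subgroup.mem_iInf.mp hz (i + 1)
    simp only [Subgroup.mem_comap, MulEquiv.coe_toMonoidHom, MulAut.conj_apply] at this ⊢
    rw [zpow_add_one] at this
    simpa [mul_assoc] using this
  have hHn : H.Normal := Subgroup.normalizer_eq_top_iff.mp (top_le_iff.mp (by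
    rw [← hg.generates P y0 hy0]
    exact sup_le (hPH.trans Subgroup.le_normalizer) (Subgroup.zpowers_le.mpr hyH)))
  have hHtop : H = ⊤ := (hHn.eq_bot_or_eq_top).resolve_left fun hb => by
    obtain ⟨u, hu⟩ := hg.exists_invol
    refine P.ne_bot_of_dvd_card (hu ▸ orderOf_dvd_natCard u) ?_
    exact le_bot_iff.mp (hb ▸ hPH)
  have hLT : L ≤ T := fun z hz => by
    have := Subgroup.mem_iInf.mp (hHtop.ge (Subgroup.mem_top (⟨z, hz⟩ : L))) 0
    simpa [Subgroup.mem_subgroupOf] using this
  refine le_antisymm hTN ?_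
  conv_lhs => rw [← d.sup]
  refine iSup_le fun g => ?_
  obtain ⟨m, hm, s, hs, rfl⟩ : g ∈ (N : Set X) * ((S : Subgroup X) : Set X) := by
    rw [← Subgroup.normal_mul, htop]; exact Subgroup.mem_top g
  have h1 : cj L s ≤ T := fun z hz => by
    have := (Subgroup.mem_normalizer_iff.mp (hSN hs) (s⁻¹ * z * s)).mp (hLT (mem_cj.mp hz))
    simpa [mul_assoc] using this
  intro z hz
  rw [← cj_mul, mem_cj] at hz
  have h2 := (Subgroup.mem_normalizer_iff.mp (d.norm s hm) (m⁻¹ * z * m)).mp hz
  exact h1 (by simpa [mul_assoc] using h2)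

/-- Steps inside a nonabelian minimal normal subgroup, forcing generation. -/
theorem exists_component_step (h : SK X) {N : Subgroup X} [N.Normal]
    (hmin : ∀ M : Subgroup X, M.Normal → M ≠ ⊥ → M ≤ N → M = N) (hna : ¬ IsMulCommutative N)
    {A : Subgroup X} (hA : ∀ a ∈ A, a * a = 1) (hne : ¬ N ≤ Subgroup.centralizer (A : Set X)) :
    ∃ (A₁ : Subgroup X) (t y : X) (k r : ℕ), IsStep A A₁ t y k r ∧ y ∈ N ∧
      ∀ (S : Sylow 2 X) (T : Subgroup X), T ≤ N → (S : Subgroup X) ⊓ N ≤ T →
        (S : Subgroup X) ≤ Subgroup.normalizer (T : Set X) → y ∈ T →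
          N ⊔ (S : Subgroup X) = ⊤ → T = N := by
  classical
  obtain ⟨L₀, d₀⟩ := CfsgLib.MinNormal.exists_simpleConjugates hmin hna
  obtain ⟨g, hg'⟩ : ∃ g, ¬ cj L₀ g ≤ Subgroup.centralizer (A : Set X) := by
    by_contra! hall
    exact hne (d₀.sup ▸ iSup_le hall)
  set L := cj L₀ g with hL
  have d : SimpleConjugates N L := simpleConjugates_shift d₀ g
  obtain ⟨r, n, hgood⟩ := good_of_simpleConjugates h d
  haveI := Fact.mk hgood.prime
  set AK := Subgroup.normalizer (L : Set X) ⊓ A with hAK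
  obtain ⟨B, hBA, hAKB, hsupB⟩ := exists_complement hA (inf_le_right : AK ≤ A)
  have hBN : Subgroup.normalizer (L : Set X) ⊓ B = ⊥ :=
    le_bot_iff.mp (hAKB ▸ le_inf (le_inf inf_le_left (inf_le_right.trans hBA)) inf_le_right)
  have hsqB : ∀ b : B, ((b : X))⁻¹ = b := fun b => inv_eq_self_of_sq hA (hBA b.2)
  by_cases hcase : AK ≤ Subgroup.centralizer (L : Set X)
  · -- `A ∩ N(L)` centralizes `L`
    obtain ⟨u, hu⟩ := hgood.exists_invol
    obtain ⟨y0, hy0, -⟩ := hgood.inverts u hu
    obtain ⟨b0, hb0, hb01⟩ : ∃ b0 ∈ B, b0 ≠ 1 := by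
      by_contra! hall
      have hB : B = ⊥ := (Subgroup.eq_bot_iff_forall _).mpr hall
      rw [hB, sup_bot_eq] at hsupB
      exact hg' (Subgroup.le_centralizer_iff.mp (hsupB ▸ hcase))
    obtain ⟨B₁, hB₁B, hmeet, hsup⟩ :=
      exists_complement (A := B) (A₀ := Subgroup.zpowers b0) (fun b hb => hA b (hBA hb))
        (Subgroup.zpowers_le.mpr hb0)
    have hb0B₁ : b0 ∉ B₁ := fun hm => hb01 (Subgroup.mem_bot.mp
      (hmeet ▸ ⟨Subgroup.mem_zpowers b0, hm⟩))
    have hcases : ∀ b ∈ B, b ∈ B₁ ∨ b0 * b ∈ B₁ := by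
      intro b hb
      rw [← hsup, ← SetLike.mem_coe,
        Subgroup.coe_mul_of_left_le_normalizer_right _ _ (le_normalizer_of_sq
          (fun b hb => hA b (hBA hb)) (Subgroup.zpowers_le.mpr hb0) hB₁B)] at hb
      obtain ⟨c, ⟨j, rfl⟩, b1, hb1, rfl⟩ := hb
      have h2 : b0 ^ (2 : ℤ) = 1 := by rw [zpow_two, hA b0 (hBA hb0)]
      rcases Int.even_or_odd' j with ⟨i, rfl | rfl⟩
      · left; simpa [zpow_mul, h2] using hb1
      · right
        show b0 * (b0 ^ (2 * i + 1) * b1) ∈ B₁
        rw [zpow_add, zpow_mul, h2, one_zpow, one_mul, zpow_one, ← mul_assoc, hA b0 (hBA hb0),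
          one_mul]
        exact hb1
    have hflip : ∀ c ∈ B, (b0 * c ∈ B₁ ↔ c ∉ B₁) := fun c hc => by
      refine ⟨fun h1 h2 => hb0B₁ ?_, fun h2 => (hcases c hc).resolve_left h2⟩
      have := mul_mem h1 (inv_mem h2)
      rwa [mul_inv_cancel_right] at this
    let e : B → X := fun b => if (b : X) ∈ B₁ then (y0 : X) else (y0 : X)⁻¹
    have he : ∀ b, e b = y0 ∨ e b = (y0 : X)⁻¹ := fun b => by
      by_cases hb : (b : X) ∈ B₁ <;> simp [e, hb]
    obtain ⟨y, hyo, hyN, ⟨w, hw, hyw⟩, hcomm, hinv⟩ :=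
      exists_orbit_elem d hBN y0.2 (by rw [Subgroup.orderOf_coe, hy0]) hgood.prime e he
        (by simp [e, one_mem])
    refine ⟨AK ⊔ B₁, b0, y, 1, r, ⟨sup_le inf_le_right (hB₁B.trans hBA), hBA hb0, hgood.prime,
      hgood.five_le, le_rfl, big_one hgood.five_le, hyo, ?_, ?_, ?_⟩, hyN,
      fun S T h1 h2 h3 h4 h5 => eq_of_orbit_elem d hgood hy0 hw hyw S h1 h2 h3 h4 h5⟩
    · refine hinv b0 ⟨b0, hb0⟩ fun b => ?_
      have e1 : e (⟨b0, hb0⟩ * b) = (e b)⁻¹ := by
        by_cases hb : (b : X) ∈ B₁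
        · simp [e, hb, hflip _ b.2]
        · simp [e, hb, hflip _ b.2]
      rw [e1]
      simp only [Subgroup.coe_mul]
      group
    · intro a ha
      rw [← SetLike.mem_coe, Subgroup.coe_mul_of_left_le_normalizer_right _ _
        (le_normalizer_of_sq hA inf_le_right (hB₁B.trans hBA))] at ha
      obtain ⟨x, hx, c, hc, rfl⟩ := ha
      refine hcomm (x * c) ⟨c, hB₁B hc⟩ fun b => ?_
      have e1 : e (⟨c, hB₁B hc⟩ * b) = e b := by
        by_cases hb : (b : X) ∈ B₁
        · simp [e, hb, mul_mem hc hb]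
        · have : c * (b : X) ∉ B₁ := fun h1 => hb (by
            have := mul_mem (inv_mem hc) h1; rwa [inv_mul_cancel_left] at this)
          simp [e, hb, this]
      rw [e1]
      have hcx : x * (c * (b : X)) = c * (b : X) * x :=
        comm_of_sq hA hx.2 (mul_mem (hBA (hB₁B hc)) (hBA b.2))
      have hxe : x * e b * x⁻¹ = e b := by
        refine CfsgLib.PushUp.mem_centralizer_iff_conj.mp (hcase hx) _ ?_
        rcases he b with h | h <;> rw [h]
        exacts [y0.2, inv_mem y0.2]
      simp only [Subgroup.coe_mul]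
      calc x * c * ((b : X) * e b * (b : X)⁻¹) * (x * c)⁻¹
          = (x * (c * b)) * e b * (x * (c * b))⁻¹ := by group
        _ = c * (b : X) * (x * e b * x⁻¹) * (c * (b : X))⁻¹ := by rw [hcx]; group
        _ = _ := by rw [hxe]
    · have h1 := card_complement hA (inf_le_right : AK ≤ A) hBA hAKB
      have h2 := card_complement (fun b hb => hA b (hBA hb)) (Subgroup.zpowers_le.mpr hb0) hB₁B hmeet
      have h3 : AK ⊓ B₁ = ⊥ := le_bot_iff.mp (hAKB ▸ inf_le_inf_left _ hB₁B)
      have h4 := card_complement hA (inf_le_right : AK ≤ A) (hB₁B.trans hBA) h3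
      rw [hsupB] at h1
      rw [hsup, Nat.card_zpowers] at h2
      have h5 : orderOf b0 = 2 := orderOf_eq_prime (by rw [pow_two, hA b0 (hBA hb0)]) hb01
      rw [h1, h4, h2, h5, pow_one]
      exact le_of_eq (by ring)
  · -- `A ∩ N(L)` induces inner automorphisms
    let φ : AK →* MulAut L :=
      L.normalizerMonoidHom.comp (Subgroup.inclusion (inf_le_left : AK ≤ _))
    have hφ : ∀ (a : AK) (z : L), ((φ a z : L) : X) = (a : X) * z * (a : X)⁻¹ := fun _ _ => rfl
    have hrange : ∀ a : AK, φ a ∈ (MulAut.conj : L →* MulAut L).range := fun a => by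
      refine (hgood.outer (φ a) ?_).resolve_right ?_
      · rw [← map_mul, show a * a = 1 from Subtype.ext (hA _ a.2.2), map_one]
      · rintro ⟨x, hx, hinv⟩
        refine ne_three_of_inverted h.free (t := (a : X)) (x := (x : X)) (hA _ a.2.2)
          (by rw [Subgroup.orderOf_coe, hx]) ?_
        rw [← hφ a x, hinv, Subgroup.coe_inv]
    obtain ⟨a₀, ha₀⟩ : ∃ a : AK, φ a ≠ 1 := by
      by_contra! hall
      refine hcase fun a ha => CfsgLib.PushUp.mem_centralizer_iff_conj.mpr fun z hz => ?_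
      rw [← hφ ⟨a, ha⟩ ⟨z, hz⟩, hall]; rfl
    obtain ⟨u, hu⟩ := hrange a₀
    have hu2 : orderOf u = 2 := by
      have hinj : Function.Injective (MulAut.conj : L →* MulAut L) := by
        rw [injective_iff_map_eq_one]
        intro z hz
        refine Subtype.ext (d.eq_one (g := 1) (by rw [cj_one]; exact z.2) ?_)
        rw [cj_one]
        refine Subgroup.mem_centralizer_iff.mpr fun v hv => ?_
        have := congrArg (fun α : MulAut L => ((α ⟨v, hv⟩ : L) : X)) hz
        simp only [MulAut.conj_apply, Subgroup.coe_mul, Subgroup.coe_inv, MulAut.one_apply] at this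
        exact (mul_inv_eq_iff_eq_mul.mp this).symm
      refine orderOf_eq_prime (hinj ?_) fun e => ha₀ (by rw [← hu, e, map_one])
      rw [map_pow, hu, pow_two, ← map_mul, show a₀ * a₀ = 1 from Subtype.ext (hA _ a₀.2.2), map_one,
        map_one]
    obtain ⟨y0, hy0, hy0inv⟩ := hgood.inverts u hu2
    have ha₀y : (a₀ : X) * y0 * (a₀ : X)⁻¹ = (y0 : X)⁻¹ := by
      rw [← hφ a₀ y0, ← hu, MulAut.conj_apply, hy0inv, Subgroup.coe_inv]
    obtain ⟨y, hyo, hyN, ⟨w, hw, hyw⟩, hcomm, hinv⟩ :=
      exists_orbit_elem d hBN y0.2 (by rw [Subgroup.orderOf_coe, hy0]) hgood.prime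
        (fun _ => (y0 : X)) (fun _ => Or.inl rfl) rfl
    set D := φ.ker.map AK.subtype with hD
    have hDA : D ≤ A := (Subgroup.map_subtype_le _).trans inf_le_right
    refine ⟨D ⊔ B, a₀, y, n, r, ⟨sup_le hDA hBA, a₀.2.2, hgood.prime, hgood.five_le, hgood.one_le,
      hgood.big, hyo, ?_, ?_, ?_⟩, hyN,
      fun S T h1 h2 h3 h4 h5 => eq_of_orbit_elem d hgood hy0 hw hyw S h1 h2 h3 h4 h5⟩
    · refine hinv a₀ 1 fun b => ?_
      rw [one_mul]
      calc (a₀ : X) * ((b : X) * y0 * (b : X)⁻¹) * (a₀ : X)⁻¹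
          = ((a₀ : X) * b) * y0 * ((a₀ : X) * b)⁻¹ := by group
        _ = (b : X) * ((a₀ : X) * y0 * (a₀ : X)⁻¹) * (b : X)⁻¹ := by
            rw [comm_of_sq hA a₀.2.2 (hBA b.2)]; group
        _ = _ := by rw [ha₀y]; group
    · intro a ha
      rw [← SetLike.mem_coe, Subgroup.coe_mul_of_left_le_normalizer_right _ _
        (le_normalizer_of_sq hA hDA hBA)] at ha
      obtain ⟨x, hx, c, hc, rfl⟩ := ha
      refine hcomm (x * c) ⟨c, hc⟩ fun b => ?_
      obtain ⟨x', hx', rfl⟩ := hx
      have hxe : (x' : X) * y0 * (x' : X)⁻¹ = y0 := by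
        rw [← hφ x' y0, MonoidHom.mem_ker.mp hx']; rfl
      have hcx : (x' : X) * (c * (b : X)) = c * (b : X) * x' :=
        comm_of_sq hA x'.2.2 (mul_mem (hBA hc) (hBA b.2))
      simp only [Subgroup.coe_mul]
      show (x' : X) * c * ((b : X) * y0 * (b : X)⁻¹) * ((x' : X) * c)⁻¹ = _
      calc (x' : X) * c * ((b : X) * y0 * (b : X)⁻¹) * ((x' : X) * c)⁻¹
          = ((x' : X) * (c * b)) * y0 * ((x' : X) * (c * b))⁻¹ := by group
        _ = c * (b : X) * ((x' : X) * y0 * (x' : X)⁻¹) * (c * (b : X))⁻¹ := by rw [hcx]; group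
        _ = _ := by rw [hxe]
    · have h1 := card_complement hA (inf_le_right : AK ≤ A) hBA hAKB
      have h3 : D ⊓ B = ⊥ :=
        le_bot_iff.mp (hAKB ▸ inf_le_inf_right _ (Subgroup.map_subtype_le _))
      have h4 := card_complement hA hDA hBA h3
      rw [hsupB] at h1
      have h5 : Nat.card AK = Nat.card D * Nat.card φ.range := by
        rw [hD, Subgroup.card_map_of_injective AK.subtype_injective, ← Subgroup.index_ker,
          Subgroup.card_mul_index]
      have h6 : Nat.card φ.range ≤ 2 ^ n := by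
        have hle : φ.range ≤ (MulAut.conj : L →* MulAut L).range := by
          rintro _ ⟨a, rfl⟩; exact hrange a
        have hker : Nat.card φ.range ≤ Nat.card (φ.range.comap (MulAut.conj : L →* MulAut L)) := by
          refine Nat.card_le_card_of_surjective
            (fun z : φ.range.comap (MulAut.conj : L →* MulAut L) => (⟨_, z.2⟩ : φ.range)) ?_
          rintro ⟨α, hα⟩
          obtain ⟨z, rfl⟩ := hle hα
          exact ⟨⟨z, hα⟩, rfl⟩
        refine hker.trans (hgood.rank _ fun z hz => ?_)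
        obtain ⟨a, ha⟩ := hz
        have hinj : Function.Injective (MulAut.conj : L →* MulAut L) := by
          rw [injective_iff_map_eq_one]
          intro z hz
          refine Subtype.ext (d.eq_one (g := 1) (by rw [cj_one]; exact z.2) ?_)
          rw [cj_one]
          refine Subgroup.mem_centralizer_iff.mpr fun v hv => ?_
          have := congrArg (fun α : MulAut L => ((α ⟨v, hv⟩ : L) : X)) hz
          simp only [MulAut.conj_apply, Subgroup.coe_mul, Subgroup.coe_inv, MulAut.one_apply] at this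
          exact (mul_inv_eq_iff_eq_mul.mp this).symm
        apply hinj
        rw [map_mul, map_one, ← ha, ← map_mul, show a * a = 1 from Subtype.ext (hA _ a.2.2), map_one]
      rw [h1, h4, h5]
      calc Nat.card D * Nat.card φ.range * Nat.card B
          ≤ Nat.card D * 2 ^ n * Nat.card B :=
            Nat.mul_le_mul_right _ (Nat.mul_le_mul_left _ h6)
        _ = _ := by ring

end CfsgLib.LocalK
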