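import Cfsg.Agent.Lib.LocalK.Inherit
import Cfsg.Agent.Lib.OddOrder.Solvable

/-!
The composition factor hypothesis under extensions.
-/

set_option autoImplicit false

namespace CfsgLib.LocalK

universe u

local notation "KG" => Cfsg.IsCompositionKGroupWith Cfsg.IsSuzukiOrPSL2OddPowerThree

theorem kgroup_of_isSolvable {H : Type u} [Group H] [Group.IsSolvable H] : KG H := by
  intro S _ N hN hs hna
  haveI := hs
  haveI : Group.IsSolvable (S ⧸ N) :=
    Group.isSolvable_of_surjective (QuotientGroup.mk'_surjective N)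
  exact absurd ⟨⟨(IsSimpleGroup.comm_iff_isSolvable.mpr inferInstance)⟩⟩ hna

theorem kgroup_of_extension {H Q : Type u} [Group H] [Group Q] (f : H →* Q)
    (hker : KG f.ker) (hQ : KG Q) (hf : Function.Surjective f) : KG H := by
  intro S hS N hN hs hna
  haveI := hs
  let π : S →* S ⧸ N := QuotientGroup.mk' N
  let D : Subgroup S := f.ker.subgroupOf S
  have hDn : (D.map π).Normal :=
    (inferInstance : D.Normal).map π (QuotientGroup.mk'_surjective N)
  rcases hDn.eq_bot_or_eq_top with h | h
  · -- a factor of the image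
    have hDN : D ≤ N := fun x hx =>
      (QuotientGroup.eq_one_iff x).mp (Subgroup.mem_bot.mp (h.le (Subgroup.mem_map_of_mem π hx)))
    let g : S →* S.map f := f.subgroupMap S
    have hg : Function.Surjective g := f.subgroupMap_surjective S
    have hgN : g.ker ≤ N := fun x hx => hDN (show f x = 1 from congrArg Subtype.val hx)
    haveI : (N.map g).Normal := hN.map g hg
    let i : (S.map f) ⧸ N.map g ≃* S ⧸ N :=
      ((QuotientGroup.quotientMulEquivOfEq (show N = ((QuotientGroup.mk' (N.map g)).comp g).ker by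
        rw [← MonoidHom.comap_ker, QuotientGroup.ker_mk', Subgroup.comap_map_eq_self hgN])).trans
        (QuotientGroup.quotientKerEquivOfSurjective _
          ((QuotientGroup.mk'_surjective _).comp hg))).symm
    exact isSuzukiOrPSL_congr i (hQ _ (hS.map hf) (N.map g) i.isSimpleGroup
      (fun hc => hna ⟨⟨fun a b => i.symm.injective (by rw [map_mul, map_mul]; exact hc.1.comm _ _)⟩⟩))
  · -- a factor of the kernel
    let T : Subgroup f.ker := S.subgroupOf f.ker
    let g : T →* S :=
      { toFun := fun x => ⟨((x : f.ker) : H), x.2⟩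
        map_one' := rfl
        map_mul' := fun _ _ => rfl }
    let φ : T →* S ⧸ N := π.comp g
    have hφ : Function.Surjective φ := by
      intro q
      obtain ⟨x, hx, rfl⟩ := h.ge (Subgroup.mem_top q)
      exact ⟨⟨⟨(x : H), hx⟩, x.2⟩, rfl⟩
    let i : T ⧸ φ.ker ≃* S ⧸ N := QuotientGroup.quotientKerEquivOfSurjective φ hφ
    exact isSuzukiOrPSL_congr i (hker T hS.subgroupOf φ.ker i.isSimpleGroup
      (fun hc => hna ⟨⟨fun a b => i.symm.injective (by rw [map_mul, map_mul]; exact hc.1.comm _ _)⟩⟩))

/-- Adjoining a `2`-group to a normal subgroup keeps the hypothesis. -/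
theorem kgroup_sup {G : Type u} [Group G] [Finite G] (hc : KG G) (M : Subgroup G) [M.Normal]
    {P : Subgroup G} (hP : IsPGroup 2 P) : KG ↥(M ⊔ P) := by
  haveI : Fact (Nat.Prime 2) := ⟨Nat.prime_two⟩
  let f : ↥(M ⊔ P) →* ↥((M ⊔ P).map (QuotientGroup.mk' M)) :=
    (QuotientGroup.mk' M).subgroupMap _
  refine kgroup_of_extension f ?_ ?_ (MonoidHom.subgroupMap_surjective _ _)
  · have e : f.ker = M.subgroupOf (M ⊔ P) := by
      ext x
      rw [MonoidHom.mem_ker, Subgroup.mem_subgroupOf, ← QuotientGroup.eq_one_iff (x : G)]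
      exact ⟨fun hx => congrArg Subtype.val hx, fun hx => Subtype.ext hx⟩
    exact kgroup_of_surjective ((Subgroup.subgroupOfEquivOfLe le_sup_left).symm.trans
      (MulEquiv.subgroupCongr e).symm).toMonoidHom (MulEquiv.surjective _)
      (kgroup_of_subnormal (Subgroup.Normal.isSubnormal inferInstance) hc)
  · rw [Subgroup.map_sup, show M.map (QuotientGroup.mk' M) = ⊥ from
      (Subgroup.map_eq_bot_iff _).mpr (by rw [QuotientGroup.ker_mk']), bot_sup_eq]
    haveI := (hP.map (QuotientGroup.mk' M)).isNilpotent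
    exact kgroup_of_isSolvable

/-- A group with a normal Sylow `2`-subgroup is solvable. -/
theorem isSolvable_of_normal_sylow {H : Type u} [Group H] [Finite H] (P : Subgroup H) [P.Normal]
    (hP : IsPGroup 2 P) (hidx : ¬ 2 ∣ P.index) : Group.IsSolvable H := by
  haveI : Fact (Nat.Prime 2) := ⟨Nat.prime_two⟩
  haveI := hP.isNilpotent
  haveI : Group.IsSolvable (H ⧸ P) := CfsgLib.OddOrder.odd_order_solvable (by
    rw [← Subgroup.index_eq_card]
    exact Nat.odd_iff.mpr (by omega))
  exact (Group.isSolvable_iff_subgroup_quotient P).mpr ⟨inferInstance, inferInstance⟩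

end CfsgLib.LocalK
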