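import Cfsg.Agent.Lib.LocalK.Bound
import Cfsg.Agent.Lib.LocalK.Extension
import Cfsg.Agent.Lib.OddOmega.Basic
import Cfsg.Agent.Lib.PSolvable.Constrained

/-!
Lifting inverted elements, and sections of `S₄`-free groups of characteristic two.
-/

set_option autoImplicit false
set_option linter.style.haveILetI false

namespace CfsgLib.LocalK

open scoped Pointwise commutatorElement
open CfsgLib.PushUp (mem_centralizer_iff_conj conj_fix_iff)

universe u

variable {G : Type u} [Group G] [Finite G]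

/-- Inverted elements lift to inverted elements. -/
theorem exists_inverted_lift {Q : Type*} [Group Q] {N : Subgroup G} (π : N →* Q) {t y : N}
    {r : ℕ} (hr : r.Prime) (hr2 : r ≠ 2) (ht2 : t * t = 1) (hinv : π (t * y * t⁻¹) = (π y)⁻¹)
    (hord : ∃ j, orderOf (π y) = r ^ j) :
    ∃ z : N, t * z * t⁻¹ = z⁻¹ ∧ (∃ j, orderOf z = r ^ j) ∧ π z = π y ∧
      z ∈ Subgroup.zpowers (y⁻¹ * (t * y * t⁻¹)) := by
  set u := y⁻¹ * (t * y * t⁻¹) with hu
  have hti : t⁻¹ = t := inv_eq_of_mul_eq_one_right ht2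
  have hu' : t * u * t⁻¹ = u⁻¹ := by
    calc t * u * t⁻¹ = (t * y⁻¹ * t⁻¹) * ((t * t) * y * (t * t)⁻¹) := by rw [hu]; group
      _ = _ := by rw [ht2, hu]; group
  have hπu : π u = (π y ^ 2)⁻¹ := by rw [hu, map_mul, map_inv, hinv, pow_two, mul_inv_rev]
  obtain ⟨e, d, hd, hed⟩ := Nat.exists_eq_pow_mul_and_not_dvd (orderOf_pos u).ne' r hr.ne_one
  obtain ⟨j, hj⟩ := hord
  have hcop : (2 * d).Coprime (orderOf (π y)) := by
    rw [hj]
    exact (Nat.Coprime.mul_left ((Nat.coprime_primes Nat.prime_two hr).mpr (Ne.symm hr2))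
      ((hr.coprime_iff_not_dvd.mpr hd).symm)).pow_right j
  obtain ⟨m, hm⟩ := exists_pow_eq_self_of_coprime (x := π y) (n := 2 * d) hcop
  refine ⟨(u⁻¹) ^ (d * m), ?_, ?_, ?_, pow_mem (inv_mem (Subgroup.mem_zpowers u)) _⟩
  · rw [← conj_pow, show t * u⁻¹ * t⁻¹ = (t * u * t⁻¹)⁻¹ by group, hu', inv_pow]
  · have h1 : orderOf (u⁻¹ ^ (d * m)) ∣ r ^ e := by
      refine orderOf_dvd_of_pow_eq_one ?_
      rw [← pow_mul, show d * m * r ^ e = r ^ e * d * m by ring, ← hed, inv_pow, pow_mul,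
        pow_orderOf_eq_one, one_pow, inv_one]
    obtain ⟨i, -, hi⟩ := (Nat.dvd_prime_pow hr).mp h1
    exact ⟨i, hi⟩
  · rw [map_pow, map_inv, hπu, inv_inv, ← pow_mul, ← mul_assoc, pow_mul, hm]

/-- An `S₄`-free group of characteristic two has no `S₃`-section over its `2`-core. -/
theorem free_of_char (hchar : Subgroup.centralizer (Cfsg.pCore 2 G : Set G) ≤ Cfsg.pCore 2 G)
    (hfree : ¬ Cfsg.Involves (Equiv.Perm (Fin 4)) G) [(Cfsg.pCore 2 G).Normal] :
    ¬ Cfsg.Involves (Equiv.Perm (Fin 3)) (G ⧸ Cfsg.pCore 2 G) := by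
  intro hinvol
  haveI : Fact (Nat.Prime 2) := ⟨Nat.prime_two⟩
  haveI : Fact (Nat.Prime 3) := ⟨Nat.prime_three⟩
  set Q := Cfsg.pCore 2 G with hQdef
  have hQp : IsPGroup 2 Q := CfsgLib.Fitting.pCore_isPGroup 2
  obtain ⟨K₀, ψ₀, hψ₀⟩ := CfsgLib.Offender.exists_hom_of_involves hinvol
  set K := K₀.comap (QuotientGroup.mk' Q) with hK
  let ψ : K →* Equiv.Perm (Fin 3) := ψ₀.comp ((QuotientGroup.mk' Q).subgroupComap K₀)
  have hψ : Function.Surjective ψ := hψ₀.comp
    ((QuotientGroup.mk' Q).subgroupComap_surjective_of_surjective K₀ (QuotientGroup.mk'_surjective Q))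
  have hQψ : ∀ g : K, (g : G) ∈ Q → ψ g = 1 := fun g hg => by
    show ψ₀ _ = 1
    rw [← map_one ψ₀]
    exact congrArg ψ₀ (Subtype.ext ((QuotientGroup.eq_one_iff (g : G)).mpr hg))
  -- a Sylow `3`-subgroup with an inverting element in its normalizer
  set M : Subgroup K := (alternatingGroup (Fin 3)).comap ψ with hM
  haveI : M.Normal := Subgroup.Normal.comap inferInstance ψ
  let T : Sylow 3 M := default
  set T' : Subgroup K := (T : Subgroup M).map M.subtype with hT'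
  have hfr : Subgroup.normalizer (T' : Set K) ⊔ M = ⊤ := Sylow.normalizer_sup_eq_top T
  obtain ⟨g₀, hg₀⟩ := hψ (Equiv.swap 0 1)
  obtain ⟨n, hn, m, hm, hnm⟩ := Subgroup.mem_sup_of_normal_right.mp (hfr.ge (Subgroup.mem_top g₀))
  have hsw : Equiv.swap (0 : Fin 3) 1 ∉ alternatingGroup (Fin 3) := by
    rw [Equiv.Perm.mem_alternatingGroup]; decide
  have hnM : ψ n ∉ alternatingGroup (Fin 3) := fun h => hsw (by
    rw [← hg₀, ← hnm, map_mul]; exact mul_mem h hm)
  obtain ⟨a, b, hb, hab⟩ := Nat.exists_eq_pow_mul_and_not_dvd (orderOf_pos n).ne' 2 (by norm_num)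
  set s := n ^ b with hs
  have hbodd : Odd b := Nat.odd_iff.mpr (by omega)
  have hsM : ψ s ∉ alternatingGroup (Fin 3) := by
    intro h
    apply hnM
    obtain ⟨c, rfl⟩ := hbodd
    rw [Equiv.Perm.mem_alternatingGroup, hs, map_pow, map_pow] at h
    rw [Equiv.Perm.mem_alternatingGroup]
    rcases Int.units_eq_one_or (Equiv.Perm.sign (ψ n)) with e | e
    · exact e
    · rw [e, pow_succ, pow_mul] at h; simp at h
  have hs2 : s ^ 2 ^ a = 1 := by rw [hs, ← pow_mul, mul_comm, ← hab, pow_orderOf_eq_one]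
  have hsT : s ∈ Subgroup.normalizer (T' : Set K) := pow_mem hn b
  have hψs : ψ s * ψ s = 1 ∧ ∀ c ∈ alternatingGroup (Fin 3), ψ s * c * (ψ s)⁻¹ = c⁻¹ := by
    revert hsM
    generalize ψ s = σ
    revert σ
    simp only [Equiv.Perm.mem_alternatingGroup]
    decide
  -- `T'` covers the alternating group
  have hT'img : T'.map ψ = alternatingGroup (Fin 3) := by
    let f : M →* alternatingGroup (Fin 3) := ψ.subgroupComap _
    have hf : Function.Surjective f := ψ.subgroupComap_surjective_of_surjective _ hψ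
    have hp : IsPGroup 3 (⊤ : Subgroup (alternatingGroup (Fin 3))) :=
      IsPGroup.of_card (n := 1) (by
        rw [Subgroup.card_top, pow_one, nat_card_alternatingGroup, Nat.card_fin]; rfl)
    have h1 : ((T.mapSurjective hf : Sylow 3 (alternatingGroup (Fin 3))) :
        Subgroup (alternatingGroup (Fin 3))) = ⊤ :=
      ((T.mapSurjective hf).is_maximal' hp le_top).symm
    rw [Sylow.coe_mapSurjective] at h1
    rw [hT', Subgroup.map_map]
    ext c
    constructor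
    · rintro ⟨x, -, rfl⟩; exact x.2
    · intro hc
      obtain ⟨x, hx, hxc⟩ := h1.ge (Subgroup.mem_top (⟨c, hc⟩ : alternatingGroup (Fin 3)))
      exact ⟨x, hx, congrArg Subtype.val hxc⟩
  -- an element of order divisible by three, inverted modulo nothing
  set c3 : Equiv.Perm (Fin 3) := Equiv.swap 0 1 * Equiv.swap 1 2 with hc3
  have hc3A : c3 ∈ alternatingGroup (Fin 3) := by
    rw [Equiv.Perm.mem_alternatingGroup, hc3]; decide
  have hcop : (Nat.card (Subgroup.zpowers (s * s))).Coprime (Nat.card T') := by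
    obtain ⟨i, hi⟩ := IsPGroup.iff_card.mp (T.2.map M.subtype)
    rw [Nat.card_zpowers, hT', hi]
    refine Nat.Coprime.pow_right i (Nat.Coprime.coprime_dvd_left (orderOf_dvd_of_pow_eq_one ?_)
      ((Nat.Coprime.pow_left a (by norm_num : Nat.Coprime 2 3))))
    rw [← pow_two, ← pow_mul, mul_comm, pow_mul, hs2, one_pow]
  have hfix : c3 ∈ (T' ⊓ Subgroup.centralizer (Subgroup.zpowers (s * s) : Set K)).map ψ := by
    rw [CfsgLib.Coprime.map_inf_centralizer (Subgroup.zpowers_le.mpr (mul_mem hsT hsT)) hcop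
      (Or.inl (isSolvable_of_comm fun a b => mul_comm' a b)) ψ, hT'img]
    refine ⟨hc3A, ?_⟩
    rintro _ ⟨_, ⟨i, rfl⟩, rfl⟩
    rw [map_zpow, map_mul, hψs.1, one_zpow, one_mul, mul_one]
  obtain ⟨x, ⟨hxT, hxc⟩, hψx⟩ := hfix
  have hxs : (s * s) * x * (s * s)⁻¹ = x := conj_fix_iff.mpr
    (Subgroup.mem_centralizer_iff.mp hxc _ (Subgroup.mem_zpowers _)).symm
  set y := x⁻¹ * (s * x * s⁻¹) with hy
  have hyinv : s * y * s⁻¹ = y⁻¹ := by
    calc s * y * s⁻¹ = (s * x⁻¹ * s⁻¹) * ((s * s) * x * (s * s)⁻¹) := by rw [hy]; group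
      _ = _ := by rw [hxs, hy]; group
  have hyT : y ∈ T' := mul_mem (inv_mem hxT) (conj_mem_of_mem_normalizer hsT hxT)
  have hψy : ψ y ≠ 1 := by
    rw [hy, map_mul, map_mul, map_mul, map_inv, map_inv, hψx, hψs.2 _ hc3A, hc3]
    decide
  obtain ⟨i, hi⟩ : ∃ i, orderOf (y : G) = 3 ^ i := by
    obtain ⟨i, hi⟩ := (IsPGroup.iff_orderOf.mp (T.2.map M.subtype)) ⟨y, hyT⟩
    rw [Subgroup.orderOf_mk] at hi
    exact ⟨i, by rw [Subgroup.orderOf_coe, hi]⟩
  -- the action on `Q / Φ(Q)`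
  set Φ := (frattini Q).map Q.subtype with hΦ
  haveI : Φ.Normal := CfsgLib.PSolvable.normal_map_of_characteristic Q _
  set π := QuotientGroup.mk' Φ with hπ
  set Qb := Q.map π with hQb
  haveI : Qb.Normal := Subgroup.Normal.map inferInstance π (QuotientGroup.mk'_surjective Φ)
  have hQb2 : ∀ q ∈ Qb, q * q = 1 := by
    rintro _ ⟨q, hq, rfl⟩
    rw [← map_mul]
    exact (QuotientGroup.eq_one_iff _).mpr
      ⟨_, CfsgLib.OddOmega.pow_mem_frattini hQp ⟨q, hq⟩, by simp [pow_two]⟩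
  have hyodd : Odd (orderOf (π (y : G))) := by
    refine Odd.of_dvd_nat ?_ (orderOf_map_dvd π _)
    rw [hi]; exact (by decide : Odd 3).pow
  have hmoved : π (y : G) ∉ Subgroup.centralizer (Qb : Set (G ⧸ Φ)) := by
    intro hc
    refine hψy (hQψ y (hchar ?_))
    refine CfsgLib.Coprime.le_centralizer_of_frattini (A := Subgroup.zpowers (y : G))
      Subgroup.le_normalizer_of_normal ?_ (fun g hg q hq => ?_) (Subgroup.mem_zpowers _)
    · obtain ⟨l, hl⟩ := IsPGroup.iff_card.mp (hQp.to_subgroup (frattini Q) :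
        IsPGroup 2 (frattini Q))
      rw [Nat.card_zpowers, hi, hl]
      exact (Nat.Coprime.pow_left i (by norm_num : Nat.Coprime 3 2)).pow_right l
    · have h1 : π g ∈ Subgroup.centralizer (Qb : Set (G ⧸ Φ)) := by
        obtain ⟨l, rfl⟩ := hg
        rw [map_zpow]; exact zpow_mem hc l
      have h2 := mem_centralizer_iff_conj.mp h1 _ (Subgroup.mem_map_of_mem π hq)
      rw [← mul_inv_eq_one, ← map_inv, ← map_inv, ← map_mul, ← map_mul, ← map_mul] at h2
      exact (QuotientGroup.eq_one_iff _).mp h2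
  -- the last power moving the quotient
  set yb := π (y : G) with hyb
  set sb := π (s : G) with hsb
  have hinvb : sb * yb * sb⁻¹ = yb⁻¹ := by
    rw [hsb, hyb, ← map_inv, ← map_mul, ← map_mul, ← map_inv]
    exact congrArg π (congrArg Subtype.val hyinv)
  have hexj : ∃ j, yb ^ 3 ^ j ∈ Subgroup.centralizer (Qb : Set (G ⧸ Φ)) := ⟨i, by
    rw [hyb, ← map_pow, ← hi, pow_orderOf_eq_one, map_one]; exact one_mem _⟩
  classical
  set j := Nat.find hexj with hj
  have hj0 : j ≠ 0 := fun e => hmoved (by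
    have h := Nat.find_spec hexj
    rw [← hj, e, pow_zero, pow_one] at h
    exact h)
  set u := yb ^ 3 ^ (j - 1) with hu
  have hu3 : u ^ 3 ∈ Subgroup.centralizer (Qb : Set (G ⧸ Φ)) := by
    rw [hu, ← pow_mul, ← pow_succ, Nat.sub_add_cancel (Nat.pos_of_ne_zero hj0)]
    exact Nat.find_spec hexj
  have hu1 : u ∉ Subgroup.centralizer (Qb : Set (G ⧸ Φ)) := Nat.find_min hexj (by omega)
  have hui : sb * u * sb⁻¹ = u⁻¹ := by rw [hu, ← conj_pow, hinvb, inv_pow]
  have hNQ : ∀ g : G ⧸ Φ, g ∈ Subgroup.normalizer (Qb : Set (G ⧸ Φ)) := fun g =>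
    Subgroup.le_normalizer_of_normal (Subgroup.mem_top g)
  set W₁ := ⁅Qb, Subgroup.zpowers u⁆ with hW₁
  obtain ⟨hmeet, hsup⟩ := decompose hQb2 (hyodd.of_dvd_nat (orderOf_pow_dvd _)) (hNQ u)
  have hW₁ne : W₁ ≠ ⊥ := fun h => hu1 (mem_centralizer_iff_conj.mpr fun w hw => by
    rw [← hW₁, h, sup_bot_eq] at hsup
    exact mem_centralizer_singleton_conj.mp (hsup.ge hw).2)
  have hsn : sb ∈ Subgroup.normalizer (W₁ : Set (G ⧸ Φ)) :=
    mem_normalizer_commutator (hNQ u) (hNQ sb) fun g hg => by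
      obtain ⟨l, rfl⟩ := hg
      refine ⟨u ^ (-l), ⟨_, rfl⟩, ?_⟩
      show (u ^ (-l))⁻¹ * (sb * u ^ l * sb⁻¹) ∈ _
      rw [← conj_zpow, hui, inv_zpow, zpow_neg, inv_inv, mul_inv_cancel]
      exact one_mem _
  have hW₁Q : W₁ ≤ Qb := commutator_le_self (hNQ u)
  have hpow : IsPGroup 2 (Subgroup.zpowers sb) := by
    have h1 : sb ^ 2 ^ a = 1 := by
      rw [hsb, ← map_pow, ← Subgroup.coe_pow, hs2, Subgroup.coe_one, map_one]
    obtain ⟨l, -, hl⟩ := (Nat.dvd_prime_pow Nat.prime_two).mp (orderOf_dvd_of_pow_eq_one h1)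
    exact IsPGroup.of_card (n := l) (by rw [Nat.card_zpowers, hl])
  obtain ⟨v, hvW, hv1, hsv⟩ : ∃ v ∈ W₁, v ≠ 1 ∧ sb * v * sb⁻¹ = v := by
    letI : MulAction (Subgroup.zpowers sb) W₁ := MulAction.compHom W₁
      (CfsgLib.Coprime.conjAct (A := Subgroup.zpowers sb) (V := W₁) (Subgroup.zpowers_le.mpr hsn))
    obtain ⟨l, hl⟩ := exists_card_eq_two_pow (W := W₁) fun w hw => hQb2 w (hW₁Q hw)
    have hd : 2 ∣ Nat.card W₁ := by
      rcases l with _ | l
      · exact absurd (Subgroup.card_eq_one.mp (by rw [hl, pow_zero])) hW₁ne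
      · rw [hl, pow_succ]; exact dvd_mul_left 2 _
    obtain ⟨v, hv, hne⟩ := hpow.exists_fixed_point_of_prime_dvd_card_of_fixed_point W₁ hd
      (a := (1 : W₁)) (fun g => map_one ((CfsgLib.Coprime.conjAct (A := Subgroup.zpowers sb) (V := W₁)
        (Subgroup.zpowers_le.mpr hsn)) g))
    exact ⟨v, v.2, fun h => hne (Subtype.ext h.symm),
      congrArg Subtype.val (hv ⟨sb, Subgroup.mem_zpowers sb⟩)⟩
  set v₁ := u * v * u⁻¹ with hv₁
  set v₂ := u * v₁ * u⁻¹ with hv₂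
  have hvQ := hW₁Q hvW
  have hv₁W : v₁ ∈ W₁ := by
    refine conj_mem_of_mem_normalizer (mem_normalizer_commutator (hNQ u) (hNQ u) fun g hg =>
      ⟨g, hg, ?_⟩) hvW
    obtain ⟨l, rfl⟩ := hg
    show (u ^ l)⁻¹ * (u * u ^ l * u⁻¹) ∈ _
    rw [show u * u ^ l * u⁻¹ = u ^ l by group, inv_mul_cancel]
    exact one_mem _
  have hv₁Q := hW₁Q hv₁W
  have hv₂Q : v₂ ∈ Qb := conj_mem_of_mem_normalizer (hNQ u) hv₁Q
  have hv3 : u * v₂ * u⁻¹ = v := by
    calc u * v₂ * u⁻¹ = u ^ 3 * v * (u ^ 3)⁻¹ := by rw [hv₂, hv₁, pow_three]; group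
      _ = v := mem_centralizer_iff_conj.mp hu3 _ hvQ
  have hcomm : ∀ {c d : G ⧸ Φ}, c ∈ Qb → d ∈ Qb → c * d = d * c := fun hc hd =>
    (Subgroup.mem_centralizer_iff.mp (CfsgLib.PushUp.comm_of_sq hQb2 hd) _ hc)
  have hfpf : ∀ w ∈ Qb, w ∈ W₁ → u * w * u⁻¹ = w → w = 1 := fun w hw hw1 h =>
    Subgroup.mem_bot.mp (hmeet ▸ ⟨⟨hw, mem_centralizer_singleton_conj.mpr h⟩, hw1⟩)
  have hprod : v₂ = v * v₁ := by
    have hv₂W : v₂ ∈ W₁ := by
      refine conj_mem_of_mem_normalizer (mem_normalizer_commutator (hNQ u) (hNQ u) fun g hg =>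
        ⟨g, hg, ?_⟩) hv₁W
      obtain ⟨l, rfl⟩ := hg
      show (u ^ l)⁻¹ * (u * u ^ l * u⁻¹) ∈ _
      rw [show u * u ^ l * u⁻¹ = u ^ l by group, inv_mul_cancel]
      exact one_mem _
    have hσ := hfpf (v * v₁ * v₂) (mul_mem (mul_mem hvQ hv₁Q) hv₂Q)
      (mul_mem (mul_mem hvW hv₁W) hv₂W) (by
        calc u * (v * v₁ * v₂) * u⁻¹ = v₁ * v₂ * (u * v₂ * u⁻¹) := by rw [hv₂, hv₁]; group
          _ = v * v₁ * v₂ := by rw [hv3, hcomm (mul_mem hv₁Q hv₂Q) hvQ, ← mul_assoc])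
    exact (eq_inv_of_mul_eq_one_right hσ).trans
      (inv_eq_of_mul_eq_one_right (hQb2 _ (mul_mem hvQ hv₁Q)))
  have hvne : v₁ ≠ v := fun h => hv1 (hfpf v hvQ hvW h)
  let F : Subgroup (G ⧸ Φ) :=
    { carrier := {1, v, v₁, v₂}
      one_mem' := by simp
      mul_mem' := by
        intro p q hp hq
        have e1 := hQb2 v hvQ
        have e2 := hQb2 v₁ hv₁Q
        have e3 : v₁ * v = v * v₁ := hcomm hv₁Q hvQ
        have e4 : ∀ w, v * (v * w) = w := fun w => by rw [← mul_assoc, e1, one_mul]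
        have e5 : ∀ w, v₁ * (v * w) = v * (v₁ * w) := fun w => by rw [← mul_assoc, e3, mul_assoc]
        simp only [Set.mem_insert_iff, Set.mem_singleton_iff, hprod] at hp hq ⊢
        rcases hp with rfl | rfl | rfl | rfl <;> rcases hq with rfl | rfl | rfl | rfl <;>
          simp only [one_mul, mul_one, mul_assoc, e1, e2, e3, e4, e5, eq_self_iff_true, true_or,
            or_true]
      inv_mem' := by
        intro p hp
        have : p * p = 1 := by
          rcases hp with rfl | rfl | rfl | rfl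
          exacts [one_mul 1, hQb2 _ hvQ, hQb2 _ hv₁Q, hQb2 _ hv₂Q]
        rwa [inv_eq_of_mul_eq_one_right this] }
  have hFQ : ∀ w ∈ F, w ∈ Qb := by
    rintro w (rfl | rfl | rfl | rfl)
    exacts [one_mem _, hvQ, hv₁Q, hv₂Q]
  have hF : Nat.card F = 4 := by
    have h1 : v ≠ v₂ := fun h => by
      rw [hprod, left_eq_mul] at h
      exact hv1 (by rw [hv₁] at h; simpa [mul_assoc] using congrArg (fun w => u⁻¹ * w * u) h)
    have h2 : v₁ ≠ v₂ := fun h => hv1 (by rw [hprod, eq_comm, mul_eq_right] at h; exact h)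
    have h3 : v₁ ≠ 1 := fun h => hv1 (by
      rw [hv₁] at h; simpa [mul_assoc] using congrArg (fun w => u⁻¹ * w * u) h)
    have h4 : v₂ ≠ 1 := fun h => h3 (by
      rw [hv₂] at h; simpa [mul_assoc] using congrArg (fun w => u⁻¹ * w * u) h)
    show Nat.card ({1, v, v₁, v₂} : Set (G ⧸ Φ)) = 4
    rw [Nat.card_coe_set_eq]
    rw [Set.ncard_insert_of_notMem (by simp [hv1.symm, h3.symm, h4.symm]),
      Set.ncard_insert_of_notMem (by simp [hvne.symm, h1]),
      Set.ncard_pair h2]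
  have huF : u ∈ Subgroup.normalizer (F : Set (G ⧸ Φ)) := Subgroup.mem_normalizer_fintype (by
    rintro w (rfl | rfl | rfl | rfl)
    · simp
    · exact Or.inr (Or.inr (Or.inl rfl))
    · exact Or.inr (Or.inr (Or.inr rfl))
    · exact Or.inr (Or.inl hv3))
  have hs₁ : sb * v₁ * sb⁻¹ = v₂ := by
    calc sb * v₁ * sb⁻¹ = (sb * u * sb⁻¹) * (sb * v * sb⁻¹) * (sb * u * sb⁻¹)⁻¹ := by
          rw [hv₁]; group
      _ = u⁻¹ * (u * v₂ * u⁻¹) * u := by rw [hui, hsv, hv3, inv_inv]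
      _ = v₂ := by group
  have hsF : sb ∈ Subgroup.normalizer (F : Set (G ⧸ Φ)) := Subgroup.mem_normalizer_fintype (by
    rintro w (rfl | rfl | rfl | rfl)
    · simp
    · exact Or.inr (Or.inl hsv)
    · exact Or.inr (Or.inr (Or.inr hs₁))
    · refine Or.inr (Or.inr (Or.inl ?_))
      calc sb * v₂ * sb⁻¹ = (sb * v * sb⁻¹) * (sb * v₁ * sb⁻¹) := by rw [hprod]; group
        _ = v₁ := by rw [hsv, hs₁, hprod, ← mul_assoc, hQb2 v hvQ, one_mul])
  refine hfree (CfsgLib.Offender.involves_of_surjective π (QuotientGroup.mk'_surjective Φ)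
    (CfsgLib.Offender.involves_perm_four hF hsF huF (fun w _ => ?_)
      ⟨v, Or.inr (Or.inl rfl), hvne⟩ ⟨3, by decide, fun w hw => ?_⟩))
  · rw [hui, inv_inv]
  · exact mem_centralizer_iff_conj.mp hu3 w (hFQ w hw)

/-- Characteristic two passes to overgroups of the `2`-core. -/
theorem char_of_le (hchar : Subgroup.centralizer (Cfsg.pCore 2 G : Set G) ≤ Cfsg.pCore 2 G)
    {H : Subgroup G} (hQH : Cfsg.pCore 2 G ≤ H) :
    Subgroup.centralizer (Cfsg.pCore 2 H : Set H) ≤ Cfsg.pCore 2 H := by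
  haveI : Fact (Nat.Prime 2) := ⟨Nat.prime_two⟩
  haveI := CfsgLib.Fitting.pCore_normal (G := G) 2
  have h1 : (Cfsg.pCore 2 G).subgroupOf H ≤ Cfsg.pCore 2 H :=
    CfsgLib.Fitting.le_pCore inferInstance
      ((CfsgLib.Fitting.pCore_isPGroup 2).comap_of_injective H.subtype H.subtype_injective)
  intro c hc
  refine h1 (hchar (Subgroup.mem_centralizer_iff.mpr fun q hq => ?_))
  exact congrArg Subtype.val (Subgroup.mem_centralizer_iff.mp hc ⟨q, hQH hq⟩ (h1 hq))

end CfsgLib.LocalK
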