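import Cfsg.Agent.Lib.LocalK.Bound

/-!
Fixed points of `2`-groups, stabilized chains, and commutators with an inverting involution.
-/

set_option autoImplicit false
set_option linter.style.haveILetI false

namespace CfsgLib.LocalK

open scoped Pointwise commutatorElement
open CfsgLib.PushUp (mem_centralizer_iff_conj conj_fix_iff)

universe u

variable {G : Type u} [Group G] [Finite G]

theorem exists_fixed_pgroup {W B : Subgroup G} (he : ∀ w ∈ W, w * w = 1) (hW : W ≠ ⊥)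
    (hBW : B ≤ Subgroup.normalizer (W : Set G)) (hB : IsPGroup 2 B) :
    ∃ w ∈ W, w ≠ 1 ∧ ∀ b ∈ B, b * w * b⁻¹ = w := by
  haveI : Fact (Nat.Prime 2) := ⟨Nat.prime_two⟩
  letI : MulAction B W := MulAction.compHom W (CfsgLib.Coprime.conjAct (A := B) (V := W) hBW)
  have hd : 2 ∣ Nat.card W := by
    obtain ⟨a, ha⟩ := exists_card_eq_two_pow he
    rcases a with _ | a
    · exact absurd (Subgroup.card_eq_one.mp (by rw [ha, pow_zero])) hW
    · rw [ha, pow_succ]; exact dvd_mul_left 2 _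
  obtain ⟨w, hw, hne⟩ := hB.exists_fixed_point_of_prime_dvd_card_of_fixed_point W hd
    (a := (1 : W)) (fun g => map_one (CfsgLib.Coprime.conjAct (A := B) (V := W) hBW g))
  exact ⟨w, w.2, fun h => hne (Subtype.ext h.symm),
    fun b hb => congrArg Subtype.val (hw ⟨b, hb⟩)⟩

/-- A fixed point of a `2`-group on `W / U`. -/
theorem exists_fixed_mod {W U D : Subgroup G} (he : ∀ w ∈ W, w * w = 1) (hU : U ≤ W) (hne : U ≠ W)
    (hDW : D ≤ Subgroup.normalizer (W : Set G)) (hDU : D ≤ Subgroup.normalizer (U : Set G))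
    (hD : IsPGroup 2 D) : ∃ w ∈ W, w ∉ U ∧ ∀ d ∈ D, d * w * d⁻¹ * w⁻¹ ∈ U := by
  set H := Subgroup.normalizer (U : Set G) with hH
  have hWH : W ≤ H := fun w hw => Subgroup.centralizer_le_normalizer _
    (Subgroup.mem_centralizer_iff.mpr fun u hu =>
      Subgroup.mem_centralizer_iff.mp (CfsgLib.PushUp.comm_of_sq he hw) _ (hU hu))
  haveI : (U.subgroupOf H).Normal := Subgroup.normal_subgroupOf_of_le_normalizer le_rfl
  set π := QuotientGroup.mk' (U.subgroupOf H) with hπ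
  have hπ1 : ∀ {g : H}, π g = 1 ↔ (g : G) ∈ U := fun {g} =>
    (QuotientGroup.eq_one_iff g).trans Subgroup.mem_subgroupOf
  obtain ⟨_, ⟨⟨w, hwH⟩, hw, rfl⟩, hne1, hfix⟩ := exists_fixed_pgroup
    (W := (W.subgroupOf H).map π) (B := (D.subgroupOf H).map π)
    (by
      rintro _ ⟨w, hw, rfl⟩
      rw [← map_mul, show w * w = 1 from Subtype.ext (he _ hw), map_one])
    (fun h => hne (le_antisymm hU fun w hw => hπ1.mp (Subgroup.mem_bot.mp
      (h.le (Subgroup.mem_map_of_mem π (show (⟨w, hWH hw⟩ : H) ∈ W.subgroupOf H from hw))))))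
    (by
      rintro _ ⟨b, hb, rfl⟩
      refine Subgroup.mem_normalizer_fintype ?_
      rintro _ ⟨w, hw, rfl⟩
      exact ⟨b * w * b⁻¹,
        show (b : G) * (w : G) * (b : G)⁻¹ ∈ W from conj_mem_of_mem_normalizer (hDW hb) hw,
        by rw [map_mul, map_mul, map_inv]⟩)
    ((hD.comap_of_injective H.subtype H.subtype_injective).map π)
  refine ⟨w, hw, fun h => hne1 (hπ1.mpr h), fun d hd => ?_⟩
  have h1 := hfix _ (Subgroup.mem_map_of_mem π (show (⟨d, hDU hd⟩ : H) ∈ D.subgroupOf H from hd))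
  exact hπ1.mp (show π (⟨d, hDU hd⟩ * ⟨w, hwH⟩ * ⟨d, hDU hd⟩⁻¹ * ⟨w, hwH⟩⁻¹) = 1 by
    rw [map_mul, map_mul, map_mul, map_inv, map_inv, h1, mul_inv_cancel])

/-- An element of odd order stabilizing a chain of `2`-groups modulo `C` fixes it modulo `C`. -/
theorem fix_mod {C K : Subgroup G} {y d : G} (hy : y ∈ Subgroup.normalizer (C : Set G))
    (hd : d ∈ Subgroup.normalizer (C : Set G)) (hKC : K ≤ Subgroup.normalizer (C : Set G))
    (hK : IsPGroup 2 K) (hodd : Odd (orderOf y)) (hmem : d⁻¹ * (y * d * y⁻¹) ∈ K)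
    (hfix : ∀ k ∈ K, y * k * y⁻¹ * k⁻¹ ∈ C) : d⁻¹ * (y * d * y⁻¹) ∈ C := by
  set H := Subgroup.normalizer (C : Set G) with hH
  haveI : (C.subgroupOf H).Normal := Subgroup.normal_subgroupOf_of_le_normalizer le_rfl
  set π := QuotientGroup.mk' (C.subgroupOf H) with hπ
  have hπ1 : ∀ {g : H}, π g = 1 ↔ (g : G) ∈ C := fun {g} =>
    (QuotientGroup.eq_one_iff g).trans Subgroup.mem_subgroupOf
  have h := CfsgLib.PushUp.fix_of_stabilizes (N := (K.subgroupOf H).map π)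
    ((hK.comap_of_injective H.subtype H.subtype_injective).map π) hodd
    (y := π ⟨y, hy⟩) (v := π ⟨d, hd⟩)
    ⟨⟨d, hd⟩⁻¹ * (⟨y, hy⟩ * ⟨d, hd⟩ * ⟨y, hy⟩⁻¹), hmem, by simp only [map_mul, map_inv]⟩
    (by
      have h1 := hπ1.mpr (show ((⟨y, hy⟩ * (⟨d, hd⟩⁻¹ * (⟨y, hy⟩ * ⟨d, hd⟩ * ⟨y, hy⟩⁻¹)) *
        ⟨y, hy⟩⁻¹ * (⟨d, hd⟩⁻¹ * (⟨y, hy⟩ * ⟨d, hd⟩ * ⟨y, hy⟩⁻¹))⁻¹ : H) : G) ∈ C from hfix _ hmem)
      simpa only [map_mul, map_inv, mul_inv_eq_one] using h1)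
    (by
      rw [← map_pow, show (⟨y, hy⟩ : H) ^ orderOf y = 1 from Subtype.ext (pow_orderOf_eq_one y)]
      simp)
  refine hπ1.mp (show π (⟨d, hd⟩⁻¹ * (⟨y, hy⟩ * ⟨d, hd⟩ * ⟨y, hy⟩⁻¹)) = 1 from ?_)
  rw [map_mul, map_inv, map_mul, map_mul, map_inv, h, inv_mul_cancel]

/-- The image in `K / N` of the commutators with `t` is large. -/
theorem comm_rank {K N : Subgroup G} (hKN : K ≤ Subgroup.normalizer (N : Set G))
    {y t : G} (hyN : y ∈ Subgroup.normalizer (N : Set G)) (htN : t ∈ Subgroup.normalizer (N : Set G))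
    (hyK : y ∈ Subgroup.normalizer (K : Set G)) (htK : t ∈ Subgroup.normalizer (K : Set G))
    {k r : ℕ} (hr : r.Prime) (hr2 : r ≠ 2) (hbig : Big k r) (hy : ∃ j, orderOf y = r ^ j)
    (hinv : t * y * t⁻¹ = y⁻¹) (ht2 : t * t = 1) (hsq : ∀ g ∈ K, g * g ∈ N)
    (hmove : ∃ g ∈ K, y * g * y⁻¹ * g⁻¹ ∉ N) :
    2 ^ (2 * k) ≤ N.relIndex (Subgroup.closure {x | ∃ g ∈ K, x = g * t * g⁻¹ * t⁻¹}) := by
  set H := Subgroup.normalizer (N : Set G) with hH
  haveI : (N.subgroupOf H).Normal := Subgroup.normal_subgroupOf_of_le_normalizer le_rfl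
  set π := QuotientGroup.mk' (N.subgroupOf H) with hπ
  have hπ1 : ∀ {g : H}, π g = 1 ↔ (g : G) ∈ N := fun {g} =>
    (QuotientGroup.eq_one_iff g).trans Subgroup.mem_subgroupOf
  set K' := (K.subgroupOf H).map π with hK'
  set y' := π ⟨y, hyN⟩ with hy'
  set t' := π ⟨t, htN⟩ with ht'
  have he : ∀ w ∈ K', w * w = 1 := by
    rintro _ ⟨g, hg, rfl⟩
    rw [← map_mul]; exact hπ1.mpr (hsq _ hg)
  have hn : ∀ {g : H}, (g : G) ∈ Subgroup.normalizer (K : Set G) →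
      π g ∈ Subgroup.normalizer (K' : Set (H ⧸ N.subgroupOf H)) := fun {g} hg =>
    Subgroup.mem_normalizer_fintype (by
      rintro _ ⟨w, hw, rfl⟩
      exact ⟨g * w * g⁻¹,
        show (g : G) * (w : G) * (g : G)⁻¹ ∈ K from conj_mem_of_mem_normalizer hg hw,
        by rw [map_mul, map_mul, map_inv]⟩)
  obtain ⟨j, hj⟩ := hy
  have hord : ∃ i, orderOf y' = r ^ i := by
    have h1 : orderOf y' ∣ r ^ j := by
      rw [← hj, ← Subgroup.orderOf_mk y hyN]; exact orderOf_map_dvd π _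
    obtain ⟨i, -, hi⟩ := (Nat.dvd_prime_pow hr).mp h1
    exact ⟨i, hi⟩
  have hyodd : Odd (orderOf y') := by
    obtain ⟨i, hi⟩ := hord
    rw [hi]; exact (hr.eq_two_or_odd'.resolve_left hr2).pow
  have hinv' : t' * y' * t'⁻¹ = y'⁻¹ := by
    rw [hy', ht', ← map_inv, ← map_mul, ← map_mul, ← map_inv]
    exact congrArg π (Subtype.ext hinv)
  have ht2' : t' * t' = 1 := by
    rw [ht', ← map_mul, show (⟨t, htN⟩ : H) * ⟨t, htN⟩ = 1 from Subtype.ext ht2, map_one]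
  have hyK' : y' ∈ Subgroup.normalizer (K' : Set _) := hn hyK
  have htK' : t' ∈ Subgroup.normalizer (K' : Set _) := hn htK
  set M := ⁅K', Subgroup.zpowers y'⁆ with hM
  obtain ⟨hmeet, hsup⟩ := decompose he hyodd hyK'
  have hMK : M ≤ K' := commutator_le_self hyK'
  have hMne : M ≠ ⊥ := fun h => by
    rw [← hM, h, sup_bot_eq] at hsup
    obtain ⟨g, hg, hgN⟩ := hmove
    have h1 := mem_centralizer_singleton_conj.mp (hsup.ge (Subgroup.mem_map_of_mem π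
      (show (⟨g, hKN hg⟩ : H) ∈ K.subgroupOf H from hg))).2
    refine hgN (hπ1.mp (show π (⟨y, hyN⟩ * ⟨g, hKN hg⟩ * ⟨y, hyN⟩⁻¹ * ⟨g, hKN hg⟩⁻¹) = 1 from ?_))
    rw [map_mul, map_mul, map_mul, map_inv, map_inv, ← hy', h1, mul_inv_cancel]
  have hfpf : M ⊓ Subgroup.centralizer ({y'} : Set _) = ⊥ := le_bot_iff.mp
    (hmeet ▸ le_inf (le_inf (inf_le_left.trans hMK) inf_le_right) inf_le_left)
  have hyM : y' ∈ Subgroup.normalizer (M : Set _) :=
    mem_normalizer_commutator hyK' hyK' fun g hg => ⟨g, hg, by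
      obtain ⟨l, rfl⟩ := hg
      show (y' ^ l)⁻¹ * (y' * y' ^ l * y'⁻¹) ∈ _
      rw [show y' * y' ^ l * y'⁻¹ = y' ^ l by group, inv_mul_cancel]
      exact one_mem _⟩
  have htM : t' ∈ Subgroup.normalizer (M : Set _) :=
    mem_normalizer_commutator hyK' htK' fun g hg => by
      obtain ⟨l, rfl⟩ := hg
      refine ⟨y' ^ (-l), ⟨_, rfl⟩, ?_⟩
      show (y' ^ (-l))⁻¹ * (t' * y' ^ l * t'⁻¹) ∈ _
      rw [← conj_zpow, hinv', inv_zpow, zpow_neg, inv_inv, mul_inv_cancel]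
      exact one_mem _
  obtain ⟨-, hge, honto⟩ := free_card (fun w hw => he w (hMK hw)) hr hr2 hbig hord hyM htM
    (by rw [hinv', inv_mul_cancel]; exact one_mem _) (by rw [ht2']; exact one_mem _) hfpf
  set R := Subgroup.closure {x | ∃ g ∈ K, x = g * t * g⁻¹ * t⁻¹} with hR
  have hRH : R ≤ H := (Subgroup.closure_le _).mpr (by
    rintro _ ⟨g, hg, rfl⟩
    exact mul_mem (mul_mem (mul_mem (hKN hg) htN) (inv_mem (hKN hg))) (inv_mem htN))
  rw [← Subgroup.relIndex_subgroupOf hRH, ← QuotientGroup.ker_mk' (N.subgroupOf H),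
    Subgroup.relIndex_ker]
  refine (hge hMne).trans (Subgroup.card_le_of_le fun x hx => ?_)
  obtain ⟨w, hw, rfl⟩ := honto x hx
  obtain ⟨g, hg, rfl⟩ := hMK hw
  refine ⟨g * ⟨t, htN⟩ * g⁻¹ * ⟨t, htN⟩⁻¹,
    Subgroup.subset_closure ⟨(g : G), hg, rfl⟩, ?_⟩
  have hi : (π g)⁻¹ = π g := inv_eq_of_mul_eq_one_right (he _ (Subgroup.mem_map_of_mem π hg))
  rw [map_mul, map_mul, map_mul, map_inv, map_inv, hi, ← ht']
  show π g * t' * π g * t'⁻¹ = π g * (t' * π g * t'⁻¹)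
  group

end CfsgLib.LocalK
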