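import Cfsg.Agent.Lib.LocalK.Cube
import Cfsg.Agent.Lib.LocalK.Tools
import Cfsg.Agent.Lib.LocalK.Sections

/-!
A step for a largest elementary abelian subgroup `A ≤ S` fixes `V`.
-/

set_option autoImplicit false
set_option linter.style.haveILetI false

namespace CfsgLib.LocalK

open scoped Pointwise commutatorElement
open CfsgLib.PushUp (cd cd_pos cd_mono_left cd_mono_right mem_centralizer_iff_conj conj_fix_iff MaxEl)
open Cfsg.Agent.S4022 (cj cj_mul cj_mono card_cj)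

universe u

variable {G : Type u} [Group G]

/-- The elements moving every element of `U` by an element of `B`. -/
def shiftStab (U B : Subgroup G) : Subgroup G where
  carrier := {g | g ∈ Subgroup.normalizer (B : Set G) ∧ ∀ u ∈ U, g * u * g⁻¹ * u⁻¹ ∈ B}
  one_mem' := ⟨one_mem _, fun u _ => by simp⟩
  mul_mem' {a b} ha hb := ⟨mul_mem ha.1 hb.1, fun u hu => by
    rw [show a * b * u * (a * b)⁻¹ * u⁻¹
      = (a * (b * u * b⁻¹ * u⁻¹) * a⁻¹) * (a * u * a⁻¹ * u⁻¹) by group]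
    exact mul_mem (conj_mem_of_mem_normalizer ha.1 (hb.2 u hu)) (ha.2 u hu)⟩
  inv_mem' {a} ha := ⟨inv_mem ha.1, fun u hu => by
    rw [show a⁻¹ * u * a⁻¹⁻¹ * u⁻¹ = a⁻¹ * (a * u * a⁻¹ * u⁻¹)⁻¹ * a⁻¹⁻¹ by group]
    exact conj_mem_of_mem_normalizer (inv_mem ha.1) (inv_mem (ha.2 u hu))⟩

theorem mem_normalizer_shiftStab [Finite G] {U B : Subgroup G} {g : G}
    (hU : g ∈ Subgroup.normalizer (U : Set G)) (hB : g ∈ Subgroup.normalizer (B : Set G)) :
    g ∈ Subgroup.normalizer (shiftStab U B : Set G) :=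
  Subgroup.mem_normalizer_fintype fun x hx => ⟨mul_mem (mul_mem hB hx.1) (inv_mem hB), fun u hu => by
    have hu' : g⁻¹ * u * g ∈ U := (Subgroup.mem_normalizer_iff''.mp hU u).mp hu
    rw [show g * x * g⁻¹ * u * (g * x * g⁻¹)⁻¹ * u⁻¹
      = g * (x * (g⁻¹ * u * g) * x⁻¹ * (g⁻¹ * u * g)⁻¹) * g⁻¹ by group]
    exact conj_mem_of_mem_normalizer hB (hx.2 _ hu')⟩

/-- The elements of an elementary abelian group moved by `D` only within `B`. -/
def shiftSub (W B D : Subgroup G) (he : ∀ w ∈ W, w * w = 1) (hB : B ≤ W)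
    (hD : D ≤ Subgroup.normalizer (W : Set G)) : Subgroup G where
  carrier := {w | w ∈ W ∧ ∀ d ∈ D, d * w * d⁻¹ * w⁻¹ ∈ B}
  one_mem' := ⟨one_mem _, fun d _ => by simp⟩
  mul_mem' {a b} ha hb := ⟨mul_mem ha.1 hb.1, fun d hd => by
    have hc := Subgroup.mem_centralizer_iff.mp (CfsgLib.PushUp.comm_of_sq he (inv_mem ha.1))
      (d * b * d⁻¹ * b⁻¹) (hB (hb.2 d hd))
    have e : d * (a * b) * d⁻¹ * (a * b)⁻¹ = (d * a * d⁻¹ * a⁻¹) * (d * b * d⁻¹ * b⁻¹) := by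
      calc d * (a * b) * d⁻¹ * (a * b)⁻¹ = (d * a * d⁻¹) * ((d * b * d⁻¹ * b⁻¹) * a⁻¹) := by group
        _ = (d * a * d⁻¹) * (a⁻¹ * (d * b * d⁻¹ * b⁻¹)) := by rw [← hc]
        _ = _ := by group
    rw [e]
    exact mul_mem (ha.2 d hd) (hb.2 d hd)⟩
  inv_mem' {a} ha := ⟨inv_mem ha.1, fun d hd => by
    have e : a⁻¹ = a := inv_eq_of_mul_eq_one_right (he a ha.1)
    rw [e]; exact ha.2 d hd⟩

variable [Finite G]

theorem mem_normalizer_inf {H K : Subgroup G} {g : G} (hH : g ∈ Subgroup.normalizer (H : Set G))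
    (hK : g ∈ Subgroup.normalizer (K : Set G)) :
    g ∈ Subgroup.normalizer ((H ⊓ K : Subgroup G) : Set G) :=
  Subgroup.mem_normalizer_fintype fun _ hx =>
    ⟨conj_mem_of_mem_normalizer hH hx.1, conj_mem_of_mem_normalizer hK hx.2⟩

theorem mem_normalizer_centralizer {H : Subgroup G} {g : G}
    (hH : g ∈ Subgroup.normalizer (H : Set G)) :
    g ∈ Subgroup.normalizer (Subgroup.centralizer (H : Set G) : Set G) :=
  Subgroup.mem_normalizer_fintype fun x hx => mem_centralizer_iff_conj.mpr fun v hv => by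
    have hv' : g⁻¹ * v * g ∈ H := (Subgroup.mem_normalizer_iff''.mp hH v).mp hv
    calc g * x * g⁻¹ * v * (g * x * g⁻¹)⁻¹ = g * (x * (g⁻¹ * v * g) * x⁻¹) * g⁻¹ := by group
      _ = v := by rw [mem_centralizer_iff_conj.mp hx _ hv']; group

theorem core_exact {S : Sylow 2 G} {V : Subgroup G} (h : Setting S V)
    (hcomm : ∀ g : G, cj g V ≤ Subgroup.centralizer (V : Set G))
    (hVS : ∀ g : G, cj g V ≤ (S : Subgroup G)) {A A₁ T₀ : Subgroup G}
    (hA : MaxEl (S : Subgroup G) A) (hA₁ : A₁ ≤ A) (hT₀ : T₀ ≤ (S : Subgroup G)) (hA₁T : A₁ ≤ T₀)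
    {t y : G} (ht : t ∈ A) (hyT : y ∈ Subgroup.normalizer (T₀ : Set G)) {k r : ℕ} (hr : r.Prime)
    (hr2 : r ≠ 2) (hk : 1 ≤ k) (hbig : Big k r) (hinv : t * y * t⁻¹ = y⁻¹)
    (hy : ∃ j, orderOf y = r ^ j) (hcard : Nat.card A ≤ 2 ^ k * Nat.card A₁) :
    y ∈ Subgroup.normalizer (V : Set G) := by
  haveI : Fact (Nat.Prime 2) := ⟨Nat.prime_two⟩
  have hyodd : Odd (orderOf y) := by
    obtain ⟨j, hj⟩ := hy
    rw [hj]; exact (hr.eq_two_or_odd'.resolve_left hr2).pow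
  have ht2 : t * t = 1 := hA.sq t ht
  set T : Set (Subgroup G) := {U | ∃ g ∈ Subgroup.zpowers y, U = cj g V} with hTdef
  set W := sSup T with hWdef
  have hcjW : ∀ {g : G}, g ∈ Subgroup.zpowers y → cj g V ≤ W := fun hg => le_sSup ⟨_, hg, rfl⟩
  have hVW : V ≤ W := (Cfsg.Agent.S4270.cj_one V).ge.trans (hcjW (one_mem _))
  have hWS : W ≤ (S : Subgroup G) := sSup_le (by rintro _ ⟨g, -, rfl⟩; exact hVS g)
  have he : ∀ w ∈ W, w * w = 1 := by
    rw [hWdef, sSup_eq_iSup']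
    refine CfsgLib.PushUp.sq_one_iSup (fun U => ?_) fun U U' => ?_
    · obtain ⟨g, -, hU⟩ := U.2
      rw [hU]; rintro _ ⟨v, hv, rfl⟩; rw [← map_mul, h.sq v hv, map_one]
    · obtain ⟨g, -, hU⟩ := U.2
      obtain ⟨g', -, hU'⟩ := U'.2
      rw [hU, hU']
      intro x hx
      refine mem_centralizer_iff_conj.mpr ?_
      rintro _ ⟨v, hv, rfl⟩
      show x * (g' * v * g'⁻¹) * x⁻¹ = g' * v * g'⁻¹
      have h1 : g'⁻¹ * x * g' ∈ cj (g'⁻¹ * g) V := by
        rw [cj_mul]; exact ⟨x, hx, by simp [mul_assoc]⟩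
      calc x * (g' * v * g'⁻¹) * x⁻¹ = g' * ((g'⁻¹ * x * g') * v * (g'⁻¹ * x * g')⁻¹) * g'⁻¹ := by
            group
        _ = _ := by rw [mem_centralizer_iff_conj.mp (hcomm _ h1) v hv]
  have hW2 : IsPGroup 2 W := S.2.to_le hWS
  have hcW : ∀ {a b : G}, a ∈ W → b ∈ W → a * b = b * a := fun ha hb =>
    (Subgroup.mem_centralizer_iff.mp (CfsgLib.PushUp.comm_of_sq he hb) _ ha)
  have hcj_norm : ∀ {n : G}, (∀ g ∈ Subgroup.zpowers y, ∃ g' ∈ Subgroup.zpowers y,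
      cj n (cj g V) = cj g' V) → n ∈ Subgroup.normalizer (W : Set G) := by
    intro n hn
    refine Subgroup.mem_normalizer_fintype fun x hx => ?_
    have hle : W ≤ W.comap (MulAut.conj n).toMonoidHom := sSup_le (by
      rintro _ ⟨g, hg, rfl⟩
      obtain ⟨g', hg', e⟩ := hn g hg
      rw [← Subgroup.map_le_iff_le_comap]
      exact e.le.trans (hcjW hg'))
    exact hle hx
  have hyW : y ∈ Subgroup.normalizer (W : Set G) :=
    hcj_norm fun g hg => ⟨y * g, mul_mem (Subgroup.mem_zpowers y) hg, (cj_mul y g V).symm⟩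
  have htV : t ∈ Subgroup.centralizer (V : Set G) := h.maxEl_le_centralizer hA ht
  have hA₁V : A₁ ≤ Subgroup.centralizer (V : Set G) := hA₁.trans (h.maxEl_le_centralizer hA)
  have htW : t ∈ Subgroup.normalizer (W : Set G) := hcj_norm fun g hg => by
    obtain ⟨i, rfl⟩ := hg
    refine ⟨y ^ (-i), ⟨_, rfl⟩, ?_⟩
    have e : t * y ^ i = y ^ (-i) * t := by
      rw [zpow_neg, ← inv_zpow, ← hinv, conj_zpow, inv_mul_cancel_right]
    show cj t (cj (y ^ i) V) = _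
    rw [← cj_mul, e, cj_mul, mem_normalizer_iff_cj.mp (Subgroup.centralizer_le_normalizer _ htV)]
  have hT₀U : ∀ {g : G}, g ∈ Subgroup.zpowers y →
      T₀ ≤ Subgroup.normalizer (cj g V : Set G) := fun {g} hg => by
    have hgT : cj g T₀ = T₀ := mem_normalizer_iff_cj.mp (Subgroup.zpowers_le.mpr hyT hg)
    exact hgT.ge.trans (le_normalizer_cj (hT₀.trans h.norm))
  have hT₀W : T₀ ≤ Subgroup.normalizer (W : Set G) := fun n hn => hcj_norm fun g hg =>
    ⟨g, hg, mem_normalizer_iff_cj.mp (hT₀U hg hn)⟩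
  -- the loss of `A₁` and of `A₁⟨t⟩`
  have hcube : ∀ {R : Subgroup G}, R ≤ T₀ →
      (∀ x ∈ R, x * x ∈ Subgroup.centralizer (W : Set G)) → Cube R W := fun {R} hR hsq =>
    Cube.sSup T fun B hB U hU => by
      obtain ⟨g, hg, rfl⟩ := hU
      exact (h.cj g).cube (S.2.to_le ((hB.trans hR).trans hT₀))
        ((hB.trans hR).trans (hT₀U hg))
        (fun x hx => CfsgLib.PushUp.centralizer_mono (hcjW hg) (hsq x (hB hx)))
  set e := cd A₁ W with hedef
  set L := cd W (A₁ ⊔ Subgroup.zpowers t) with hLdef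
  have hB0A : A₁ ⊔ Subgroup.zpowers t ≤ A := sup_le hA₁ (Subgroup.zpowers_le.mpr ht)
  have hLe : L ≤ 2 ^ k * e := by
    refine ((cd_mono_left hB0A).trans (hA.offender hWS he)).trans ?_
    have h1 : cd A W ≤ (Subgroup.centralizer (W : Set G) ⊓ A₁).relIndex A :=
      Subgroup.relIndex_le_of_le_left inf_le_left Subgroup.index_ne_zero_of_finite
    rw [← Subgroup.relIndex_mul_relIndex (Subgroup.centralizer (W : Set G) ⊓ A₁) A₁ A inf_le_right
      hA₁, Subgroup.inf_relIndex_right, mul_comm] at h1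
    refine h1.trans (Nat.mul_le_mul_right _ ?_)
    have h2 := Subgroup.relIndex_mul_relIndex ⊥ A₁ A bot_le hA₁
    rw [Subgroup.relIndex_bot_left, Subgroup.relIndex_bot_left] at h2
    rw [← h2, mul_comm (2 ^ k)] at hcard
    exact Nat.le_of_mul_le_mul_left hcard Nat.card_pos
  have hsqA : ∀ x ∈ A₁, x * x ∈ Subgroup.centralizer (W : Set G) := fun x hx => by
    rw [hA.sq x (hA₁ hx)]; exact one_mem _
  have hL3 : L < 2 ^ (3 * k) := by
    by_cases he1 : e = 1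
    · rw [he1, mul_one] at hLe
      exact hLe.trans_lt (Nat.pow_lt_pow_right one_lt_two (by omega))
    · have h1 : e ^ 3 < (2 ^ k * e) ^ 2 := (hcube hA₁T hsqA he1).trans_le
        (Nat.pow_le_pow_left ((cd_mono_left le_sup_left).trans hLe) 2)
      have h2 : e < 2 ^ (2 * k) := by
        rw [show (2 ^ k * e) ^ 2 = e ^ 2 * 2 ^ (2 * k) by rw [mul_pow, ← pow_mul, mul_comm k 2, mul_comm],
          pow_succ] at h1
        exact Nat.lt_of_mul_lt_mul_left h1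
      calc L ≤ 2 ^ k * e := hLe
        _ < 2 ^ k * 2 ^ (2 * k) := Nat.mul_lt_mul_of_pos_left h2 (by positivity)
        _ = _ := by rw [← pow_add]; congr 1; omega
  -- the decomposition
  set W₁ := ⁅W, Subgroup.zpowers y⁆ with hW₁
  set W₀ := W ⊓ Subgroup.centralizer ({y} : Set G) with hW₀
  obtain ⟨hmeet, hsupW⟩ := decompose he hyodd hyW
  have hW₁W : W₁ ≤ W := commutator_le_self hyW
  have hW₀W : W₀ ≤ W := inf_le_left
  by_cases hW₁ne : W₁ = ⊥
  · rw [← hW₁, hW₁ne, sup_bot_eq] at hsupW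
    exact Subgroup.mem_normalizer_fintype fun v hv => by
      rw [mem_centralizer_singleton_conj.mp (hsupW.ge (hVW hv)).2]; exact hv
  have hy0 : ∀ w ∈ W₀, ∀ g ∈ Subgroup.zpowers y, g * w * g⁻¹ = w := fun w hw g hg => by
    have h1 : w ∈ Subgroup.centralizer (Subgroup.zpowers y : Set G) := by
      rw [centralizer_zpowers]; exact hw.2
    exact conj_fix_iff.mpr (Subgroup.mem_centralizer_iff.mp h1 g hg).symm
  have hfpf : W₁ ⊓ Subgroup.centralizer ({y} : Set G) = ⊥ := le_bot_iff.mp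
    (hmeet ▸ le_inf (le_inf (inf_le_left.trans hW₁W) inf_le_right) inf_le_left)
  have hyn : y ∈ Subgroup.normalizer (W₁ : Set G) :=
    mem_normalizer_commutator hyW hyW fun g hg => ⟨g, hg, by
      obtain ⟨l, rfl⟩ := hg
      show (y ^ l)⁻¹ * (y * y ^ l * y⁻¹) ∈ _
      rw [show y * y ^ l * y⁻¹ = y ^ l by group, inv_mul_cancel]
      exact one_mem _⟩
  have htn : t ∈ Subgroup.normalizer (W₁ : Set G) :=
    mem_normalizer_commutator hyW htW fun g hg => by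
      obtain ⟨l, rfl⟩ := hg
      refine ⟨y ^ (-l), ⟨_, rfl⟩, ?_⟩
      show (y ^ (-l))⁻¹ * (t * y ^ l * t⁻¹) ∈ _
      rw [← conj_zpow, hinv, inv_zpow, zpow_neg, inv_inv, mul_inv_cancel]
      exact one_mem _
  have htn₀ : ∀ w ∈ W₀, t * w * t⁻¹ ∈ W₀ := fun w hw =>
    ⟨conj_mem_of_mem_normalizer htW hw.1, mem_centralizer_singleton_conj.mpr (by
      have h1 := hy0 w hw y⁻¹ (inv_mem (Subgroup.mem_zpowers y))
      calc y * (t * w * t⁻¹) * y⁻¹
          = t * ((t⁻¹ * y * t) * w * (t⁻¹ * y * t)⁻¹) * t⁻¹ := by group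
        _ = _ := by
          rw [inv_eq_of_mul_eq_one_right ht2]
          rw [inv_eq_of_mul_eq_one_right ht2] at hinv
          rw [hinv, h1])⟩
  -- `W = V W₁`
  have hnW : ∀ {H K : Subgroup G}, H ≤ W → K ≤ W → H ≤ Subgroup.normalizer (K : Set G) :=
    fun hH hK x hx => Subgroup.centralizer_le_normalizer _
      (Subgroup.mem_centralizer_iff.mpr fun z hz => hcW (hK hz) (hH hx))
  have hsplit : ∀ w ∈ W, ∃ p ∈ W₀, ∃ q ∈ W₁, w = p * q := fun w hw => by
    have h1 := hsupW.ge hw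
    rw [← SetLike.mem_coe, Subgroup.coe_mul_of_right_le_normalizer_left _ _
      (hnW hW₁W hW₀W)] at h1
    obtain ⟨p, hp, q, hq, rfl⟩ := h1
    exact ⟨p, hp, q, hq, rfl⟩
  have hVW₁ : W ≤ V ⊔ W₁ := sSup_le (by
    rintro _ ⟨g, hg, rfl⟩ _ ⟨v, hv, rfl⟩
    have hm := Subgroup.commutator_mem_commutator (inv_mem (hVW hv)) hg
    rw [commutatorElement_def] at hm
    show g * v * g⁻¹ ∈ V ⊔ W₁
    have e : g * v * g⁻¹ = v * (v⁻¹ * g * v⁻¹⁻¹ * g⁻¹) := by group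
    rw [e]
    exact mul_mem (Subgroup.mem_sup_left hv) (Subgroup.mem_sup_right hm))
  have ht₀ : ∀ w ∈ W₀, t * w * t⁻¹ = w := fun w hw => by
    have h1 := hVW₁ hw.1
    rw [← SetLike.mem_coe, Subgroup.coe_mul_of_right_le_normalizer_left _ _ (hnW hW₁W hVW)] at h1
    obtain ⟨v, hv, q, hq, he'⟩ := h1
    replace hq : q ∈ W₁ := hq
    have htv : t * v * t⁻¹ = v := mem_centralizer_iff_conj.mp htV v hv
    have h2 : w⁻¹ * (t * w * t⁻¹) ∈ W₁ := by
      rw [← he', show (fun a b => a * b) v q = v * q from rfl,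
        show (v * q)⁻¹ * (t * (v * q) * t⁻¹) = q⁻¹ * (v⁻¹ * (t * v * t⁻¹)) * (t * q * t⁻¹) by group,
        htv, inv_mul_cancel, mul_one]
      exact mul_mem (inv_mem hq) (conj_mem_of_mem_normalizer htn hq)
    exact (inv_mul_eq_one.mp (Subgroup.mem_bot.mp
      (hmeet ▸ ⟨(show w⁻¹ * (t * w * t⁻¹) ∈ W₀ from mul_mem (inv_mem hw) (htn₀ w hw)), h2⟩))).symm
  have htI : ∀ w ∈ W, t * w * t⁻¹ * w⁻¹ ∈ W₁ ⊓ Subgroup.centralizer ({t} : Set G) := fun w hw => by
    obtain ⟨p, hp, q, hq, rfl⟩ := hsplit w hw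
    have e : t * (p * q) * t⁻¹ * (p * q)⁻¹ = t * q * t⁻¹ * q⁻¹ := by
      have hm : t * q * t⁻¹ * q⁻¹ ∈ W :=
        hW₁W (show t * q * t⁻¹ * q⁻¹ ∈ W₁ from
          mul_mem (conj_mem_of_mem_normalizer htn hq) (inv_mem hq))
      calc t * (p * q) * t⁻¹ * (p * q)⁻¹ = (t * p * t⁻¹) * (t * q * t⁻¹ * q⁻¹) * p⁻¹ := by group
        _ = _ := by rw [ht₀ p hp, hcW hp.1 hm]; group
    rw [e]
    refine ⟨(show t * q * t⁻¹ * q⁻¹ ∈ W₁ from
      mul_mem (conj_mem_of_mem_normalizer htn hq) (inv_mem hq)),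
      mem_centralizer_singleton_conj.mpr ?_⟩
    have e1 : q⁻¹ = q := inv_eq_of_mul_eq_one_right (he q (hW₁W hq))
    rw [e1]
    calc t * (t * q * t⁻¹ * q) * t⁻¹ = (t * t) * q * (t * t)⁻¹ * (t * q * t⁻¹) := by group
      _ = t * q * t⁻¹ * q := by
        rw [ht2, one_mul, inv_one, mul_one,
          hcW (hW₁W hq) (hW₁W (conj_mem_of_mem_normalizer htn hq))]
  obtain ⟨hW₁card, hge, -⟩ := free_card (fun w hw => he w (hW₁W hw)) hr hr2 hbig hy hyn htn
    (by rw [hinv, inv_mul_cancel]; exact one_mem _) (by rw [ht2]; exact one_mem _) hfpf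
  set C₁ := W₁ ⊓ Subgroup.centralizer ({t} : Set G) with hC₁
  have hC₁L : Nat.card C₁ ≤ L := by
    have h1 := CfsgLib.Coprime.relIndex_mul_card_inf
      (Subgroup.centralizer (Subgroup.zpowers t : Set G)) W₁
    rw [show Nat.card ↥(Subgroup.centralizer (Subgroup.zpowers t : Set G) ⊓ W₁) = Nat.card C₁ by
      rw [hC₁, centralizer_zpowers, inf_comm], hW₁card, pow_two] at h1
    rw [← Nat.eq_of_mul_eq_mul_right Nat.card_pos h1]
    exact (cd_mono_right hW₁W).trans (cd_mono_left le_sup_right)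
  have hirr : ∀ U ≤ W₁, y ∈ Subgroup.normalizer (U : Set G) → t ∈ Subgroup.normalizer (U : Set G) →
      U ≠ ⊥ → U = W₁ := fun U hU hyU htU hU0 => by
    by_contra hne
    have h1 := free_index (fun w hw => he w (hW₁W hw)) hU hne hr hr2 hbig hy hyn htn hyU htU
      (by rw [hinv, inv_mul_cancel]; exact one_mem _) (by rw [ht2]; exact one_mem _) hfpf
    obtain ⟨hUc, hUge, -⟩ := free_card (fun w hw => he w (hW₁W (hU hw))) hr hr2 hbig hy hyU htU
      (by rw [hinv, inv_mul_cancel]; exact one_mem _) (by rw [ht2]; exact one_mem _)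
      (le_bot_iff.mp (hfpf ▸ inf_le_inf_right _ hU))
    have h2 : 2 ^ (4 * k) * 2 ^ (4 * k) < 2 ^ (6 * k) := by
      refine lt_of_le_of_lt ((Nat.mul_le_mul_left _ ?_).trans h1) ?_
      · rw [hUc, show 4 * k = 2 * k * 2 by ring, pow_mul]; exact Nat.pow_le_pow_left (hUge hU0) 2
      · rw [hW₁card, show 6 * k = 3 * k * 2 by ring, pow_mul _ (3 * k)]
        exact Nat.pow_lt_pow_left (hC₁L.trans_lt hL3) two_ne_zero
    rw [← pow_add] at h2
    have := Nat.pow_lt_pow_iff_right (le_refl 2) |>.mp h2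
    omega
  -- the conjugates of `A₁`
  set D := sSup {U : Subgroup G | ∃ g ∈ Subgroup.zpowers y, U = cj g A₁} with hDdef
  have hA₁D : A₁ ≤ D := (Cfsg.Agent.S4270.cj_one A₁).ge.trans (le_sSup ⟨1, one_mem _, rfl⟩)
  have hDT : D ≤ T₀ := sSup_le (by
    rintro _ ⟨g, hg, rfl⟩
    exact (cj_mono g hA₁T).trans (mem_normalizer_iff_cj.mp (Subgroup.zpowers_le.mpr hyT hg)).le)
  have hD_norm : ∀ {n : G}, (∀ g ∈ Subgroup.zpowers y, ∃ g' ∈ Subgroup.zpowers y,
      cj n (cj g A₁) = cj g' A₁) → n ∈ Subgroup.normalizer (D : Set G) := by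
    intro n hn
    refine Subgroup.mem_normalizer_fintype fun x hx => ?_
    have hle : D ≤ D.comap (MulAut.conj n).toMonoidHom := sSup_le (by
      rintro _ ⟨g, hg, rfl⟩
      obtain ⟨g', hg', e⟩ := hn g hg
      rw [← Subgroup.map_le_iff_le_comap]
      exact e.le.trans (le_sSup ⟨g', hg', rfl⟩))
    exact hle hx
  have hyD : y ∈ Subgroup.normalizer (D : Set G) :=
    hD_norm fun g hg => ⟨y * g, mul_mem (Subgroup.mem_zpowers y) hg, (cj_mul y g A₁).symm⟩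
  have htA₁ : t ∈ Subgroup.normalizer (A₁ : Set G) := Subgroup.centralizer_le_normalizer _
    (Subgroup.mem_centralizer_iff.mpr fun a ha =>
      Subgroup.mem_centralizer_iff.mp (CfsgLib.PushUp.comm_of_sq hA.sq ht) a (hA₁ ha))
  have htD : t ∈ Subgroup.normalizer (D : Set G) := hD_norm fun g hg => by
    obtain ⟨i, rfl⟩ := hg
    refine ⟨y ^ (-i), ⟨_, rfl⟩, ?_⟩
    have e : t * y ^ i = y ^ (-i) * t := by
      rw [zpow_neg, ← inv_zpow, ← hinv, conj_zpow, inv_mul_cancel_right]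
    show cj t (cj (y ^ i) A₁) = _
    rw [← cj_mul, e, cj_mul, mem_normalizer_iff_cj.mp htA₁]
  have hD2 : IsPGroup 2 D := S.2.to_le (hDT.trans hT₀)
  have hDW : D ≤ Subgroup.normalizer (W : Set G) := hDT.trans hT₀W
  obtain ⟨B, hBmax⟩ := (Set.toFinite {B : Subgroup G | B ≤ W₀ ∧
    D ≤ Subgroup.normalizer (B : Set G)}).exists_maximal ⟨⊥, bot_le, fun d _ =>
      Subgroup.mem_normalizer_fintype fun x hx => by
        rw [Subgroup.mem_bot.mp hx, mul_one, mul_inv_cancel]; exact one_mem _⟩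
  obtain ⟨hBW₀, hDB⟩ := hBmax.prop
  have hBW : B ≤ W := hBW₀.trans hW₀W
  have hfixB : ∀ {g : G}, g ∈ Subgroup.zpowers y → ∀ b ∈ B, g * b * g⁻¹ = b :=
    fun hg b hb => hy0 b (hBW₀ hb) _ hg
  have hyB : y ∈ Subgroup.centralizer (B : Set G) :=
    mem_centralizer_iff_conj.mpr (hfixB (Subgroup.mem_zpowers y))
  have htB : t ∈ Subgroup.centralizer (B : Set G) :=
    mem_centralizer_iff_conj.mpr fun b hb => ht₀ b (hBW₀ hb)
  set Ub := shiftSub W B D he hBW hDW with hUb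
  have hUbn : ∀ {n : G}, n ∈ Subgroup.normalizer (W : Set G) →
      n ∈ Subgroup.normalizer (B : Set G) → n ∈ Subgroup.normalizer (D : Set G) →
      n ∈ Subgroup.normalizer (Ub : Set G) := fun {n} h1 h2 h3 =>
    Subgroup.mem_normalizer_fintype fun x hx => ⟨conj_mem_of_mem_normalizer h1 hx.1, fun d hd => by
      have hd' : n⁻¹ * d * n ∈ D := (Subgroup.mem_normalizer_iff''.mp h3 d).mp hd
      rw [show d * (n * x * n⁻¹) * d⁻¹ * (n * x * n⁻¹)⁻¹
        = n * ((n⁻¹ * d * n) * x * (n⁻¹ * d * n)⁻¹ * x⁻¹) * n⁻¹ by group]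
      exact conj_mem_of_mem_normalizer h2 (hx.2 _ hd')⟩
  have hyUb := hUbn hyW (Subgroup.centralizer_le_normalizer _ hyB) hyD
  have htUb := hUbn htW (Subgroup.centralizer_le_normalizer _ htB) htD
  have hW₁Ub : W₁ ≤ Ub := by
    have hBne : B ≠ W := fun hB => hW₁ne (le_bot_iff.mp (hmeet ▸ le_inf
      (hW₁W.trans (hB.ge.trans hBW₀)) le_rfl))
    obtain ⟨w, hw, hwB, hfix⟩ := exists_fixed_mod he hBW hBne hDW hDB hD2
    have hwUb : w ∈ Ub := ⟨hw, hfix⟩
    have hBUb : B ≤ Ub := fun b hb => ⟨hBW hb, fun d hd =>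
      mul_mem (conj_mem_of_mem_normalizer (hDB hd) hb) (inv_mem hb)⟩
    have hDUb : D ≤ Subgroup.normalizer (Ub : Set G) := fun d hd =>
      Subgroup.mem_normalizer_fintype fun x hx => by
        rw [show d * x * d⁻¹ = (d * x * d⁻¹ * x⁻¹) * x by group]
        exact mul_mem (hBUb (hx.2 d hd)) hx
    have hnot : ¬ Ub ≤ W₀ := fun hle => hwB (hBmax.le_of_ge ⟨hle, hDUb⟩ hBUb hwUb)
    obtain ⟨x, hx, hx0⟩ := SetLike.not_le_iff_exists.mp hnot
    have hxW : x ∈ W := hx.1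
    have hz : y * x * y⁻¹ * x⁻¹ ≠ 1 := fun hz =>
      hx0 ⟨hxW, mem_centralizer_singleton_conj.mpr (mul_inv_eq_one.mp hz)⟩
    have hzW₁ : y * x * y⁻¹ * x⁻¹ ∈ W₁ := by
      have h1 := Subgroup.commutator_mem_commutator hxW (Subgroup.mem_zpowers y)
      have h2 := inv_mem h1
      rwa [commutatorElement_def, show (x * y * x⁻¹ * y⁻¹)⁻¹ = y * x * y⁻¹ * x⁻¹ by group] at h2
    have hU : Ub ⊓ W₁ = W₁ := hirr _ inf_le_right (mem_normalizer_inf hyUb hyn)
      (mem_normalizer_inf htUb htn) fun h0 => hz (Subgroup.mem_bot.mp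
        (h0 ▸ ⟨(show y * x * y⁻¹ * x⁻¹ ∈ Ub from
          mul_mem (conj_mem_of_mem_normalizer hyUb hx) (inv_mem hx)), hzW₁⟩))
    exact hU ▸ inf_le_left
  have hW₁B : ∀ d ∈ D, ∀ w ∈ W₁, d * w * d⁻¹ * w⁻¹ ∈ B := fun d hd w hw => (hW₁Ub hw).2 d hd
  -- the kernel of the shift
  set U₀ := W₀ ⊓ shiftSub W B A₁ he hBW (hA₁D.trans hDW) with hU₀
  have hU₀y : ∀ {g : G}, g ∈ Subgroup.zpowers y → ∀ u ∈ U₀, g * u * g⁻¹ = u :=
    fun hg u hu => hy0 u hu.1 _ hg
  have hyU₀ : y ∈ Subgroup.centralizer (U₀ : Set G) :=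
    mem_centralizer_iff_conj.mpr (hU₀y (Subgroup.mem_zpowers y))
  have htU₀ : t ∈ Subgroup.centralizer (U₀ : Set G) :=
    mem_centralizer_iff_conj.mpr fun u hu => ht₀ u hu.1
  have hDU₀ : D ≤ shiftStab U₀ B := sSup_le (by
    rintro _ ⟨g, hg, rfl⟩ _ ⟨a, ha, rfl⟩
    refine ⟨hDB (le_sSup (s := {U : Subgroup G | ∃ g ∈ Subgroup.zpowers y, U = cj g A₁})
      ⟨g, hg, rfl⟩ ⟨a, ha, rfl⟩), fun u hu => ?_⟩
    show g * a * g⁻¹ * u * (g * a * g⁻¹)⁻¹ * u⁻¹ ∈ B
    have h1 : g⁻¹ * u * g⁻¹⁻¹ = u := hU₀y (inv_mem hg) u hu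
    have h2 : a * u * a⁻¹ * u⁻¹ ∈ B := hu.2.2 a ha
    rw [show g * a * g⁻¹ * u * (g * a * g⁻¹)⁻¹ * u⁻¹
      = g * (a * (g⁻¹ * u * g⁻¹⁻¹) * a⁻¹ * (g⁻¹ * u * g⁻¹⁻¹)⁻¹) * g⁻¹ by group, h1, hfixB hg _ h2]
    exact h2)
  set Z := W₁ ⊔ B with hZ
  have hZW : Z ≤ W := sup_le hW₁W hBW
  have hZn : ∀ {n : G}, (∀ w ∈ W₁, n * w * n⁻¹ ∈ Z) → (∀ b ∈ B, n * b * n⁻¹ ∈ Z) →
      n ∈ Subgroup.normalizer (Z : Set G) := fun {n} h1 h2 => by
    have hle : Z ≤ Z.comap (MulAut.conj n).toMonoidHom := sup_le h1 h2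
    exact Subgroup.mem_normalizer_fintype fun x hx => hle hx
  have hDZ : D ≤ Subgroup.normalizer (Z : Set G) := fun d hd => hZn
    (fun w hw => by
      rw [show d * w * d⁻¹ = d * w * d⁻¹ * w⁻¹ * w by group]
      exact mul_mem (Subgroup.mem_sup_right (hW₁B d hd w hw)) (Subgroup.mem_sup_left hw))
    (fun b hb => Subgroup.mem_sup_right (conj_mem_of_mem_normalizer (hDB hd) hb))
  have hyZ : y ∈ Subgroup.normalizer (Z : Set G) := hZn
    (fun w hw => Subgroup.mem_sup_left (conj_mem_of_mem_normalizer hyn hw))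
    (fun b hb => by rw [hfixB (Subgroup.mem_zpowers y) b hb]; exact Subgroup.mem_sup_right hb)
  have htZ : t ∈ Subgroup.normalizer (Z : Set G) := hZn
    (fun w hw => Subgroup.mem_sup_left (conj_mem_of_mem_normalizer htn hw))
    (fun b hb => by rw [mem_centralizer_iff_conj.mp htB b hb]; exact Subgroup.mem_sup_right hb)
  set K := D ⊓ Subgroup.centralizer (B : Set G) ⊓ Subgroup.centralizer (U₀ : Set G) ⊓ shiftStab W Z
    with hK
  have hKD : K ≤ D := inf_le_left.trans (inf_le_left.trans inf_le_left)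
  have hKn : ∀ {n : G}, n ∈ Subgroup.normalizer (D : Set G) → n ∈ Subgroup.centralizer (B : Set G) →
      n ∈ Subgroup.centralizer (U₀ : Set G) → n ∈ Subgroup.normalizer (W : Set G) →
      n ∈ Subgroup.normalizer (Z : Set G) → n ∈ Subgroup.normalizer (K : Set G) :=
    fun h1 h2 h3 h4 h5 => mem_normalizer_inf (mem_normalizer_inf (mem_normalizer_inf h1
      (Subgroup.le_normalizer h2)) (Subgroup.le_normalizer h3)) (mem_normalizer_shiftStab h4 h5)
  have hyK := hKn hyD hyB hyU₀ hyW hyZ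
  have htK := hKn htD htB htU₀ htW htZ
  -- the commutators with `y` lie in the kernel
  have hδ : ∀ d ∈ D, d⁻¹ * (y * d * y⁻¹) ∈ K := fun d hd => by
    have hd' : y * d * y⁻¹ ∈ D := conj_mem_of_mem_normalizer hyD hd
    have hkey : ∀ u ∈ W₀, d * u * d⁻¹ * u⁻¹ ∈ B →
        d⁻¹ * (y * d * y⁻¹) * u * (d⁻¹ * (y * d * y⁻¹))⁻¹ = u := fun u hu hdu => by
      have h1 : y⁻¹ * u * y⁻¹⁻¹ = u := hy0 u hu _ (inv_mem (Subgroup.mem_zpowers y))
      have h2 : y * (d * u * d⁻¹) * y⁻¹ = d * u * d⁻¹ := by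
        rw [show d * u * d⁻¹ = (d * u * d⁻¹ * u⁻¹) * u by group]
        exact hy0 _ (mul_mem (hBW₀ hdu) hu) y (Subgroup.mem_zpowers y)
      calc d⁻¹ * (y * d * y⁻¹) * u * (d⁻¹ * (y * d * y⁻¹))⁻¹
          = d⁻¹ * (y * (d * (y⁻¹ * u * y⁻¹⁻¹) * d⁻¹) * y⁻¹) * d := by group
        _ = u := by rw [h1, h2]; group
    refine ⟨⟨⟨(show d⁻¹ * (y * d * y⁻¹) ∈ D from mul_mem (inv_mem hd) hd'),
      mem_centralizer_iff_conj.mpr fun b hb => ?_⟩,
      mem_centralizer_iff_conj.mpr fun u hu => ?_⟩,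
      ⟨hDZ (mul_mem (inv_mem hd) hd'), fun w hw => ?_⟩⟩
    · exact hkey b (hBW₀ hb) (mul_mem (conj_mem_of_mem_normalizer (hDB hd) hb) (inv_mem hb))
    · exact hkey u hu.1 ((hDU₀ hd).2 u hu)
    · have hy' : ∀ v ∈ W, y * v * y⁻¹ * v⁻¹ ∈ Z := fun v hv => by
        have h1 := inv_mem (Subgroup.commutator_mem_commutator hv (Subgroup.mem_zpowers y))
        rw [commutatorElement_def, show (v * y * v⁻¹ * y⁻¹)⁻¹ = y * v * y⁻¹ * v⁻¹ by group] at h1
        exact Subgroup.mem_sup_left h1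
      set v := y⁻¹ * w * y with hv
      have hvW : v ∈ W := (Subgroup.mem_normalizer_iff''.mp hyW w).mp hw
      have hdv : d * v * d⁻¹ ∈ W := conj_mem_of_mem_normalizer (hDW hd) hvW
      have h3 : d⁻¹ * (y * v * y⁻¹ * v⁻¹)⁻¹ * d * (d⁻¹ * (y * (d * v * d⁻¹) * y⁻¹ *
          (d * v * d⁻¹)⁻¹) * d) ∈ Z := by
        refine mul_mem ?_ ?_
        · have := conj_mem_of_mem_normalizer (hDZ (inv_mem hd)) (inv_mem (hy' v hvW))
          rwa [inv_inv] at this
        · have := conj_mem_of_mem_normalizer (hDZ (inv_mem hd)) (hy' _ hdv)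
          rwa [inv_inv] at this
      have hdd : d⁻¹ * (y * v * y⁻¹ * v⁻¹)⁻¹ * d ∈ W := by
        have := conj_mem_of_mem_normalizer (hDW (inv_mem hd)) (hZW (inv_mem (hy' v hvW)))
        rwa [inv_inv] at this
      have hy'' : y * v * y⁻¹ * v⁻¹ ∈ W := hZW (hy' v hvW)
      -- `δ w w⁻¹` is a product of two shifts
      have e : d⁻¹ * (y * d * y⁻¹) * w * (d⁻¹ * (y * d * y⁻¹))⁻¹ * w⁻¹
          = d⁻¹ * (y * (d * v * d⁻¹) * y⁻¹ * (d * v * d⁻¹)⁻¹) * d * (y * v * y⁻¹ * v⁻¹)⁻¹ := by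
        have hw' : w = y * v * y⁻¹ := by rw [hv]; group
        have hc := hcW (inv_mem hvW) hy''
        calc d⁻¹ * (y * d * y⁻¹) * w * (d⁻¹ * (y * d * y⁻¹))⁻¹ * w⁻¹
            = d⁻¹ * (y * (d * v * d⁻¹) * y⁻¹ * (d * v * d⁻¹)⁻¹) * d * (v * w⁻¹) := by
              rw [hv]; group
          _ = _ := by
              congr 1
              rw [hw', show v * (y * v * y⁻¹)⁻¹ = (y * v * y⁻¹ * v⁻¹)⁻¹ by group]
      rw [e]
      refine mul_mem ?_ (inv_mem (hy' v hvW))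
      have := conj_mem_of_mem_normalizer (hDZ (inv_mem hd)) (hy' _ hdv)
      rwa [inv_inv] at this
  -- the bound for the commutators of the kernel with `t`
  set C := Subgroup.centralizer (W : Set G) with hCdef
  have hKW : K ≤ Subgroup.normalizer (W : Set G) := hKD.trans hDW
  set K₁ := K ⊓ Subgroup.centralizer (Z : Set G) with hK₁
  have hKK₁ : K ≤ Subgroup.normalizer (K₁ : Set G) := fun g hg => mem_normalizer_inf
    (Subgroup.le_normalizer hg) (mem_normalizer_centralizer (hDZ (hKD hg)))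
  have hgW₁ : ∀ g ∈ K, ∀ w ∈ W₁, g * w * g⁻¹ * w⁻¹ ∈ B := fun g hg => hW₁B g (hKD hg)
  have hsqK : ∀ g ∈ K, g * g ∈ K₁ := fun g hg => by
    refine ⟨mul_mem hg hg, ?_⟩
    rw [hZ, CfsgLib.PushUp.centralizer_sup]
    refine ⟨mem_centralizer_iff_conj.mpr fun w hw => ?_, mul_mem hg.1.1.2 hg.1.1.2⟩
    set b := g * w * g⁻¹ * w⁻¹ with hb
    have hbB : b ∈ B := hgW₁ g hg w hw
    calc g * g * w * (g * g)⁻¹ = g * (b * w) * g⁻¹ := by rw [hb]; group
      _ = (g * b * g⁻¹) * (b * w) := by rw [hb]; group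
      _ = (b * b) * w := by
        rw [mem_centralizer_iff_conj.mp hg.1.1.2 b hbB]
        exact (mul_assoc b b w).symm
      _ = w := by rw [he b (hBW hbB), one_mul]
  have hsqK₁ : ∀ g ∈ K₁, g * g ∈ C := fun g hg => mem_centralizer_iff_conj.mpr fun w hw => by
    set z := g * w * g⁻¹ * w⁻¹ with hz
    have hzZ : z ∈ Z := hg.1.2.2 w hw
    calc g * g * w * (g * g)⁻¹ = (g * z * g⁻¹) * (z * w) := by rw [hz]; group
      _ = (z * z) * w := by
        rw [mem_centralizer_iff_conj.mp hg.2 z hzZ]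
        exact (mul_assoc z z w).symm
      _ = w := by rw [he z (hZW hzZ), one_mul]
  set R := Subgroup.closure {x | ∃ g ∈ K, x = g * t * g⁻¹ * t⁻¹} with hR
  have hRK : R ≤ K := (Subgroup.closure_le _).mpr (by
    rintro _ ⟨g, hg, rfl⟩
    rw [show g * t * g⁻¹ * t⁻¹ = g * (t * g⁻¹ * t⁻¹) by group]
    exact mul_mem hg (conj_mem_of_mem_normalizer htK (inv_mem hg)))
  set I := B ⊔ U₀ ⊔ C₁ with hI
  have hIW : I ≤ W := sup_le (sup_le hBW (inf_le_left.trans hW₀W)) (inf_le_left.trans hW₁W)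
  have hRI : R ≤ shiftStab W I ⊓ Subgroup.centralizer (I : Set G) := (Subgroup.closure_le _).mpr (by
    rintro _ ⟨g, hg, rfl⟩
    have hfix : ∀ {u : G}, g⁻¹ * u * g⁻¹⁻¹ = u → t * u * t⁻¹ = u → t⁻¹ * u * t⁻¹⁻¹ = u →
        (g * t * g⁻¹ * t⁻¹) * u * (g * t * g⁻¹ * t⁻¹)⁻¹ = u := fun {u} h1 h2 h3 => by
      have h4 : g * u * g⁻¹ = u := by
        conv_lhs => rw [← h1]
        group
      calc g * t * g⁻¹ * t⁻¹ * u * (g * t * g⁻¹ * t⁻¹)⁻¹
          = g * (t * (g⁻¹ * (t⁻¹ * u * t⁻¹⁻¹) * g⁻¹⁻¹) * t⁻¹) * g⁻¹ := by group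
        _ = u := by rw [h3, h1, h2, h4]
    have hρI : g * t * g⁻¹ * t⁻¹ ∈ Subgroup.centralizer (I : Set G) := by
      rw [hI, CfsgLib.PushUp.centralizer_sup, CfsgLib.PushUp.centralizer_sup]
      refine ⟨⟨mem_centralizer_iff_conj.mpr fun b hb => hfix ?_ ?_ ?_,
        mem_centralizer_iff_conj.mpr fun u hu => hfix ?_ ?_ ?_⟩,
        mem_centralizer_iff_conj.mpr fun i hi => ?_⟩
      · exact mem_centralizer_iff_conj.mp (inv_mem hg.1.1.2) b hb
      · exact mem_centralizer_iff_conj.mp htB b hb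
      · exact mem_centralizer_iff_conj.mp (inv_mem htB) b hb
      · exact mem_centralizer_iff_conj.mp (inv_mem hg.1.2) u hu
      · exact mem_centralizer_iff_conj.mp htU₀ u hu
      · exact mem_centralizer_iff_conj.mp (inv_mem htU₀) u hu
      · have h1 : t * i * t⁻¹ = i := mem_centralizer_singleton_conj.mp hi.2
        have h2 : t⁻¹ * i * t⁻¹⁻¹ = i := by
          conv_lhs => rw [← h1]
          group
        set b := g⁻¹ * i * g⁻¹⁻¹ * i⁻¹ with hb
        have hbB : b ∈ B := hgW₁ _ (inv_mem hg) i hi.1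
        have h3 : g⁻¹ * i * g⁻¹⁻¹ = b * i := by rw [hb]; group
        have h4 : t * (b * i) * t⁻¹ = b * i := by
          rw [show t * (b * i) * t⁻¹ = (t * b * t⁻¹) * (t * i * t⁻¹) by group,
            mem_centralizer_iff_conj.mp htB b hbB, h1]
        calc g * t * g⁻¹ * t⁻¹ * i * (g * t * g⁻¹ * t⁻¹)⁻¹
            = g * (t * (g⁻¹ * (t⁻¹ * i * t⁻¹⁻¹) * g⁻¹⁻¹) * t⁻¹) * g⁻¹ := by group
          _ = g * (b * i) * g⁻¹ := by rw [h2, h3, h4]
          _ = i := by rw [hb]; group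
    refine ⟨⟨Subgroup.centralizer_le_normalizer _ hρI, fun w hw => ?_⟩, hρI⟩
    set v := t⁻¹ * w * t with hv
    have hvW : v ∈ W := (Subgroup.mem_normalizer_iff''.mp htW w).mp hw
    set z := g⁻¹ * v * g⁻¹⁻¹ * v⁻¹ with hzdef
    have hzZ : z ∈ Z := (inv_mem hg.2 : g⁻¹ ∈ shiftStab W Z).2 v hvW
    set e := t * z * t⁻¹ * z⁻¹ with hedef
    have heC : e ∈ C₁ := htI z (hZW hzZ)
    set i₀ := t * w * t⁻¹ * w⁻¹ with hi₀def
    have hi₀ : i₀ ∈ C₁ := htI w hw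
    have hvi : v = i₀ * w := by
      rw [hi₀def, hv, inv_eq_of_mul_eq_one_right ht2]; group
    set b := g⁻¹ * i₀ * g⁻¹⁻¹ * i₀⁻¹ with hbdef
    have hbB : b ∈ B := hgW₁ _ (inv_mem hg) i₀ hi₀.1
    have hgW : g⁻¹ * w * g⁻¹⁻¹ ∈ W := conj_mem_of_mem_normalizer (inv_mem (hKW hg)) hw
    -- `g⁻¹ w g = b z w`
    have h5 : g⁻¹ * w * g⁻¹⁻¹ = b * z * w := by
      have h6 : g⁻¹ * v * g⁻¹⁻¹ = z * v := by rw [hzdef]; group
      have h7 : g⁻¹ * v * g⁻¹⁻¹ = (b * i₀) * (g⁻¹ * w * g⁻¹⁻¹) := by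
        rw [hvi, hbdef]; group
      rw [h6, hvi] at h7
      have hiW := hW₁W hi₀.1
      have e1 : g⁻¹ * w * g⁻¹⁻¹ = (b * i₀)⁻¹ * (z * (i₀ * w)) := by rw [h7, inv_mul_cancel_left]
      rw [e1, inv_eq_of_mul_eq_one_right (he _ (mul_mem (hBW hbB) hiW)), ← mul_assoc z,
        hcW (hZW hzZ) hiW]
      calc b * i₀ * (i₀ * z * w) = b * ((i₀ * i₀) * (z * w)) := by group
        _ = b * z * w := by
          rw [he i₀ hiW, one_mul]
          exact (mul_assoc b z w).symm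
    have h8 : g * t * g⁻¹ * t⁻¹ * w * (g * t * g⁻¹ * t⁻¹)⁻¹ = (g * e * g⁻¹) * (g * b * g⁻¹)⁻¹ * w := by
      calc g * t * g⁻¹ * t⁻¹ * w * (g * t * g⁻¹ * t⁻¹)⁻¹
          = g * (t * (g⁻¹ * v * g⁻¹⁻¹) * t⁻¹) * g⁻¹ := by rw [hv]; group
        _ = g * ((t * z * t⁻¹) * (t * v * t⁻¹)) * g⁻¹ := by rw [hzdef]; group
        _ = g * (e * b⁻¹ * (b * z * w)) * g⁻¹ := by rw [hedef, hv]; group
        _ = _ := by rw [← h5]; group
    rw [h8, mul_inv_cancel_right]
    refine mul_mem ?_ (inv_mem ?_)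
    · rw [show g * e * g⁻¹ = (g * e * g⁻¹ * e⁻¹) * e by group]
      exact mul_mem (Subgroup.mem_sup_left (Subgroup.mem_sup_left (hgW₁ g hg e heC.1)))
        (Subgroup.mem_sup_right heC)
    · rw [mem_centralizer_iff_conj.mp hg.1.1.2 b hbB]
      exact Subgroup.mem_sup_left (Subgroup.mem_sup_left hbB))
  have hsqR : ∀ x ∈ R, x * x ∈ C := fun x hx => mem_centralizer_iff_conj.mpr fun w hw => by
    set z := x * w * x⁻¹ * w⁻¹ with hz
    have hzI : z ∈ I := (hRI hx).1.2 w hw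
    calc x * x * w * (x * x)⁻¹ = (x * z * x⁻¹) * (z * w) := by rw [hz]; group
      _ = (z * z) * w := by
        rw [mem_centralizer_iff_conj.mp (hRI hx).2 z hzI]
        exact (mul_assoc z z w).symm
      _ = w := by rw [he z (hIW hzI), one_mul]
  have hcdR : cd R W < 2 ^ (2 * k) := by
    have h1 : cd W R ≤ L := by
      have hle : Subgroup.centralizer ((A₁ ⊔ Subgroup.zpowers t : Subgroup G) : Set G) ⊓ W
          ≤ Subgroup.centralizer (R : Set G) := by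
        refine le_trans (fun x hx => ?_)
          (Subgroup.le_centralizer_iff.mp (hRI.trans inf_le_right) : I ≤ _)
        obtain ⟨⟨hxA, hxt⟩, hxW⟩ : (x ∈ Subgroup.centralizer (A₁ : Set G) ∧
            x ∈ Subgroup.centralizer (Subgroup.zpowers t : Set G)) ∧ x ∈ W := by
          refine ⟨?_, hx.2⟩
          have := hx.1
          rw [CfsgLib.PushUp.centralizer_sup] at this
          exact this
        obtain ⟨p, hp, q, hq, rfl⟩ := hsplit x hxW
        rw [centralizer_zpowers] at hxt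
        have hqC : q ∈ C₁ := ⟨hq, mem_centralizer_singleton_conj.mpr (by
          have := mem_centralizer_singleton_conj.mp hxt
          rw [show t * (p * q) * t⁻¹ = (t * p * t⁻¹) * (t * q * t⁻¹) by group, ht₀ p hp] at this
          exact mul_left_cancel this)⟩
        refine mul_mem (Subgroup.mem_sup_left (Subgroup.mem_sup_right ⟨hp, hp.1, fun a ha => ?_⟩))
          (Subgroup.mem_sup_right hqC)
        have h2 : a * (p * q) * a⁻¹ = p * q :=
          conj_fix_iff.mpr (Subgroup.mem_centralizer_iff.mp hxA a ha).symm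
        have hap : a * p * a⁻¹ ∈ W := conj_mem_of_mem_normalizer (hDW (hA₁D ha)) hp.1
        rw [show a * p * a⁻¹ * p⁻¹ = (a * q * a⁻¹ * q⁻¹)⁻¹ by
          have e1 : a * p * a⁻¹ = p * q * (a * q * a⁻¹)⁻¹ := by
            rw [show p * q * (a * q * a⁻¹)⁻¹ = a * (p * q) * a⁻¹ * (a * q * a⁻¹)⁻¹ by rw [h2]]
            group
          have hc := hcW (mul_mem (hW₁W hq) (inv_mem (conj_mem_of_mem_normalizer (hDW (hA₁D ha))
            (hW₁W hq)))) (inv_mem hp.1)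
          calc a * p * a⁻¹ * p⁻¹ = p * ((q * (a * q * a⁻¹)⁻¹) * p⁻¹) := by rw [e1]; group
            _ = _ := by rw [hc]; group]
        exact inv_mem (hW₁B a (hA₁D ha) q hq)
      calc cd W R ≤ (Subgroup.centralizer ((A₁ ⊔ Subgroup.zpowers t : Subgroup G) : Set G)
            ⊓ W).relIndex W :=
            Subgroup.relIndex_le_of_le_left hle Subgroup.index_ne_zero_of_finite
        _ = L := Subgroup.inf_relIndex_right _ _
    have h2 : cd R W ^ 3 < 2 ^ (6 * k) := by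
      refine ((hcube (hRK.trans (hKD.trans hDT)) hsqR).le.trans
        (Nat.pow_le_pow_left h1 2)).trans_lt ?_
      rw [show 6 * k = 3 * k * 2 by ring, pow_mul _ (3 * k)]
      exact Nat.pow_lt_pow_left hL3 two_ne_zero
    by_contra hge'
    have h3 := Nat.pow_le_pow_left (not_lt.mp hge') 3
    rw [← pow_mul, show 2 * k * 3 = 6 * k by ring] at h3
    exact absurd h2 (not_lt.mpr h3)
  have hyC : y ∈ Subgroup.normalizer (C : Set G) := mem_normalizer_centralizer hyW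
  have htC : t ∈ Subgroup.normalizer (C : Set G) := mem_normalizer_centralizer htW
  have hKC : K ≤ Subgroup.normalizer (C : Set G) := fun g hg =>
    mem_normalizer_centralizer (hKW hg)
  have hyK₁ := mem_normalizer_inf hyK (mem_normalizer_centralizer hyZ)
  have htK₁ := mem_normalizer_inf htK (mem_normalizer_centralizer htZ)
  have hK₁0 : ∀ g ∈ K₁, y * g * y⁻¹ * g⁻¹ ∈ C := by
    by_contra! hcon
    have h1 := comm_rank (K := K₁) (N := C) (inf_le_left.trans hKC) hyC htC hyK₁ htK₁ hr hr2 hbig hy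
      hinv ht2 hsqK₁ hcon
    refine absurd (h1.trans (cd_mono_right ?_)) (not_le.mpr hcdR)
    exact Subgroup.closure_mono fun x ⟨g, hg, hx⟩ => ⟨g, hg.1, hx⟩
  have hK0 : ∀ g ∈ K, y * g * y⁻¹ * g⁻¹ ∈ K₁ := by
    by_contra! hcon
    have h1 := comm_rank (K := K) (N := K₁) hKK₁ hyK₁ htK₁ hyK htK hr hr2 hbig hy hinv ht2 hsqK hcon
    refine absurd (h1.trans ?_) (not_le.mpr hcdR)
    rw [← hR]
    show K₁.relIndex R ≤ C.relIndex R
    rw [← Subgroup.inf_relIndex_right C R]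
    refine Subgroup.relIndex_le_of_le_left (fun x hx => ⟨hRK hx.2, ?_⟩)
      Subgroup.index_ne_zero_of_finite
    exact CfsgLib.PushUp.centralizer_mono hZW hx.1
  have hswap : ∀ {H : Subgroup G} {g : G}, g ∈ Subgroup.normalizer (H : Set G) →
      (g⁻¹ * (y * g * y⁻¹) ∈ H ↔ y * g * y⁻¹ * g⁻¹ ∈ H) := fun {H g} hg => by
    rw [Subgroup.mem_normalizer_iff.mp hg (g⁻¹ * (y * g * y⁻¹))]
    rw [show g * (g⁻¹ * (y * g * y⁻¹)) * g⁻¹ = y * g * y⁻¹ * g⁻¹ by group]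
  have hKC0 : ∀ g ∈ K, y * g * y⁻¹ * g⁻¹ ∈ C := fun g hg => (hswap (hKC hg)).mp
    (fix_mod hyC (hKC hg) (inf_le_left.trans hKC) (hD2.to_le (inf_le_left.trans hKD)) hyodd
      ((hswap (hKK₁ hg)).mpr (hK0 g hg)) hK₁0)
  have hD0 : ∀ d ∈ D, d⁻¹ * (y * d * y⁻¹) ∈ C := fun d hd => fix_mod hyC
    (mem_normalizer_centralizer (hDW hd)) hKC (hD2.to_le hKD) hyodd (hδ d hd) hKC0
  -- so `A₁` centralizes `W`
  have hA₁C : A₁ ≤ C := by
    rw [hCdef, Subgroup.le_centralizer_iff]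
    refine sSup_le ?_
    rintro _ ⟨g, hg, rfl⟩ _ ⟨v, hv, rfl⟩
    obtain ⟨n, rfl⟩ := mem_powers_iff_mem_zpowers.mpr hg
    refine Subgroup.mem_centralizer_iff.mpr fun a ha => (conj_fix_iff.mp ?_).symm
    revert a
    show ∀ a ∈ (A₁ : Set G), a * (y ^ n * v * (y ^ n)⁻¹) * a⁻¹ = y ^ n * v * (y ^ n)⁻¹
    induction n with
    | zero => intro a ha; simpa using mem_centralizer_iff_conj.mp (hA₁V ha) v hv
    | succ n ih =>
      intro a ha
      set x := y ^ n * v * (y ^ n)⁻¹ with hx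
      have hxW : x ∈ W := hcjW (Subgroup.npow_mem_zpowers y n) ⟨v, hv, rfl⟩
      have hyx : y * x * y⁻¹ ∈ W := conj_mem_of_mem_normalizer hyW hxW
      have hc := hD0 a (hA₁D ha)
      have h2 : a⁻¹ * (y * x * y⁻¹) * a = y * x * y⁻¹ := by
        calc a⁻¹ * (y * x * y⁻¹) * a
            = a⁻¹ * (y * (a * x * a⁻¹) * y⁻¹) * a := by rw [ih (Subgroup.npow_mem_zpowers y n) a ha]
          _ = (a⁻¹ * (y * a * y⁻¹)) * (y * x * y⁻¹) * (a⁻¹ * (y * a * y⁻¹))⁻¹ := by group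
          _ = _ := mem_centralizer_iff_conj.mp hc _ hyx
      rw [show y ^ (n + 1) * v * (y ^ (n + 1))⁻¹ = y * x * y⁻¹ by rw [hx, pow_succ']; group]
      conv_lhs => rw [← h2]
      group
  have he1 : e = 1 := CfsgLib.PushUp.cd_eq_one_iff.mpr hA₁C
  rw [he1, mul_one] at hLe
  have h9 : 2 ^ (2 * k) ≤ 2 ^ k := (hge hW₁ne).trans (hC₁L.trans hLe)
  have h10 := Nat.pow_le_pow_iff_right (le_refl 2) |>.mp h9
  exact absurd h10 (by omega)

/-- A step of `A` modulo a normal subgroup fixing all conjugates of `V` fixes `V`. -/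
theorem core_fix {S : Sylow 2 G} {V : Subgroup G} (h : Setting S V)
    (hcomm : ∀ g : G, cj g V ≤ Subgroup.centralizer (V : Set G))
    (hVS : ∀ g : G, cj g V ≤ (S : Subgroup G)) {F : Subgroup G} [F.Normal]
    (hFV : F ≤ Subgroup.normalizer (V : Set G)) {A A₁ : Subgroup G}
    (hA : MaxEl (S : Subgroup G) A) (hA₁ : A₁ ≤ A) {t y : G} (ht : t ∈ A) {k r : ℕ} (hr : r.Prime)
    (hr2 : r ≠ 2) (hk : 1 ≤ k) (hbig : Big k r) (hinv : t * y * t⁻¹ * y ∈ F)
    (hord : ∃ j, y ^ r ^ j ∈ F) (hA₁y : ∀ a ∈ A₁, a * y * a⁻¹ * y⁻¹ ∈ F)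
    (hcard : Nat.card A ≤ 2 ^ k * Nat.card A₁) : y ∈ Subgroup.normalizer (V : Set G) := by
  haveI : Fact (Nat.Prime 2) := ⟨Nat.prime_two⟩
  have hA₁S : A₁ ≤ (S : Subgroup G) := hA₁.trans hA.le
  set H := F ⊔ A₁ with hH
  set T₀ := (S : Subgroup G) ⊓ H with hT₀
  have hA₁T : A₁ ≤ T₀ := le_inf hA₁S le_sup_right
  have hyH : cj y H = H := by
    refine Subgroup.eq_of_le_of_card_ge ?_ (card_cj _ _).ge
    rw [hH, Cfsg.Agent.S4022.cj_sup, Cfsg.Agent.S4022.cj_normal]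
    refine sup_le le_sup_left ?_
    rintro _ ⟨a, ha, rfl⟩
    show y * a * y⁻¹ ∈ F ⊔ A₁
    rw [show y * a * y⁻¹ = (a * y * a⁻¹ * y⁻¹)⁻¹ * a by group]
    exact mul_mem (Subgroup.mem_sup_left (inv_mem (hA₁y a ha))) (Subgroup.mem_sup_right ha)
  have hidx : ¬ 2 ∣ T₀.relIndex H := by
    intro hd
    set P := ((S : Subgroup G) ⊓ F) ⊔ A₁ with hP
    have hPT : P ≤ T₀ := sup_le (le_inf inf_le_left (inf_le_right.trans le_sup_left)) hA₁T
    have h1 := CfsgLib.Coprime.card_sup_mul_card_inf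
      (K := F) (S := A₁) Subgroup.le_normalizer_of_normal
    have h2 := CfsgLib.Coprime.card_sup_mul_card_inf (K := (S : Subgroup G) ⊓ F) (S := A₁)
      (CfsgLib.Coprime.le_normalizer_inf_of_le (hA₁S.trans Subgroup.le_normalizer)
        Subgroup.le_normalizer_of_normal)
    rw [show (S : Subgroup G) ⊓ F ⊓ A₁ = F ⊓ A₁ by
      rw [inf_assoc, inf_eq_right.mpr (inf_le_right.trans hA₁S)], ← hP] at h2
    rw [← hH] at h1
    have h3 : (S : Subgroup G).relIndex F * Nat.card ↥((S : Subgroup G) ⊓ F) = Nat.card F :=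
      CfsgLib.Coprime.relIndex_mul_card_inf _ _
    have h4 : P.relIndex H = (S : Subgroup G).relIndex F := by
      have h5 : P.relIndex H * Nat.card ↥(P ⊓ H) = Nat.card H :=
        CfsgLib.Coprime.relIndex_mul_card_inf _ _
      rw [inf_eq_left.mpr (hPT.trans inf_le_right)] at h5
      refine Nat.eq_of_mul_eq_mul_right (Nat.mul_pos (Nat.card_pos (α := P))
        (Nat.card_pos (α := ↥(F ⊓ A₁)))) ?_
      rw [← mul_assoc, h5, h1, h2, ← mul_assoc, h3]
    exact CfsgLib.PushUp.not_two_dvd_relIndex S F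
      (h4 ▸ hd.trans (Subgroup.relIndex_dvd_of_le_left H hPT))
  obtain ⟨g, hg, hge⟩ := CfsgLib.PushUp.exists_conj_eq (S.2.to_le inf_le_left) inf_le_right
    ((cj_mono y inf_le_right).trans hyH.le) hidx (card_cj y T₀)
  rw [← cj_mul] at hge
  rw [hH, ← SetLike.mem_coe, sup_comm, Subgroup.mul_normal, Set.mem_mul] at hg
  obtain ⟨a, ha, f, hf, rfl⟩ := hg
  have haT : a ∈ Subgroup.normalizer (T₀ : Set G) := Subgroup.le_normalizer (hA₁T ha)
  set y' := f * y with hy'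
  have hy'T : y' ∈ Subgroup.normalizer (T₀ : Set G) := by
    have h1 := mul_mem (inv_mem haT) (mem_normalizer_iff_cj.mpr hge)
    rwa [show a⁻¹ * (a * f * y) = y' by rw [hy']; group] at h1
  have htT : t ∈ Subgroup.normalizer (T₀ : Set G) := by
    refine mem_normalizer_inf (Subgroup.le_normalizer (hA.le ht)) ?_
    have h1 : t ∈ Subgroup.normalizer (A₁ : Set G) := Subgroup.centralizer_le_normalizer _
      (Subgroup.mem_centralizer_iff.mpr fun a ha =>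
        Subgroup.mem_centralizer_iff.mp (CfsgLib.PushUp.comm_of_sq hA.sq ht) a (hA₁ ha))
    refine mem_normalizer_iff_cj.mpr ?_
    rw [hH, Cfsg.Agent.S4022.cj_sup, Cfsg.Agent.S4022.cj_normal, mem_normalizer_iff_cj.mp h1]
  let π : Subgroup.normalizer (T₀ : Set G) →* G ⧸ F :=
    (QuotientGroup.mk' F).comp (Subgroup.subtype _)
  have hπy : π ⟨y', hy'T⟩ = QuotientGroup.mk' F y := by
    show QuotientGroup.mk' F (f * y) = _
    rw [map_mul, show QuotientGroup.mk' F f = 1 from (QuotientGroup.eq_one_iff f).mpr hf, one_mul]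
  obtain ⟨z, hz1, hz2, hz3, -⟩ := exists_inverted_lift π (t := ⟨t, htT⟩) (y := ⟨y', hy'T⟩) hr hr2
    (Subtype.ext (hA.sq t ht))
    (by
      rw [map_mul, map_mul, map_inv, hπy]
      refine eq_inv_of_mul_eq_one_left ?_
      show QuotientGroup.mk' F t * QuotientGroup.mk' F y * (QuotientGroup.mk' F t)⁻¹ *
        QuotientGroup.mk' F y = 1
      rw [← map_inv, ← map_mul, ← map_mul, ← map_mul]
      exact (QuotientGroup.eq_one_iff _).mpr hinv)
    (by
      obtain ⟨j, hj⟩ := hord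
      rw [hπy]
      have h1 : orderOf (QuotientGroup.mk' F y) ∣ r ^ j := orderOf_dvd_of_pow_eq_one (by
        rw [← map_pow]; exact (QuotientGroup.eq_one_iff _).mpr hj)
      obtain ⟨i, -, hi⟩ := (Nat.dvd_prime_pow hr).mp h1
      exact ⟨i, hi⟩)
  have hzV := core_exact h hcomm hVS hA hA₁ inf_le_left hA₁T ht z.2 hr hr2 hk hbig
    (congrArg Subtype.val hz1) (by rw [Subgroup.orderOf_coe]; exact hz2) hcard
  rw [hπy] at hz3
  have h1 : (z : G)⁻¹ * y ∈ F := QuotientGroup.eq.mp hz3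
  have := mul_mem hzV (hFV h1)
  rwa [mul_inv_cancel_left] at this

end CfsgLib.LocalK
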