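import Cfsg.Agent.Lib.LocalK.Cube
import Cfsg.Agent.Lib.LocalK.Tools
import Cfsg.Agent.Lib.LocalK.Sections

/-!
A normal subgroup of `S` with the E-property lies in the `2`-core and commutes with its conjugates.
-/

set_option autoImplicit false
set_option linter.style.haveILetI false

namespace CfsgLib.LocalK

open scoped Pointwise commutatorElement
open CfsgLib.PushUp (cd cd_pos cd_mono_left cd_mono_right cd_cj mem_centralizer_iff_conj conj_fix_iff)
open Cfsg.Agent.S4022 (cj cj_mul cj_mono card_cj)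

universe u

variable {G : Type u} [Group G]

/-- The elements fixing `B` and moving every element of `U` by an element of `B`. -/
def shiftOf (U B : Subgroup G) : Subgroup G where
  carrier := {g | g ∈ Subgroup.centralizer (B : Set G) ∧ ∀ u ∈ U, g * u * g⁻¹ * u⁻¹ ∈ B}
  one_mem' := ⟨one_mem _, fun u _ => by simp⟩
  mul_mem' {a b} ha hb := ⟨mul_mem ha.1 hb.1, fun u hu => by
    rw [show a * b * u * (a * b)⁻¹ * u⁻¹
      = (a * (b * u * b⁻¹ * u⁻¹) * a⁻¹) * (a * u * a⁻¹ * u⁻¹) by group,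
      mem_centralizer_iff_conj.mp ha.1 _ (hb.2 u hu)]
    exact mul_mem (hb.2 u hu) (ha.2 u hu)⟩
  inv_mem' {a} ha := ⟨inv_mem ha.1, fun u hu => by
    rw [show a⁻¹ * u * a⁻¹⁻¹ * u⁻¹ = a⁻¹ * (a * u * a⁻¹ * u⁻¹)⁻¹ * a⁻¹⁻¹ by group,
      mem_centralizer_iff_conj.mp (inv_mem ha.1) _ (inv_mem (ha.2 u hu))]
    exact inv_mem (ha.2 u hu)⟩

variable [Finite G]

theorem pCore_quotient_self [(Cfsg.pCore 2 G).Normal] :
    Cfsg.pCore 2 (G ⧸ Cfsg.pCore 2 G) = ⊥ := by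
  haveI : Fact (Nat.Prime 2) := ⟨Nat.prime_two⟩
  refine CfsgLib.PushUp.pCore_quotient_eq_bot fun T hT hQT hTp => ?_
  refine CfsgLib.Fitting.le_pCore hT fun x => ?_
  obtain ⟨a, ha⟩ := hTp ⟨_, Subgroup.mem_map_of_mem _ x.2⟩
  have h1 : (x : G) ^ 2 ^ a ∈ Cfsg.pCore 2 G :=
    (QuotientGroup.eq_one_iff _).mp (congrArg Subtype.val ha)
  obtain ⟨b, hb⟩ := CfsgLib.Fitting.pCore_isPGroup (G := G) 2 ⟨_, h1⟩
  refine ⟨a + b, Subtype.ext ?_⟩
  have := congrArg Subtype.val hb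
  rw [SubmonoidClass.coe_pow, pow_add, pow_mul]
  exact this

/-- `V` lies in the `2`-core. -/
theorem vee_le_pCore {S : Sylow 2 G} {V : Subgroup G} (h : Setting S V)
    (hchar : Subgroup.centralizer (Cfsg.pCore 2 G : Set G) ≤ Cfsg.pCore 2 G)
    [(Cfsg.pCore 2 G).Normal] (hX : SK (G ⧸ Cfsg.pCore 2 G)) : V ≤ Cfsg.pCore 2 G := by
  haveI : Fact (Nat.Prime 2) := ⟨Nat.prime_two⟩
  by_contra hVQ
  set Q := Cfsg.pCore 2 G with hQdef
  have hQp : IsPGroup 2 Q := CfsgLib.Fitting.pCore_isPGroup 2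
  have hQS : Q ≤ (S : Subgroup G) := CfsgLib.PushUp.le_sylow_of_normal hQp S
  set π := QuotientGroup.mk' Q with hπ
  have hπ1 : ∀ {g : G}, π g = 1 ↔ g ∈ Q := fun {g} => QuotientGroup.eq_one_iff g
  have hA2 : ∀ a ∈ V.map π, a * a = 1 := by
    rintro _ ⟨v, hv, rfl⟩; rw [← map_mul, h.sq v hv, map_one]
  obtain ⟨A₁, tb, yb, k, r, hs⟩ := exists_step hX pCore_quotient_self hA2
    (fun e => hVQ fun v hv => hπ1.mp (Subgroup.mem_bot.mp (e.le (Subgroup.mem_map_of_mem π hv))))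
  obtain ⟨t, htV, rfl⟩ := hs.mem
  obtain ⟨y₀, rfl⟩ := QuotientGroup.mk'_surjective Q yb
  have hr2 : r ≠ 2 := fun e => by have := hs.five_le; omega
  obtain ⟨⟨y, hyT⟩, hinv', hord', hπy, -⟩ := exists_inverted_lift (π.comp (⊤ : Subgroup G).subtype)
    (t := ⟨t, trivial⟩) (y := ⟨y₀, trivial⟩) hs.prime hr2 (Subtype.ext (h.sq t htV))
    (by
      show π (t * y₀ * t⁻¹) = (π y₀)⁻¹
      rw [map_mul, map_mul, map_inv]; exact hs.inv)
    ⟨1, by rw [pow_one]; exact hs.ord⟩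
  have hinv : t * y * t⁻¹ = y⁻¹ := congrArg Subtype.val hinv'
  have hord : ∃ j, orderOf y = r ^ j := by rwa [Subgroup.orderOf_mk] at hord'
  change π y = π y₀ at hπy
  have hyodd : Odd (orderOf y) := by
    obtain ⟨j, hj⟩ := hord
    rw [hj]; exact (hs.prime.eq_two_or_odd'.resolve_left hr2).pow
  have ht2 : t * t = 1 := h.sq t htV
  set V₁ := V ⊓ A₁.comap π with hV₁
  have hV₁V : V₁ ≤ V := inf_le_left
  have hcV : ∀ {a b : G}, a ∈ V → b ∈ V → a * b = b * a := fun ha hb =>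
    (Subgroup.mem_centralizer_iff.mp (CfsgLib.PushUp.comm_of_sq h.sq hb) _ ha)
  have hπA : ∀ v ∈ V₁, π (y * v * y⁻¹) = π v := fun v hv => by
    rw [map_mul, map_mul, map_inv, hπy, ← hs.comm _ hv.2, mul_inv_cancel_right]
  set U := cj y V with hU
  set R := cj y V₁ with hR
  have hRU : R ≤ U := cj_mono y hV₁V
  have hU2 : ∀ u ∈ U, u * u = 1 := by
    rintro _ ⟨v, hv, rfl⟩; rw [← map_mul, h.sq v hv, map_one]
  have hcU : ∀ {a b : G}, a ∈ U → b ∈ U → a * b = b * a := fun ha hb =>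
    (Subgroup.mem_centralizer_iff.mp (CfsgLib.PushUp.comm_of_sq hU2 hb) _ ha)
  have hmodQ : ∀ v ∈ V₁, v⁻¹ * (y * v * y⁻¹) ∈ Q := fun v hv => by
    rw [← hπ1, map_mul, map_inv, hπA v hv, inv_mul_cancel]
  have hRS : R ≤ (S : Subgroup G) := by
    rintro _ ⟨v, hv, rfl⟩
    show y * v * y⁻¹ ∈ (S : Subgroup G)
    rw [show y * v * y⁻¹ = v * (v⁻¹ * (y * v * y⁻¹)) by group]
    exact mul_mem (h.le hv.1) (hQS (hmodQ v hv))
  have hV₁S' : V₁ ≤ cj y (S : Subgroup G) := fun v hv => by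
    refine ⟨y⁻¹ * v * y, ?_, by simp [mul_assoc]⟩
    rw [show y⁻¹ * v * y = v * (v⁻¹ * (y⁻¹ * v * y)) by group]
    refine mul_mem (h.le hv.1) (hQS (hπ1.mp ?_))
    rw [map_mul, map_mul, map_mul, map_inv, map_inv, hπy, mul_assoc (π y₀)⁻¹, hs.comm _ hv.2,
      inv_mul_cancel_left, inv_mul_cancel]
  have hRV : R ≤ Subgroup.normalizer (V : Set G) := hRS.trans h.norm
  have hV₁U : V₁ ≤ Subgroup.normalizer (U : Set G) := hV₁S'.trans (le_normalizer_cj h.norm)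
  set V' := V₁ ⊔ Subgroup.zpowers t with hV'
  set V'' := cj y V' with hV''
  have hV'V : V' ≤ V := sup_le hV₁V (Subgroup.zpowers_le.mpr htV)
  have hV''U : V'' ≤ U := cj_mono y hV'V
  have htV' : t ∈ V' := Subgroup.mem_sup_right (Subgroup.mem_zpowers t)
  set s' := cd V₁ V'' with hs'
  set r' := cd R V' with hr'
  have hidx : V₁.relIndex V ≤ 2 ^ k := by
    rw [hV₁, Subgroup.inf_relIndex_left, Subgroup.relIndex_comap]
    have h2 := Subgroup.relIndex_mul_relIndex ⊥ A₁ (V.map π) bot_le hs.le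
    rw [Subgroup.relIndex_bot_left, Subgroup.relIndex_bot_left] at h2
    have h3 := hs.card_le
    rw [← h2, mul_comm (2 ^ k)] at h3
    exact Nat.le_of_mul_le_mul_left h3 Nat.card_pos
  have hsplit : ∀ P : Subgroup G, cd V P ≤ 2 ^ k * cd V₁ P := fun P => by
    have h1 : cd V P ≤ (Subgroup.centralizer (P : Set G) ⊓ V₁).relIndex V :=
      Subgroup.relIndex_le_of_le_left inf_le_left Subgroup.index_ne_zero_of_finite
    rw [← Subgroup.relIndex_mul_relIndex _ V₁ V inf_le_right hV₁V, Subgroup.inf_relIndex_right,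
      mul_comm] at h1
    exact h1.trans (Nat.mul_le_mul_right _ hidx)
  have ha : cd V R ≤ 2 ^ k * s' :=
    (hsplit R).trans (Nat.mul_le_mul_left _ (cd_mono_left (cj_mono y le_sup_left)))
  have ha' : cd U V₁ ≤ 2 ^ k * r' := by
    have h1 : cd U V₁ = cd V (cj y⁻¹ V₁) := by
      rw [← cd_cj y⁻¹, hU, Cfsg.Agent.S4270.cj_cancel]
    have h2 : cd V₁ (cj y⁻¹ V₁) = cd R V₁ := by
      rw [← cd_cj y, hR, ← cj_mul y y⁻¹, mul_inv_cancel, Cfsg.Agent.S4270.cj_one]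
    rw [h1]
    exact (hsplit _).trans (Nat.mul_le_mul_left _ (h2.le.trans (cd_mono_left le_sup_left)))
  have hcR : Cube R V := h.cube (S.2.to_le hRS) hRV fun x hx => by
    rw [hU2 x (hRU hx)]; exact one_mem _
  have hcV₁ : Cube V₁ U := (h.cj y).cube (S.2.to_le (hV₁V.trans h.le)) hV₁U fun x hx => by
    rw [h.sq x (hV₁V hx)]; exact one_mem _
  have hb : r' ≤ cd R V := cd_mono_left hV'V
  have hb' : s' ≤ cd V₁ U := cd_mono_left hV''U
  -- the upper bound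
  have hupper : s' * r' = 1 ∨ s' * r' < 2 ^ (4 * k) := by
    by_cases h1 : r' = 1 ∧ s' = 1
    · left; rw [h1.1, h1.2]
    right
    have e1 : r' ^ 3 ≤ (2 ^ k * s') ^ 2 :=
      ((Nat.pow_le_pow_left hb 3).trans hcR.le).trans (Nat.pow_le_pow_left ha 2)
    have e2 : s' ^ 3 ≤ (2 ^ k * r') ^ 2 :=
      ((Nat.pow_le_pow_left hb' 3).trans hcV₁.le).trans (Nat.pow_le_pow_left ha' 2)
    have hrp : 0 < r' := cd_pos _ _
    have hsp : 0 < s' := cd_pos _ _
    have hlt : r' ^ 3 * s' ^ 3 < (2 ^ k * s') ^ 2 * (2 ^ k * r') ^ 2 := by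
      by_cases hr1 : r' = 1
      · have hs1 : cd V₁ U ≠ 1 := fun e => h1 ⟨hr1, by
          have := hb'.trans e.le
          omega⟩
        exact Nat.mul_lt_mul_of_le_of_lt e1 (((Nat.pow_le_pow_left hb' 3).trans_lt
          (hcV₁ hs1)).trans_le (Nat.pow_le_pow_left ha' 2)) (by positivity)
      · have hr1' : cd R V ≠ 1 := fun e => hr1 (by
          have := hb.trans e.le
          omega)
        exact Nat.mul_lt_mul_of_lt_of_le (((Nat.pow_le_pow_left hb 3).trans_lt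
          (hcR hr1')).trans_le (Nat.pow_le_pow_left ha 2)) e2 (by positivity)
    rw [show r' ^ 3 * s' ^ 3 = (s' * r') ^ 2 * (s' * r') by ring,
      show (2 ^ k * s') ^ 2 * (2 ^ k * r') ^ 2 = (s' * r') ^ 2 * 2 ^ (4 * k) by
        rw [show 4 * k = k * 4 by ring, pow_mul]; ring] at hlt
    exact Nat.lt_of_mul_lt_mul_left hlt
  -- the module spanned by `V₁` and its conjugate
  set t' := y * t * y⁻¹ with ht'
  have ht'U : t' ∈ U := ⟨t, htV, rfl⟩
  have ht'V'' : t' ∈ V'' := ⟨t, htV', rfl⟩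
  have hy2 : y ^ 2 = t' * t := by
    have h1 : t * y⁻¹ * t⁻¹ = y := by
      calc t * y⁻¹ * t⁻¹ = (t * y * t⁻¹)⁻¹ := by group
        _ = y := by rw [hinv, inv_inv]
    calc y ^ 2 = y * (t * y⁻¹ * t⁻¹) := by rw [h1, pow_two]
      _ = y * t * y⁻¹ * t⁻¹ := by group
      _ = _ := by rw [ht', inv_eq_of_mul_eq_one_right ht2]
  have hyz : y ∈ Subgroup.zpowers (t' * t) := by
    rw [← hy2]
    obtain ⟨m, hm⟩ := exists_pow_eq_self_of_coprime (x := y) (n := 2)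
      (Nat.coprime_two_left.mpr hyodd)
    have := pow_mem (Subgroup.mem_zpowers (y ^ 2)) m
    rwa [hm] at this
  have hyN : ∀ {H : Subgroup G}, t ∈ H → t' ∈ H → y ∈ H := fun ht ht' =>
    Subgroup.zpowers_le.mpr (mul_mem ht' ht) hyz
  have hA₁cR : ∀ x ∈ R, π x ∈ A₁ := by
    rintro _ ⟨v, hv, rfl⟩
    show π (y * v * y⁻¹) ∈ A₁
    rw [hπA v hv]; exact hv.2
  have hcomA : ∀ {a b : G}, π a ∈ V.map π → π b ∈ V.map π → a * b * a⁻¹ * b⁻¹ ∈ Q := fun {a b} ha hb => by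
    rw [← hπ1, map_mul, map_mul, map_mul, map_inv, map_inv, comm_of_sq hA2 ha hb,
      mul_inv_cancel_right, mul_inv_cancel]
  have hQV₁ : ∀ {v : G}, v ∈ V → v ∈ Q → v ∈ V₁ := fun hv hq => ⟨hv, by
    show π _ ∈ A₁
    rw [hπ1.mpr hq]; exact one_mem _⟩
  have hshift : ∀ x : G, x ∈ Subgroup.normalizer (V : Set G) → π x ∈ V.map π → ∀ v ∈ V,
      x * v * x⁻¹ * v⁻¹ ∈ V ∧ x * v * x⁻¹ * v⁻¹ ∈ Q ∧ x * v * x⁻¹ * v⁻¹ ∈ V₁ := fun x hx hπx v hv => by
    have h1 : x * v * x⁻¹ * v⁻¹ ∈ V := mul_mem (conj_mem_of_mem_normalizer hx hv) (inv_mem hv)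
    have h2 := hcomA hπx (Subgroup.mem_map_of_mem π hv)
    exact ⟨h1, h2, hQV₁ h1 h2⟩
  have hRV₁ : ∀ x ∈ R, x * t * x⁻¹ * t⁻¹ ∈ V₁ := fun x hx =>
    (hshift x (hRV hx) (hs.le (hA₁cR x hx)) t htV).2.2
  have hV₁R : ∀ v ∈ V₁, v * t' * v⁻¹ * t'⁻¹ ∈ R := fun v hv => by
    set x := y⁻¹ * v * y with hx
    have hxS : x ∈ (S : Subgroup G) := by
      obtain ⟨w, hw, hwv⟩ := hV₁S' hv
      change y * w * y⁻¹ = v at hwv
      rw [hx, ← hwv, show y⁻¹ * (y * w * y⁻¹) * y = w by group]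
      exact hw
    have hπx : π x ∈ V.map π := ⟨v, hv.1, by
      rw [hx, map_mul, map_mul, map_inv, hπy, mul_assoc, hs.comm _ hv.2, inv_mul_cancel_left]⟩
    refine ⟨x * t * x⁻¹ * t⁻¹, (hshift x (h.norm hxS) hπx t htV).2.2, ?_⟩
    show y * (x * t * x⁻¹ * t⁻¹) * y⁻¹ = v * t' * v⁻¹ * t'⁻¹
    rw [hx, ht']; group
  set M := V₁ ⊔ R with hM
  set D₀ := (V₁ ⊓ Subgroup.centralizer (V'' : Set G)) ⊔ (R ⊓ Subgroup.centralizer (V' : Set G))
    with hD₀
  have hD₀M : D₀ ≤ M := sup_le (inf_le_left.trans le_sup_left) (inf_le_left.trans le_sup_right)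
  have hD₀c : ∀ g : G, g ∈ V' ∨ g ∈ V'' → g ∈ Subgroup.centralizer (D₀ : Set G) := fun g hg => by
    rw [hD₀, CfsgLib.PushUp.centralizer_sup]
    refine ⟨Subgroup.mem_centralizer_iff.mpr fun x hx => ?_,
      Subgroup.mem_centralizer_iff.mpr fun x hx => ?_⟩
    · rcases hg with hg | hg
      · exact hcV (hV₁V hx.1) (hV'V hg)
      · exact (Subgroup.mem_centralizer_iff.mp hx.2 g hg).symm
    · rcases hg with hg | hg
      · exact (Subgroup.mem_centralizer_iff.mp hx.2 g hg).symm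
      · exact hcU (hRU hx.1) (hV''U hg)
  have hV₁D : V₁ ≤ Subgroup.centralizer (D₀ : Set G) := fun v hv =>
    hD₀c v (Or.inl (Subgroup.mem_sup_left hv))
  have hRD : R ≤ Subgroup.centralizer (D₀ : Set G) := fun x hx =>
    hD₀c x (Or.inr (cj_mono y le_sup_left hx))
  have htD : t ∈ Subgroup.centralizer (D₀ : Set G) := hD₀c t (Or.inl htV')
  have ht'D : t' ∈ Subgroup.centralizer (D₀ : Set G) := hD₀c t' (Or.inr ht'V'')
  have hyD : y ∈ Subgroup.centralizer (D₀ : Set G) := hyN htD ht'D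
  have htM : ∀ g : G, (∀ v ∈ V₁, g * v * g⁻¹ ∈ M) → (∀ x ∈ R, g * x * g⁻¹ ∈ M) →
      g ∈ Subgroup.normalizer (M : Set G) := fun g h1 h2 => by
    have hle : M ≤ M.comap (MulAut.conj g).toMonoidHom := sup_le h1 h2
    exact Subgroup.mem_normalizer_fintype fun x hx => hle hx
  have htM1 : t ∈ Subgroup.normalizer (M : Set G) := htM t
    (fun v hv => by
      rw [hcV htV (hV₁V hv), mul_inv_cancel_right]; exact Subgroup.mem_sup_left hv)
    (fun x hx => by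
      rw [show t * x * t⁻¹ = (x * t * x⁻¹ * t⁻¹)⁻¹ * x by group]
      exact mul_mem (Subgroup.mem_sup_left (inv_mem (hRV₁ x hx))) (Subgroup.mem_sup_right hx))
  have ht'M : t' ∈ Subgroup.normalizer (M : Set G) := htM t'
    (fun v hv => by
      rw [show t' * v * t'⁻¹ = (v * t' * v⁻¹ * t'⁻¹)⁻¹ * v by group]
      exact mul_mem (Subgroup.mem_sup_right (inv_mem (hV₁R v hv))) (Subgroup.mem_sup_left hv))
    (fun x hx => by
      rw [hcU ht'U (hRU hx), mul_inv_cancel_right]; exact Subgroup.mem_sup_right hx)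
  have hyM : y ∈ Subgroup.normalizer (M : Set G) := hyN htM1 ht'M
  -- the two parts commute modulo `D₀`
  have hcross : ∀ v ∈ V₁, ∀ x ∈ R, x * v * x⁻¹ * v⁻¹ ∈ D₀ := fun v hv x hx => by
    have h1 := (hshift x (hRV hx) (hs.le (hA₁cR x hx)) v hv.1).2.2
    have h2 : x * v * x⁻¹ * v⁻¹ ∈ R := by
      refine (show x * v * x⁻¹ * v⁻¹ = x * (v * x⁻¹ * v⁻¹) by group) ▸ mul_mem hx ?_
      obtain ⟨w, hw, hwx⟩ := (inv_mem hx : x⁻¹ ∈ R)
      refine ⟨(y⁻¹ * v * y) * w * (y⁻¹ * v * y)⁻¹, ?_, ?_⟩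
      · have hv' : y⁻¹ * v * y ∈ (S : Subgroup G) := by
          obtain ⟨s, hs', hsv⟩ := hV₁S' hv
          change y * s * y⁻¹ = v at hsv
          rw [← hsv, show y⁻¹ * (y * s * y⁻¹) * y = s by group]; exact hs'
        refine ⟨conj_mem_of_mem_normalizer (h.norm hv') hw.1, ?_⟩
        show π _ ∈ A₁
        have hc : π (y⁻¹ * v * y) = π v := by
          rw [map_mul, map_mul, map_inv, hπy, mul_assoc, hs.comm _ hv.2, inv_mul_cancel_left]
        rw [map_mul, map_mul, map_inv, hc, comm_of_sq hA2 (Subgroup.mem_map_of_mem π hv.1)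
          (Subgroup.mem_map_of_mem π hw.1), mul_inv_cancel_right]
        exact hw.2
      · show y * ((y⁻¹ * v * y) * w * (y⁻¹ * v * y)⁻¹) * y⁻¹ = v * x⁻¹ * v⁻¹
        rw [← hwx]
        show y * ((y⁻¹ * v * y) * w * (y⁻¹ * v * y)⁻¹) * y⁻¹ = v * (y * w * y⁻¹) * v⁻¹
        group
    exact Subgroup.mem_sup_left ⟨h1, Subgroup.mem_centralizer_iff.mpr fun z hz =>
      hcU (hV''U hz) (hRU h2)⟩
  set H := Subgroup.normalizer (D₀ : Set G) with hH
  have hMH : M ≤ H := (sup_le hV₁D hRD).trans (Subgroup.centralizer_le_normalizer _)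
  haveI : (D₀.subgroupOf H).Normal := Subgroup.normal_subgroupOf_of_le_normalizer le_rfl
  set ρ := QuotientGroup.mk' (D₀.subgroupOf H) with hρ
  have hρ1 : ∀ {g : H}, ρ g = 1 ↔ (g : G) ∈ D₀ := fun {g} =>
    (QuotientGroup.eq_one_iff g).trans Subgroup.mem_subgroupOf
  set Mb := (M.subgroupOf H).map ρ with hMb
  set Va := (V₁.subgroupOf H).map ρ with hVa
  set Rb := (R.subgroupOf H).map ρ with hRb
  have hMsup : Mb = Va ⊔ Rb := by
    rw [hMb, hM, Subgroup.subgroupOf_sup (le_sup_left.trans hMH) (le_sup_right.trans hMH),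
      Subgroup.map_sup]
  have hMsq : ∀ w ∈ Mb, w * w = 1 := by
    rw [hMsup]
    refine CfsgLib.PushUp.sq_one_sup ?_ ?_ ?_
    · rintro _ ⟨v, hv, rfl⟩
      rw [← map_mul, show v * v = 1 from Subtype.ext (h.sq _ hv.1), map_one]
    · rintro _ ⟨v, hv, rfl⟩
      rw [← map_mul, show v * v = 1 from Subtype.ext (hU2 _ (hRU hv)), map_one]
    · rintro _ ⟨v, hv, rfl⟩
      refine Subgroup.mem_centralizer_iff.mpr ?_
      rintro _ ⟨x, hx, rfl⟩
      have h1 := hρ1.mpr (show ((x * v * x⁻¹ * v⁻¹ : H) : G) ∈ D₀ from hcross _ hv _ hx)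
      rwa [map_mul, map_mul, map_mul, map_inv, map_inv, mul_inv_eq_one, mul_inv_eq_iff_eq_mul] at h1
  have hcardM : Nat.card Mb ≤ s' * r' := by
    have hn : Rb ≤ Subgroup.normalizer (Va : Set (H ⧸ D₀.subgroupOf H)) := fun x hx =>
      Subgroup.centralizer_le_normalizer _ (Subgroup.mem_centralizer_iff.mpr fun z hz =>
        Subgroup.mem_centralizer_iff.mp (CfsgLib.PushUp.comm_of_sq hMsq
          (hMsup.ge (Subgroup.mem_sup_right hx))) z (hMsup.ge (Subgroup.mem_sup_left hz)))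
    have h1 := CfsgLib.Coprime.card_sup_mul_card_inf hn
    rw [← hMsup] at h1
    have h2 : Nat.card Va ≤ s' := by
      rw [hVa, ← Subgroup.relIndex_ker, hρ, QuotientGroup.ker_mk',
        Subgroup.relIndex_subgroupOf (le_sup_left.trans hMH), hs', cd,
        ← Subgroup.inf_relIndex_right (Subgroup.centralizer (V'' : Set G)) V₁]
      exact Subgroup.relIndex_le_of_le_left (fun g hg => Subgroup.mem_sup_left ⟨hg.2, hg.1⟩)
        Subgroup.index_ne_zero_of_finite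
    have h3 : Nat.card Rb ≤ r' := by
      rw [hRb, ← Subgroup.relIndex_ker, hρ, QuotientGroup.ker_mk',
        Subgroup.relIndex_subgroupOf (le_sup_right.trans hMH), hr', cd,
        ← Subgroup.inf_relIndex_right (Subgroup.centralizer (V' : Set G)) R]
      exact Subgroup.relIndex_le_of_le_left (fun g hg => Subgroup.mem_sup_right ⟨hg.2, hg.1⟩)
        Subgroup.index_ne_zero_of_finite
    exact ((Nat.le_mul_of_pos_right _ Nat.card_pos).trans_eq h1).trans (Nat.mul_le_mul h2 h3)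
  by_cases hmove : ∃ m ∈ M, y * m * y⁻¹ * m⁻¹ ∉ D₀
  · obtain ⟨m, hm, hmD⟩ := hmove
    have hyH : y ∈ H := Subgroup.centralizer_le_normalizer _ hyD
    have htH : t ∈ H := Subgroup.centralizer_le_normalizer _ htD
    set yr := ρ ⟨y, hyH⟩ with hyr
    set tr := ρ ⟨t, htH⟩ with htr
    have hn : ∀ {g : H}, (g : G) ∈ Subgroup.normalizer (M : Set G) →
        ρ g ∈ Subgroup.normalizer (Mb : Set (H ⧸ D₀.subgroupOf H)) := fun {g} hg =>
      Subgroup.mem_normalizer_fintype (by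
        rintro _ ⟨w, hw, rfl⟩
        exact ⟨g * w * g⁻¹,
          show (g : G) * (w : G) * (g : G)⁻¹ ∈ M from conj_mem_of_mem_normalizer hg hw,
          by rw [map_mul, map_mul, map_inv]⟩)
    have hord2 : ∃ i, orderOf yr = r ^ i := by
      obtain ⟨j, hj⟩ := hord
      have h1 : orderOf yr ∣ r ^ j := by
        rw [← hj, ← Subgroup.orderOf_mk y hyH]; exact orderOf_map_dvd ρ _
      obtain ⟨i, -, hi⟩ := (Nat.dvd_prime_pow hs.prime).mp h1
      exact ⟨i, hi⟩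
    have hodd2 : Odd (orderOf yr) := by
      obtain ⟨i, hi⟩ := hord2
      rw [hi]; exact (hs.prime.eq_two_or_odd'.resolve_left hr2).pow
    have hinv2 : tr * yr * tr⁻¹ = yr⁻¹ := by
      rw [hyr, htr, ← map_inv, ← map_mul, ← map_mul, ← map_inv]
      exact congrArg ρ (Subtype.ext hinv)
    have ht22 : tr * tr = 1 := by
      rw [htr, ← map_mul, show (⟨t, htH⟩ : H) * ⟨t, htH⟩ = 1 from Subtype.ext ht2, map_one]
    have hyMb := hn (g := ⟨y, hyH⟩) hyM
    have htMb := hn (g := ⟨t, htH⟩) htM1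
    set Wb := ⁅Mb, Subgroup.zpowers yr⁆ with hWb
    obtain ⟨hmeet, hsup⟩ := decompose hMsq hodd2 hyMb
    have hWM : Wb ≤ Mb := commutator_le_self hyMb
    have hWne : Wb ≠ ⊥ := fun h0 => by
      rw [← hWb, h0, sup_bot_eq] at hsup
      have h1 := mem_centralizer_singleton_conj.mp (hsup.ge (Subgroup.mem_map_of_mem ρ
        (show (⟨m, hMH hm⟩ : H) ∈ M.subgroupOf H from hm))).2
      refine hmD (hρ1.mp (show ρ (⟨y, hyH⟩ * ⟨m, hMH hm⟩ * ⟨y, hyH⟩⁻¹ * ⟨m, hMH hm⟩⁻¹) = 1 from ?_))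
      rw [map_mul, map_mul, map_mul, map_inv, map_inv, ← hyr, h1, mul_inv_cancel]
    have hfpf : Wb ⊓ Subgroup.centralizer ({yr} : Set _) = ⊥ := le_bot_iff.mp
      (hmeet ▸ le_inf (le_inf (inf_le_left.trans hWM) inf_le_right) inf_le_left)
    have hyW : yr ∈ Subgroup.normalizer (Wb : Set _) :=
      mem_normalizer_commutator hyMb hyMb fun g hg => ⟨g, hg, by
        obtain ⟨l, rfl⟩ := hg
        show (yr ^ l)⁻¹ * (yr * yr ^ l * yr⁻¹) ∈ _
        rw [show yr * yr ^ l * yr⁻¹ = yr ^ l by group, inv_mul_cancel]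
        exact one_mem _⟩
    have htW : tr ∈ Subgroup.normalizer (Wb : Set _) :=
      mem_normalizer_commutator hyMb htMb fun g hg => by
        obtain ⟨l, rfl⟩ := hg
        refine ⟨yr ^ (-l), ⟨_, rfl⟩, ?_⟩
        show (yr ^ (-l))⁻¹ * (tr * yr ^ l * tr⁻¹) ∈ _
        rw [← conj_zpow, hinv2, inv_zpow, zpow_neg, inv_inv, mul_inv_cancel]
        exact one_mem _
    obtain ⟨hsq, hge, -⟩ := free_card (fun w hw => hMsq w (hWM hw)) hs.prime hr2 hs.big hord2 hyW htW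
      (by rw [hinv2, inv_mul_cancel]; exact one_mem _) (by rw [ht22]; exact one_mem _) hfpf
    have h4 : 2 ^ (4 * k) ≤ s' * r' := by
      refine le_trans ?_ ((Subgroup.card_le_of_le hWM).trans hcardM)
      rw [hsq, show 4 * k = 2 * k * 2 by ring, pow_mul]
      exact Nat.pow_le_pow_left (hge hWne) 2
    rcases hupper with h5 | h5
    · rw [h5] at h4
      have := Nat.one_lt_two_pow (n := 4 * k) (by have := hs.one_le; omega)
      omega
    · omega
  push Not at hmove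
  have hMp : IsPGroup 2 M := S.2.to_le (sup_le (hV₁V.trans h.le) hRS)
  have hyMc : ∀ m ∈ M, y * m * y⁻¹ = m := fun m hm => by
    have hz : m⁻¹ * (y * m * y⁻¹) ∈ D₀ := by
      have h1 := hmove _ (inv_mem hm)
      have h2 := inv_mem h1
      rwa [show (y * m⁻¹ * y⁻¹ * m⁻¹⁻¹)⁻¹ = m⁻¹ * (y * m * y⁻¹) by group] at h2
    exact CfsgLib.PushUp.fix_of_stabilizes (hMp.to_le hD₀M) hyodd hz
      (mem_centralizer_iff_conj.mp hyD _ hz) (by rw [pow_orderOf_eq_one, one_mul, inv_one, mul_one])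
  have hRV₁eq : R = V₁ := by
    refine le_antisymm ?_ fun v hv => ⟨v, hv, hyMc v (Subgroup.mem_sup_left hv)⟩
    rintro _ ⟨v, hv, rfl⟩
    show y * v * y⁻¹ ∈ V₁
    rw [hyMc v (Subgroup.mem_sup_left hv)]; exact hv
  have hyV₁ : y ∈ Subgroup.centralizer (V₁ : Set G) :=
    mem_centralizer_iff_conj.mpr fun v hv => hyMc v (Subgroup.mem_sup_left hv)
  have ht'V₁ : t' ∈ Subgroup.centralizer (V₁ : Set G) := Subgroup.mem_centralizer_iff.mpr fun v hv =>
    hcU (hRU (hRV₁eq.ge hv)) ht'U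
  have htQ : t ∈ shiftOf Q V₁ := ⟨Subgroup.mem_centralizer_iff.mpr fun v hv => hcV (hV₁V hv) htV,
    fun q hq => hQV₁ (by
      rw [show t * q * t⁻¹ * q⁻¹ = t * (q * t⁻¹ * q⁻¹) by group]
      exact mul_mem htV (conj_mem_of_mem_normalizer (h.norm (hQS hq)) (inv_mem htV)))
      (mul_mem ((inferInstance : Q.Normal).conj_mem q hq t) (inv_mem hq))⟩
  have ht'Q : t' ∈ shiftOf Q V₁ := ⟨ht'V₁, fun q hq => hRV₁eq.le (by
    have hq' : y⁻¹ * q * y⁻¹⁻¹ ∈ Q := (inferInstance : Q.Normal).conj_mem q hq y⁻¹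
    refine ⟨t * (y⁻¹ * q * y⁻¹⁻¹) * t⁻¹ * (y⁻¹ * q * y⁻¹⁻¹)⁻¹, htQ.2 _ hq', ?_⟩
    show y * (t * (y⁻¹ * q * y⁻¹⁻¹) * t⁻¹ * (y⁻¹ * q * y⁻¹⁻¹)⁻¹) * y⁻¹ = t' * q * t'⁻¹ * q⁻¹
    rw [ht']; group)⟩
  have hyQ : y ∈ shiftOf Q V₁ := hyN htQ ht'Q
  have hycQ : y ∈ Q := hchar (mem_centralizer_iff_conj.mpr fun q hq => by
    have hz : q⁻¹ * (y * q * y⁻¹) ∈ V₁ := by
      have h2 := inv_mem (hyQ.2 _ (inv_mem hq))
      rwa [show (y * q⁻¹ * y⁻¹ * q⁻¹⁻¹)⁻¹ = q⁻¹ * (y * q * y⁻¹) by group] at h2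
    exact CfsgLib.PushUp.fix_of_stabilizes (S.2.to_le (hV₁V.trans h.le)) hyodd hz
      (mem_centralizer_iff_conj.mp hyV₁ _ hz) (by rw [pow_orderOf_eq_one, one_mul, inv_one, mul_one]))
  exact hs.ne_one (by rw [← hπy]; exact hπ1.mpr hycQ)

/-- Conjugates of such a subgroup commute. -/
theorem conj_comm {S : Sylow 2 G} {V : Subgroup G} (h : Setting S V)
    [(Cfsg.pCore 2 G).Normal] (hVQ : V ≤ Cfsg.pCore 2 G) (a b : G) :
    cj a V ≤ Subgroup.centralizer (cj b V : Set G) := by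
  haveI : Fact (Nat.Prime 2) := ⟨Nat.prime_two⟩
  have hQp : IsPGroup 2 (Cfsg.pCore 2 G) := CfsgLib.Fitting.pCore_isPGroup 2
  have key : ∀ a b : G, Cube (cj a V) (cj b V) := fun a b => by
    have hle : cj a V ≤ Cfsg.pCore 2 G :=
      (cj_mono a hVQ).trans (Cfsg.Agent.S4022.cj_normal a _).le
    refine (h.cj b).cube (hQp.to_le hle) (hle.trans ?_) fun x hx => ?_
    · refine (Cfsg.Agent.S4022.cj_normal b _).ge.trans (le_normalizer_cj ?_)
      exact (CfsgLib.PushUp.le_sylow_of_normal hQp S).trans h.norm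
    · rw [(h.cj a).sq x hx]; exact one_mem _
  refine CfsgLib.PushUp.cd_eq_one_iff.mp ?_
  have h1 := Nat.mul_le_mul (key a b).le (key b a).le
  have hp : 0 < cd (cj a V) (cj b V) := cd_pos _ _
  have hq : 0 < cd (cj b V) (cj a V) := cd_pos _ _
  rw [show ∀ u v : ℕ, u ^ 3 * v ^ 3 = (u * v) ^ 2 * (u * v) from fun u v => by ring,
    show ∀ u v : ℕ, v ^ 2 * u ^ 2 = (u * v) ^ 2 * 1 from fun u v => by ring] at h1
  have h2 := Nat.le_of_mul_le_mul_left h1 (by positivity)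
  exact Nat.eq_one_of_mul_eq_one_right (le_antisymm h2 (Nat.mul_pos hp hq))

end CfsgLib.LocalK
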