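import Cfsg.Agent.Lib.LocalK.EGroup

/-!
The inequality `|B̄|³ < |V : C_V(B)|²` and its behaviour under joins and conjugation.
-/

set_option autoImplicit false
set_option linter.style.haveILetI false

namespace CfsgLib.LocalK

open scoped Pointwise
open CfsgLib.PushUp (cd cd_pos cd_cj cd_prod cd_mono_right centralizer_sup MaxEl)
open Cfsg.Agent.S4022 (cj cj_mul cj_mono card_cj)

universe u

variable {G : Type u} [Group G] [Finite G]

/-- Either `B` centralizes `V`, or `|B : C_B(V)|³ < |V : C_V(B)|²`. -/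
def Cube (B V : Subgroup G) : Prop := cd B V ≠ 1 → cd B V ^ 3 < cd V B ^ 2

theorem Cube.le {B V : Subgroup G} (h : Cube B V) : cd B V ^ 3 ≤ cd V B ^ 2 := by
  by_cases h1 : cd B V = 1
  · rw [h1, one_pow]; exact Nat.one_le_pow _ _ (cd_pos _ _)
  · exact (h h1).le

theorem Cube.of_le {B V : Subgroup G} (h : B ≤ Subgroup.centralizer (V : Set G)) : Cube B V :=
  fun hne => absurd (CfsgLib.PushUp.cd_eq_one_iff.mpr h) hne

theorem Cube.sup {B V' V'' : Subgroup G} (h' : Cube B V')
    (h'' : Cube (Subgroup.centralizer (V' : Set G) ⊓ B) V'') : Cube B (V' ⊔ V'') := by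
  set B₁ := Subgroup.centralizer (V' : Set G) ⊓ B with hB₁
  have h1 : cd B (V' ⊔ V'') = cd B₁ V'' * cd B V' := by
    simp only [cd, centralizer_sup, hB₁]
    rw [Subgroup.relIndex_inf_mul_relIndex, inf_comm]
  have h2 := cd_prod (V := V' ⊔ V'') (B := B) (B₁ := B₁) inf_le_right le_sup_left
    (Subgroup.le_centralizer_iff.mp inf_le_left)
  have h3 : cd V'' B₁ ≤ cd (V' ⊔ V'') B₁ := cd_mono_right le_sup_right
  intro hne
  rw [h1] at hne ⊢
  have hp := cd_pos V' B
  have hq := cd_pos V'' B₁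
  refine lt_of_lt_of_le ?_ (Nat.pow_le_pow_left ((Nat.mul_le_mul_left _ h3).trans h2) 2)
  rw [mul_pow, mul_pow, mul_comm (cd B₁ V'' ^ 3)]
  by_cases hc : cd B V' = 1
  · rw [hc, mul_one] at hne
    rw [hc, one_pow, one_mul]
    exact (h'' hne).trans_le (Nat.le_mul_of_pos_left _ (by positivity))
  · exact Nat.mul_lt_mul_of_lt_of_le (h' hc) h''.le (by positivity)

theorem Cube.sSup {B : Subgroup G} (T : Set (Subgroup G)) (h : ∀ B' ≤ B, ∀ V ∈ T, Cube B' V) :
    Cube B (sSup T) := by
  classical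
  suffices ∀ T : Finset (Subgroup G), (∀ B' ≤ B, ∀ V ∈ T, Cube B' V) → ∀ B' ≤ B, Cube B' (T.sup id) by
    have hT := T.toFinite
    have := this hT.toFinset (fun B' hB' V hV => h B' hB' V (hT.mem_toFinset.mp hV)) B le_rfl
    rwa [Finset.sup_id_eq_sSup, hT.coe_toFinset] at this
  intro T
  induction T using Finset.induction_on with
  | empty =>
    intro _ B' _
    rw [Finset.sup_empty]
    exact Cube.of_le fun b _ => CfsgLib.PushUp.mem_centralizer_iff_conj.mpr fun v hv => by
      rw [Subgroup.mem_bot.mp hv, mul_one, mul_inv_cancel]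
  | insert V T _ ih =>
    intro h B' hB'
    rw [Finset.sup_insert, id]
    exact (h B' hB' V (Finset.mem_insert_self _ _)).sup
      (ih (fun B'' h'' W hW => h B'' h'' W (Finset.mem_insert_of_mem hW)) _ (inf_le_right.trans hB'))

omit [Finite G] in
theorem mem_normalizer_iff_cj {g : G} {H : Subgroup G} :
    g ∈ Subgroup.normalizer (H : Set G) ↔ cj g H = H := by
  rw [CfsgLib.Coprime.mem_normalizer_iff_conj_smul, Cfsg.Agent.S4022.cj_smul]

omit [Finite G] in
theorem cj_le_iff {g : G} {A B : Subgroup G} : cj g A ≤ B ↔ A ≤ cj g⁻¹ B :=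
  ⟨fun h => (Cfsg.Agent.S4270.cj_cancel g A).ge.trans (cj_mono _ h), fun h =>
    (cj_mono g h).trans (by rw [← cj_mul, mul_inv_cancel, Cfsg.Agent.S4270.cj_one])⟩

omit [Finite G] in
theorem le_normalizer_cj {g : G} {A V : Subgroup G} (h : A ≤ Subgroup.normalizer (V : Set G)) :
    cj g A ≤ Subgroup.normalizer (cj g V : Set G) :=
  (cj_mono g h).trans (Subgroup.le_normalizer_map _)

theorem MaxEl.cj {S A : Subgroup G} (h : MaxEl S A) (g : G) : MaxEl (cj g S) (cj g A) where
  le := cj_mono g h.le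
  sq := by rintro _ ⟨a, ha, rfl⟩; rw [← map_mul, h.sq a ha, map_one]
  max B hB hB2 := by
    rw [card_cj, ← card_cj g⁻¹ B]
    refine h.max _ ((cj_mono _ hB).trans (Cfsg.Agent.S4270.cj_cancel g S).le) ?_
    rintro _ ⟨b, hb, rfl⟩
    rw [← map_mul, hB2 b hb, map_one]

/-- A normal subgroup of `S` with the E-property. -/
structure Setting (S : Sylow 2 G) (V : Subgroup G) : Prop where
  le : V ≤ (S : Subgroup G)
  norm : (S : Subgroup G) ≤ Subgroup.normalizer (V : Set G)
  sq : ∀ v ∈ V, v * v = 1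
  prop : EProp (S : Subgroup G) V

omit [Finite G] in
theorem coe_smul_sylow (g : G) (S : Sylow 2 G) :
    ((g • S : Sylow 2 G) : Subgroup G) = cj g (S : Subgroup G) := by
  rw [Sylow.coe_subgroup_smul, Cfsg.Agent.S4022.cj_smul]

omit [Finite G] in
theorem Setting.cj {S : Sylow 2 G} {V : Subgroup G} (h : Setting S V) (g : G) :
    Setting (g • S) (Cfsg.Agent.S4022.cj g V) where
  le := by rw [coe_smul_sylow]; exact cj_mono g h.le
  norm := by rw [coe_smul_sylow]; exact le_normalizer_cj h.norm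
  sq := by rintro _ ⟨a, ha, rfl⟩; rw [← map_mul, h.sq a ha, map_one]
  prop := by rw [coe_smul_sylow]; exact h.prop.map _ (MulAut.conj g).injective

/-- The inequality for every `2`-subgroup normalizing `V`. -/
theorem Setting.cube {S : Sylow 2 G} {V : Subgroup G} (h : Setting S V) {R : Subgroup G}
    (hR : IsPGroup 2 R) (hRV : R ≤ Subgroup.normalizer (V : Set G))
    (hsq : ∀ r ∈ R, r * r ∈ Subgroup.centralizer (V : Set G)) : Cube R V := by
  obtain ⟨g, hg, hle⟩ := CfsgLib.PushUp.sylow_conj_le S h.norm hRV hR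
  have hs := h.cj g
  rw [mem_normalizer_iff_cj.mp hg] at hs
  intro hne
  exact (hs.prop R (by rwa [coe_smul_sylow]) hsq
    fun hc => hne (CfsgLib.PushUp.cd_eq_one_iff.mpr hc)).1

/-- A largest elementary abelian subgroup centralizes `V`. -/
theorem Setting.maxEl_le_centralizer {S : Sylow 2 G} {V A : Subgroup G} (h : Setting S V)
    (hA : MaxEl (S : Subgroup G) A) : A ≤ Subgroup.centralizer (V : Set G) := by
  have h1 := (h.cube (S.2.to_le hA.le) (hA.le.trans h.norm)
    (fun a ha => by rw [hA.sq a ha]; exact one_mem _)).le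
  have h2 := hA.offender h.le h.sq
  refine CfsgLib.PushUp.cd_eq_one_iff.mp ?_
  have h3 := h1.trans (Nat.pow_le_pow_left h2 2)
  have hp := cd_pos A V
  have h4 : cd A V ≤ 1 := Nat.le_of_mul_le_mul_left
    (show cd A V ^ 2 * cd A V ≤ cd A V ^ 2 * 1 by rwa [mul_one, ← pow_succ]) (by positivity)
  omega

end CfsgLib.LocalK
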