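import Cfsg.Agent.Lib.PushUp.Main
import Cfsg.Agent.Lib.Transfer.ThompsonJ

/-!
E-groups and the subgroup they generate, inside an ambient group.
-/

set_option autoImplicit false
set_option linter.style.haveILetI false

namespace CfsgLib.LocalK

open scoped Pointwise commutatorElement
open CfsgLib.PushUp (cd cd_map cd_pos mem_centralizer_iff_conj MaxEl)
open Cfsg.Agent.S4022 (cj)

universe u

variable {G : Type u} [Group G]

/-- `|V : C_V(R)|² > |R̄|³` and `|[V, R]| > |R̄|` for the noncentral elementary images `R̄`. -/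
def EProp (S V : Subgroup G) : Prop :=
  ∀ R ≤ S, (∀ r ∈ R, r * r ∈ Subgroup.centralizer (V : Set G)) →
    ¬ R ≤ Subgroup.centralizer (V : Set G) → cd R V ^ 3 < cd V R ^ 2 ∧ cd R V < Nat.card ↥⁅V, R⁆

/-- The E-group condition for a subgroup. -/
def EGrp (U : Subgroup G) : Prop :=
  ∀ V ≤ U, U ≤ Subgroup.normalizer (V : Set G) → (∀ v ∈ V, v * v = 1) → EProp U V →
    V ≤ Subgroup.centralizer (U : Set G)

/-- The subgroup generated by the elementary abelian subgroups of largest order. -/
def je (S : Subgroup G) : Subgroup G := Cfsg.thompsonSubgroupOf 2 S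

/-- The subgroup generated by the E-groups over `je S`. -/
def jh (S : Subgroup G) : Subgroup G := sSup {U | U ≤ S ∧ EGrp U ∧ je S ≤ U}

theorem je_le (S : Subgroup G) : je S ≤ S := Subgroup.map_subtype_le _

theorem jh_le (S : Subgroup G) : jh S ≤ S := sSup_le fun _ h => h.1

theorem isAbExp_two_iff {A : Subgroup G} :
    CfsgLib.Transfer.IsAbExp 2 A ↔ ∀ a ∈ A, a * a = 1 := by
  refine ⟨fun h a ha => by rw [← pow_two]; exact h.2 a ha, fun h => ⟨?_, fun a ha => by
    rw [pow_two]; exact h a ha⟩⟩
  exact Subgroup.le_centralizer_iff_isMulCommutative.mp (CfsgLib.PushUp.comm_of_sq h)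

theorem je_eq (S : Subgroup G) : je S = sSup {A | MaxEl S A} := by
  rw [je, CfsgLib.Transfer.thompsonSubgroupOf_eq]
  unfold CfsgLib.Transfer.thompsonJ
  refine congrArg sSup (Set.ext fun A => ?_)
  simp only [CfsgLib.Transfer.maxAbExp, isAbExp_two_iff, Set.mem_setOf_eq]
  exact ⟨fun h => ⟨h.1, h.2.1, h.2.2⟩, fun h => ⟨h.le, h.sq, h.max⟩⟩

theorem le_je {S A : Subgroup G} (h : MaxEl S A) : A ≤ je S := by
  rw [je_eq]; exact le_sSup h

theorem je_le_iff {S K : Subgroup G} : je S ≤ K ↔ ∀ A, MaxEl S A → A ≤ K := by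
  rw [je_eq, sSup_le_iff]; rfl

section map

variable {H : Type u} [Group H] (f : G →* H) (hf : Function.Injective f)

include hf

theorem card_commutator_map (V R : Subgroup G) :
    Nat.card ↥⁅V.map f, R.map f⁆ = Nat.card ↥⁅V, R⁆ := by
  rw [← Subgroup.map_commutator, Subgroup.card_map_of_injective hf]

theorem EProp.map {S V : Subgroup G} (h : EProp S V) : EProp (S.map f) (V.map f) := by
  intro R hR hsq hne
  obtain ⟨R, rfl⟩ : ∃ R' : Subgroup G, R'.map f = R := ⟨R.comap f,
    Subgroup.map_comap_eq_self (hR.trans (Subgroup.map_le_range f S))⟩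
  rw [cd_map f hf, cd_map f hf, card_commutator_map f hf]
  refine h R ((Subgroup.map_le_map_iff_of_injective hf).mp hR) (fun r hr => ?_) fun hc => hne ?_
  · have h1 := hsq _ (Subgroup.mem_map_of_mem f hr)
    rwa [← map_mul, ← Subgroup.mem_comap, CfsgLib.PushUp.centralizer_map f hf] at h1
  · rintro _ ⟨r, hr, rfl⟩
    rw [← Subgroup.mem_comap, CfsgLib.PushUp.centralizer_map f hf]
    exact hc hr

theorem EProp.of_map {S V : Subgroup G} (h : EProp (S.map f) (V.map f)) : EProp S V := by
  intro R hR hsq hne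
  have := h (R.map f) (Subgroup.map_mono hR) (by
    rintro _ ⟨r, hr, rfl⟩
    rw [← map_mul, ← Subgroup.mem_comap, CfsgLib.PushUp.centralizer_map f hf]
    exact hsq r hr) fun hc => hne fun r hr => by
      have h1 := hc (Subgroup.mem_map_of_mem f hr)
      rwa [← Subgroup.mem_comap, CfsgLib.PushUp.centralizer_map f hf] at h1
  rwa [cd_map f hf, cd_map f hf, card_commutator_map f hf] at this

theorem egrp_map_iff {U : Subgroup G} : EGrp (U.map f) ↔ EGrp U := by
  constructor
  · intro h V hV hn he hp v hv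
    have h1 := h (V.map f) (Subgroup.map_mono hV)
      ((Subgroup.map_mono hn).trans (Subgroup.le_normalizer_map f))
      (by rintro _ ⟨w, hw, rfl⟩; rw [← map_mul, he w hw, map_one]) (hp.map f hf)
      (Subgroup.mem_map_of_mem f hv)
    rwa [← Subgroup.mem_comap, CfsgLib.PushUp.centralizer_map f hf] at h1
  · intro h W hW hn he hp
    obtain ⟨V, rfl⟩ : ∃ V : Subgroup G, V.map f = W := ⟨W.comap f,
      Subgroup.map_comap_eq_self (hW.trans (Subgroup.map_le_range f U))⟩
    rintro _ ⟨v, hv, rfl⟩
    rw [← Subgroup.mem_comap, CfsgLib.PushUp.centralizer_map f hf]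
    refine h V ((Subgroup.map_le_map_iff_of_injective hf).mp hW) (fun g hg => ?_)
      (fun w hw => hf (by rw [map_mul, map_one]; exact he _ (Subgroup.mem_map_of_mem f hw)))
      (hp.of_map f hf) hv
    have h1 := hn (Subgroup.mem_map_of_mem f hg)
    refine Subgroup.mem_normalizer_iff.mpr fun w => ?_
    have h2 := Subgroup.mem_normalizer_iff.mp h1 (f w)
    rwa [← map_inv, ← map_mul, ← map_mul, Subgroup.mem_map_iff_mem hf,
      Subgroup.mem_map_iff_mem hf] at h2

theorem map_je (S : Subgroup G) : (je S).map f = je (S.map f) := by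
  rw [je, je, CfsgLib.Transfer.thompsonSubgroupOf_eq, CfsgLib.Transfer.thompsonSubgroupOf_eq,
    CfsgLib.Transfer.map_thompsonJ 2 f hf.injOn]

theorem map_jh (S : Subgroup G) : (jh S).map f = jh (S.map f) := by
  refine le_antisymm ?_ (sSup_le ?_)
  · rw [Subgroup.map_le_iff_le_comap]
    refine sSup_le fun U hU => ?_
    rw [← Subgroup.map_le_iff_le_comap]
    exact le_sSup ⟨Subgroup.map_mono hU.1, (egrp_map_iff f hf).mpr hU.2.1,
      map_je f hf S ▸ Subgroup.map_mono hU.2.2⟩
  · rintro W ⟨hW, hE, hJ⟩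
    obtain ⟨U, rfl⟩ : ∃ U : Subgroup G, U.map f = W := ⟨W.comap f,
      Subgroup.map_comap_eq_self (hW.trans (Subgroup.map_le_range f S))⟩
    rw [← map_je f hf] at hJ
    exact Subgroup.map_mono (le_sSup ⟨(Subgroup.map_le_map_iff_of_injective hf).mp hW,
      (egrp_map_iff f hf).mp hE, (Subgroup.map_le_map_iff_of_injective hf).mp hJ⟩)

end map

theorem normalizer_le_normalizer_je (S : Subgroup G) :
    Subgroup.normalizer (S : Set G) ≤ Subgroup.normalizer (je S : Set G) := by
  rw [je, CfsgLib.Transfer.thompsonSubgroupOf_eq]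
  exact CfsgLib.Transfer.normalizer_le_normalizer_thompsonJ 2 S

variable [Finite G]

theorem egrp_iff {U : Subgroup G} : Cfsg.IsEGroup U ↔ EGrp U := by
  have key : ∀ V R : Subgroup U,
      ((Nat.card V) ^ 2 * (Nat.card ↥(R ⊓ Subgroup.centralizer (V : Set U))) ^ 3 >
          (Nat.card R) ^ 3 * (Nat.card ↥(V ⊓ Subgroup.centralizer (R : Set U))) ^ 2 ∧
        Nat.card ↥⁅V, R⁆ * Nat.card ↥(R ⊓ Subgroup.centralizer (V : Set U)) > Nat.card R) ↔
      cd R V ^ 3 < cd V R ^ 2 ∧ cd R V < Nat.card ↥⁅V, R⁆ := by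
    intro V R
    rw [inf_comm R, inf_comm V]
    set a := Nat.card ↥(Subgroup.centralizer (V : Set U) ⊓ R) with ha
    set b := Nat.card ↥(Subgroup.centralizer (R : Set U) ⊓ V) with hb
    rw [show Nat.card V = cd V R * b from (CfsgLib.Coprime.relIndex_mul_card_inf _ _).symm,
      show Nat.card R = cd R V * a from (CfsgLib.Coprime.relIndex_mul_card_inf _ _).symm]
    have hpa : 0 < a := Nat.card_pos
    have hpb : 0 < b := Nat.card_pos
    refine and_congr ?_ ?_
    · rw [gt_iff_lt, show (cd R V * a) ^ 3 * b ^ 2 = cd R V ^ 3 * (a ^ 3 * b ^ 2) by ring,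
        show (cd V R * b) ^ 2 * a ^ 3 = cd V R ^ 2 * (a ^ 3 * b ^ 2) by ring]
      exact Nat.mul_lt_mul_right (by positivity)
    · exact Nat.mul_lt_mul_right hpa
  constructor
  · intro h V hV hn he hp v hv
    have hVn : (V.subgroupOf U).Normal := Subgroup.normal_subgroupOf_of_le_normalizer hn
    have hVm : (V.subgroupOf U).map U.subtype = V := Subgroup.map_subgroupOf_eq_of_le hV
    have h1 := h (V.subgroupOf U) hVn ⟨Subgroup.le_centralizer_iff_isMulCommutative.mp
      (CfsgLib.PushUp.comm_of_sq fun w hw => Subtype.ext (he _ hw)),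
      fun w hw => Subtype.ext (by rw [Subgroup.coe_pow, pow_two]; exact he _ hw)⟩
      (fun R hR1 hR2 hR3 => (key _ R).mpr (EProp.of_map U.subtype U.subtype_injective
        (S := (⊤ : Subgroup U)) (by rwa [← MonoidHom.range_eq_map, Subgroup.range_subtype, hVm])
        R le_top (fun r hr => by rw [← pow_two]; exact hR2 r hr) hR3))
      (show (⟨v, hV hv⟩ : U) ∈ V.subgroupOf U from hv)
    exact Subgroup.mem_centralizer_iff.mpr fun g hg =>
      congrArg Subtype.val (Subgroup.mem_center_iff.mp h1 ⟨g, hg⟩)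
  · intro h V hVn hVe hp
    have h1 := h (V.map U.subtype) (Subgroup.map_subtype_le V)
      (by
        have := Subgroup.le_normalizer_map (H := V) U.subtype
        rwa [Subgroup.normalizer_eq_top_iff.mpr hVn, ← MonoidHom.range_eq_map,
          Subgroup.range_subtype] at this)
      (by rintro _ ⟨w, hw, rfl⟩; rw [← map_mul, ← pow_two, hVe.2 w hw, map_one])
      (by
        have e : (⊤ : Subgroup U).map U.subtype = U := by
          rw [← MonoidHom.range_eq_map, Subgroup.range_subtype]
        conv_lhs => rw [← e]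
        refine EProp.map U.subtype U.subtype_injective fun R _ hsq hne => (key V R).mp (hp R ?_
          (fun r hr => by rw [pow_two]; exact hsq r hr) hne)
        refine Subgroup.commutator_le.mpr fun a ha b hb => ?_
        rw [commutatorElement_def]
        haveI := hVn
        haveI : (Subgroup.centralizer (V : Set U)).Normal := inferInstance
        have hi : ∀ r ∈ R, (QuotientGroup.mk' (Subgroup.centralizer (V : Set U)) r) *
            QuotientGroup.mk' _ r = 1 := fun r hr => by
          rw [← map_mul]; exact (QuotientGroup.eq_one_iff _).mpr (hsq r hr)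
        refine (QuotientGroup.eq_one_iff _).mp ?_
        show QuotientGroup.mk' (Subgroup.centralizer (V : Set U)) _ = 1
        have hca := inv_eq_of_mul_eq_one_right (hi a ha)
        have hcb := inv_eq_of_mul_eq_one_right (hi b hb)
        have hab := hi (a * b) (mul_mem ha hb)
        rw [map_mul] at hab
        rw [map_mul, map_mul, map_mul, map_inv, map_inv, hca, hcb, mul_assoc]
        exact hab)
    intro v hv
    rw [Subgroup.mem_center_iff]
    exact fun g => Subtype.ext
      (Subgroup.mem_centralizer_iff.mp (h1 (Subgroup.mem_map_of_mem U.subtype hv)) g g.2)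

theorem jh_eq (S : Subgroup G) : (Cfsg.jHat S).map S.subtype = jh S := by
  have e : (⊤ : Subgroup S).map S.subtype = S := by
    rw [← MonoidHom.range_eq_map, Subgroup.range_subtype]
  conv_rhs => rw [← e, ← map_jh S.subtype S.subtype_injective]
  congr 1
  rw [Cfsg.jHat, jh]
  congr 1
  ext U
  have h : je (⊤ : Subgroup S) = Cfsg.thompsonSubgroup 2 S := by
    refine Subgroup.map_injective S.subtype_injective ?_
    rw [map_je S.subtype S.subtype_injective, e]
    rfl
  simp [egrp_iff, h]

end CfsgLib.LocalK
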