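import Cfsg.Agent.Lib.LocalK.CoreTwo
import Cfsg.Agent.Lib.LocalK.EGroup

/-!
The factorizations with the centralizer of the centre of a Sylow `2`-subgroup.
-/

set_option autoImplicit false
set_option linter.style.haveILetI false

namespace CfsgLib.LocalK

open scoped Pointwise
open CfsgLib.PushUp (cd cd_pos mem_centralizer_iff_conj conj_fix_iff centralizer_mono MaxEl)
open Cfsg.Agent.S4022 (cj cj_mul cj_mono card_cj)

universe u

variable {G : Type u} [Group G] [Finite G]

/-- Every element of `G` is a product `c * n` with `c ∈ C` and `n ∈ N`. -/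
def Fac (C N : Subgroup G) : Prop := ∀ g : G, ∃ c ∈ C, ∃ n ∈ N, g = c * n

omit [Finite G] in
theorem Fac.mono {C C' N N' : Subgroup G} (h : Fac C N) (hC : C ≤ C') (hN : N ≤ N') : Fac C' N' :=
  fun g => by
    obtain ⟨c, hc, n, hn, e⟩ := h g
    exact ⟨c, hC hc, n, hN hn, e⟩

/-- The Frattini argument for a normal subgroup. -/
theorem exists_frattini (S : Sylow 2 G) (M : Subgroup G) [M.Normal] (g : G) :
    ∃ m ∈ M, ∃ n ∈ Subgroup.normalizer (((S : Subgroup G) ⊓ M : Subgroup G) : Set G), g = m * n := by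
  haveI : Fact (Nat.Prime 2) := ⟨Nat.prime_two⟩
  set P := (S : Subgroup G) ⊓ M with hP
  have hidx : ¬ 2 ∣ P.relIndex M := by
    rw [hP, Subgroup.inf_relIndex_right]
    exact CfsgLib.PushUp.not_two_dvd_relIndex S M
  obtain ⟨m, hm, hme⟩ := CfsgLib.PushUp.exists_conj_eq (S.2.to_le inf_le_left) inf_le_right
    ((cj_mono g inf_le_right).trans (Cfsg.Agent.S4022.cj_normal g M).le) hidx (card_cj g P)
  rw [← cj_mul] at hme
  exact ⟨m⁻¹, inv_mem hm, m * g, mem_normalizer_iff_cj.mpr hme, by rw [inv_mul_cancel_left]⟩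

theorem je_eq_of_le {S T : Subgroup G} (hTS : T ≤ S) (h : ∀ A, MaxEl S A → A ≤ T) :
    je T = je S := by
  obtain ⟨A₀, hA₀⟩ := CfsgLib.PushUp.exists_maxEl S
  rw [je_eq, je_eq]
  congr 1
  ext A
  exact ⟨fun hA => ⟨hA.le.trans hTS, hA.sq, fun B hB hB2 =>
      (hA₀.max B hB hB2).trans (hA.max A₀ (h A₀ hA₀) hA₀.sq)⟩,
    fun hA => ⟨h A hA, hA.sq, fun B hB hB2 => hA.max B (hB.trans hTS) hB2⟩⟩

theorem jh_eq_of_le {S T : Subgroup G} (hTS : T ≤ S) (h : ∀ A, MaxEl S A → A ≤ T)
    (hU : ∀ U ≤ S, EGrp U → je S ≤ U → U ≤ T) : jh T = jh S := by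
  rw [jh, jh, je_eq_of_le hTS h]
  congr 1
  ext U
  exact ⟨fun hh => ⟨hh.1.trans hTS, hh.2⟩, fun hh => ⟨hU U hh.1 hh.2.1 hh.2.2, hh.2⟩⟩

omit [Finite G] in
theorem normalizer_le_normalizer_jh (T : Subgroup G) :
    Subgroup.normalizer (T : Set G) ≤ Subgroup.normalizer (jh T : Set G) := fun g hg => by
  rw [mem_normalizer_iff_cj] at hg ⊢
  exact (map_jh _ (MulAut.conj g).injective T).trans (congrArg jh hg)

/-- `G / N` satisfies the standing hypothesis for `N` containing the `2`-core. -/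
theorem sk_quotient (hchar : Subgroup.centralizer (Cfsg.pCore 2 G : Set G) ≤ Cfsg.pCore 2 G)
    (hfree : ¬ Cfsg.Involves (Equiv.Perm (Fin 4)) G)
    (hc : Cfsg.IsCompositionKGroupWith Cfsg.IsSuzukiOrPSL2OddPowerThree G)
    (N : Subgroup G) [N.Normal] (hN : Cfsg.pCore 2 G ≤ N) : SK (G ⧸ N) := by
  haveI := CfsgLib.Fitting.pCore_normal (G := G) 2
  refine ⟨fun hi => free_of_char hchar hfree ?_,
    kgroup_of_surjective (QuotientGroup.mk' N) (QuotientGroup.mk'_surjective N) hc⟩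
  exact CfsgLib.Offender.involves_of_surjective
    (QuotientGroup.map (Cfsg.pCore 2 G) N (MonoidHom.id G) (by rwa [Subgroup.comap_id]))
    (fun q => by
      obtain ⟨g, rfl⟩ := QuotientGroup.mk'_surjective N q
      exact ⟨QuotientGroup.mk' _ g, rfl⟩) hi

/-- An element of odd order centralizing the elements of order two of an abelian `2`-group
centralizes it. -/
theorem fix_of_omega {V : Subgroup G} (hV : IsPGroup 2 V) (hVc : V ≤ Subgroup.centralizer (V : Set G))
    {g : G} (hg : g ∈ Subgroup.normalizer (V : Set G)) (hodd : Odd (orderOf g))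
    (h : ∀ v ∈ V, v * v = 1 → g * v * g⁻¹ = v) : g ∈ Subgroup.centralizer (V : Set G) := by
  suffices ∀ (j : ℕ) (v : G), v ∈ V → v ^ 2 ^ j = 1 → g * v * g⁻¹ = v from
    mem_centralizer_iff_conj.mpr fun v hv => by
      obtain ⟨j, hj⟩ := hV ⟨v, hv⟩
      exact this j v hv (congrArg Subtype.val hj)
  intro j
  induction j with
  | zero => intro v _ hv; rw [pow_zero, pow_one] at hv; simp [hv]
  | succ j ih =>
    intro v hv hvj
    have h2 := ih (v * v) (mul_mem hv hv) (by rw [← pow_two, ← pow_mul, ← pow_succ', hvj])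
    set z := v⁻¹ * (g * v * g⁻¹) with hz
    have hgv : g * v * g⁻¹ ∈ V := conj_mem_of_mem_normalizer hg hv
    have hzV : z ∈ V := mul_mem (inv_mem hv) hgv
    have hc : (g * v * g⁻¹) * v⁻¹ = v⁻¹ * (g * v * g⁻¹) :=
      (Subgroup.mem_centralizer_iff.mp (hVc hgv) _ (inv_mem hv)).symm
    have hz2 : z * z = 1 := by
      calc z * z = v⁻¹ * ((g * v * g⁻¹) * v⁻¹) * (g * v * g⁻¹) := by rw [hz]; group
        _ = (v * v)⁻¹ * (g * (v * v) * g⁻¹) := by rw [hc]; group
        _ = 1 := by rw [h2, inv_mul_cancel]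
    exact CfsgLib.PushUp.fix_of_stabilizes hV hodd hzV (h z hzV hz2)
      (by rw [pow_orderOf_eq_one, one_mul, inv_one, mul_one])

/-- The reduced module over the centre of `S`. -/
theorem exists_reduced (hchar : Subgroup.centralizer (Cfsg.pCore 2 G : Set G) ≤ Cfsg.pCore 2 G)
    (S : Sylow 2 G) :
    ∃ (W C : Subgroup G) (_ : W.Normal) (_ : C.Normal),
      C = Subgroup.centralizer (W : Set G) ∧ (∀ w ∈ W, w * w = 1) ∧ W ≤ (S : Subgroup G) ∧
      Cfsg.pCore 2 G ≤ C ∧ Cfsg.pCore 2 (G ⧸ C) = ⊥ ∧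
      C ≤ Subgroup.centralizer
        (((S : Subgroup G) ⊓ Subgroup.centralizer ((S : Subgroup G) : Set G) : Subgroup G) : Set G) := by
  haveI : Fact (Nat.Prime 2) := ⟨Nat.prime_two⟩
  set Q := Cfsg.pCore 2 G with hQ
  haveI : Q.Normal := CfsgLib.Fitting.pCore_normal 2
  have hQp : IsPGroup 2 Q := CfsgLib.Fitting.pCore_isPGroup 2
  have hQS : Q ≤ (S : Subgroup G) := CfsgLib.PushUp.le_sylow_of_normal hQp S
  set Z := (S : Subgroup G) ⊓ Subgroup.centralizer ((S : Subgroup G) : Set G) with hZ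
  have hZc : Z ≤ Subgroup.centralizer (S : Set G) := inf_le_right
  have hcQ : ∀ g : G, cj g Z ≤ Subgroup.centralizer (Q : Set G) := fun g =>
    (cj_mono g (hZc.trans (centralizer_mono hQS))).trans (Cfsg.Agent.S4022.cj_normal g _).le
  have hgQ : ∀ g : G, cj g Z ≤ Q := fun g => (hcQ g).trans hchar
  set V := ⨆ g : G, cj g Z with hV
  haveI hVn : V.Normal := Subgroup.normalizer_eq_top_iff.mp (eq_top_iff.mpr fun g _ =>
    mem_normalizer_iff_cj.mpr (Subgroup.eq_of_le_of_card_ge (by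
      rw [hV, cj, Subgroup.map_iSup]
      exact iSup_le fun h => (cj_mul g h Z).ge.trans (le_iSup (fun g => cj g Z) (g * h)))
      (card_cj _ _).ge))
  have hVQ : V ≤ Q := iSup_le hgQ
  have hVQc : V ≤ Subgroup.centralizer (Q : Set G) := iSup_le hcQ
  have hVc : V ≤ Subgroup.centralizer (V : Set G) := hVQc.trans (centralizer_mono hVQ)
  set C := Subgroup.centralizer (V : Set G) with hC
  have hcore : ∀ T : Subgroup G, T.Normal → C ≤ T → IsPGroup 2 (T.map (QuotientGroup.mk' C)) →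
      T ≤ C := by
    intro T hT hCT hTp
    haveI := hT
    set P := (S : Subgroup G) ⊓ T with hP
    have hT2 : T = C ⊔ P := by
      refine le_antisymm ?_ (sup_le hCT inf_le_right)
      refine Subgroup.relIndex_eq_one.mp (Nat.eq_one_of_dvd_coprimes (a := P.relIndex T) ?_ ?_
        (Subgroup.relIndex_dvd_of_le_left T (le_sup_left : C ≤ C ⊔ P)))
      · show Nat.Coprime (P.relIndex T) (C.relIndex T)
        obtain ⟨j, hj⟩ := IsPGroup.iff_card.mp hTp
        rw [← Subgroup.relIndex_ker, QuotientGroup.ker_mk'] at hj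
        rw [hj, hP, Subgroup.inf_relIndex_right]
        exact ((Nat.prime_two.coprime_iff_not_dvd.mpr
          (CfsgLib.PushUp.not_two_dvd_relIndex S T)).symm).pow_right j
      · exact Subgroup.relIndex_dvd_of_le_left T le_sup_right
    have hPC : P ≤ C := by
      rw [hC, Subgroup.le_centralizer_iff, hV]
      refine iSup_le fun g => ?_
      obtain ⟨t, ht, m, hm, rfl⟩ := exists_frattini S T g
      have hPm : P ≤ Subgroup.centralizer (cj m Z : Set G) := by
        intro y hy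
        have hy' : m⁻¹ * y * m ∈ (S : Subgroup G) :=
          ((Subgroup.mem_normalizer_iff''.mp hm y).mp hy).1
        refine mem_centralizer_iff_conj.mpr ?_
        rintro _ ⟨z, hz, rfl⟩
        show y * (m * z * m⁻¹) * y⁻¹ = m * z * m⁻¹
        calc y * (m * z * m⁻¹) * y⁻¹ = m * ((m⁻¹ * y * m) * z * (m⁻¹ * y * m)⁻¹) * m⁻¹ := by group
          _ = _ := by rw [mem_centralizer_iff_conj.mp (Subgroup.le_centralizer_iff.mp hZc hy') z hz]
      obtain ⟨a, ha, b, hb, rfl⟩ := Subgroup.mem_sup_of_normal_left.mp (hT2.le ht)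
      have e : cj (a * b * m) Z = cj m Z := by
        have h1 : cj b (cj m Z) = cj m Z :=
          mem_normalizer_iff_cj.mp (Subgroup.centralizer_le_normalizer _ (hPm hb))
        have h2 : cj a (cj m Z) = cj m Z := mem_normalizer_iff_cj.mp
          (Subgroup.centralizer_le_normalizer _
            (centralizer_mono (le_iSup (fun g => cj g Z) m) ha))
        rw [cj_mul, cj_mul, h1, h2]
      rw [e]
      exact Subgroup.le_centralizer_iff.mp hPm
    rw [hT2]
    exact sup_le le_rfl hPC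
  set W := CfsgLib.PushUp.sqSub V hVc with hW
  have hWV : W ≤ V := fun x hx => hx.1
  haveI hWn : W.Normal := ⟨fun x hx g => ⟨hVn.conj_mem x hx.1 g, by
    rw [show g * x * g⁻¹ * (g * x * g⁻¹) = g * (x * x) * g⁻¹ by group, hx.2, mul_one, mul_inv_cancel]⟩⟩
  -- the two centralizers agree
  have hCW : Subgroup.centralizer (W : Set G) = C := by
    refine le_antisymm (hcore _ inferInstance (centralizer_mono hWV) ?_) (centralizer_mono hWV)
    rintro ⟨_, g, hg, rfl⟩
    obtain ⟨k, hk⟩ := CfsgLib.PushUp.exists_odd_pow g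
    refine ⟨k, Subtype.ext ?_⟩
    rw [SubmonoidClass.coe_pow, ← map_pow]
    refine (QuotientGroup.eq_one_iff _).mpr (fix_of_omega (hQp.to_le hVQ) hVc
      (Subgroup.le_normalizer_of_normal (Subgroup.mem_top _)) hk fun v hv hv2 => ?_)
    exact mem_centralizer_iff_conj.mp (pow_mem hg (2 ^ k)) v ⟨hv, hv2⟩
  refine ⟨W, C, hWn, inferInstance, hCW.symm, fun w hw => hw.2, hWV.trans (hVQ.trans hQS),
    Subgroup.le_centralizer_iff.mp hVQc, CfsgLib.PushUp.pCore_quotient_eq_bot hcore, ?_⟩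
  exact centralizer_mono ((Cfsg.Agent.S4270.cj_one Z).ge.trans (le_iSup (fun g => cj g Z) 1))

/-- The squares bound on a reduced module. -/
theorem bound_of_reduced (hchar : Subgroup.centralizer (Cfsg.pCore 2 G : Set G) ≤ Cfsg.pCore 2 G)
    (hfree : ¬ Cfsg.Involves (Equiv.Perm (Fin 4)) G)
    (hc : Cfsg.IsCompositionKGroupWith Cfsg.IsSuzukiOrPSL2OddPowerThree G)
    {W C : Subgroup G} [W.Normal] [C.Normal] (hC : C = Subgroup.centralizer (W : Set G))
    (he : ∀ w ∈ W, w * w = 1) (hQC : Cfsg.pCore 2 G ≤ C) (hcore : Cfsg.pCore 2 (G ⧸ C) = ⊥)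
    (A : Subgroup G) (hA : ∀ a ∈ A, a * a ∈ Subgroup.centralizer (W : Set G)) :
    cd A W ^ 2 ≤ cd W A ∧ cd A W ^ 2 ≤ Nat.card ↥⁅W, A⁆ := by
  refine offender_bound he (G := ⊤) (le_of_eq (Subgroup.normalizer_eq_top_iff.mpr inferInstance).symm)
    (π := (QuotientGroup.mk' C).comp (⊤ : Subgroup G).subtype)
    (fun q => by obtain ⟨g, rfl⟩ := QuotientGroup.mk'_surjective C q; exact ⟨⟨g, trivial⟩, rfl⟩)
    ?_ (sk_quotient hchar hfree hc C hQC) hcore A le_top hA
  rw [← MonoidHom.comap_ker, QuotientGroup.ker_mk', hC]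
  rfl

/-- The centre factorizations. -/
theorem fac_center (hchar : Subgroup.centralizer (Cfsg.pCore 2 G : Set G) ≤ Cfsg.pCore 2 G)
    (hfree : ¬ Cfsg.Involves (Equiv.Perm (Fin 4)) G)
    (hc : Cfsg.IsCompositionKGroupWith Cfsg.IsSuzukiOrPSL2OddPowerThree G) (S : Sylow 2 G) :
    Fac (Subgroup.centralizer
        (((S : Subgroup G) ⊓ Subgroup.centralizer ((S : Subgroup G) : Set G) : Subgroup G) : Set G))
      (Subgroup.normalizer (je (S : Subgroup G) : Set G)) ∧
    Fac (Subgroup.centralizer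
        (((S : Subgroup G) ⊓ Subgroup.centralizer ((S : Subgroup G) : Set G) : Subgroup G) : Set G))
      (Subgroup.normalizer (jh (S : Subgroup G) : Set G)) := by
  obtain ⟨W, C, hWn, hCn, hC, he, hWS, hQC, hcore, hCZ⟩ := exists_reduced hchar S
  have hWnorm : ∀ g : G, g ∈ Subgroup.normalizer (W : Set G) := fun g =>
    Subgroup.le_normalizer_of_normal (Subgroup.mem_top g)
  have hb := bound_of_reduced hchar hfree hc hC he hQC hcore
  have hAC : ∀ A, MaxEl (S : Subgroup G) A → A ≤ Subgroup.centralizer (W : Set G) := fun A hA => by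
    have h1 := (hb A fun a ha => by rw [hA.sq a ha]; exact one_mem _).1
    have h2 := hA.offender hWS he
    refine CfsgLib.PushUp.cd_eq_one_iff.mp ?_
    have hp := cd_pos A W
    have h3 := h1.trans h2
    rw [pow_two] at h3
    have := Nat.le_of_mul_le_mul_left (h3.trans_eq (mul_one _).symm) hp
    omega
  have hWA : ∀ A, MaxEl (S : Subgroup G) A → W ≤ A := fun A hA => by
    have hn : A ≤ Subgroup.centralizer (W : Set G) := hAC A hA
    have h1 := hA.max (A ⊔ W) (sup_le hA.le hWS) (CfsgLib.PushUp.sq_one_sup hA.sq he hn)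
    exact (le_sup_right : W ≤ A ⊔ W).trans (Subgroup.eq_of_le_of_card_ge le_sup_left h1).ge
  obtain ⟨A₀, hA₀⟩ := CfsgLib.PushUp.exists_maxEl (S : Subgroup G)
  have hUC : ∀ U ≤ (S : Subgroup G), EGrp U → je (S : Subgroup G) ≤ U →
      U ≤ Subgroup.centralizer (W : Set G) := fun U _ hE hJ => by
    refine Subgroup.le_centralizer_iff.mp (hE W (((hWA A₀ hA₀).trans (le_je hA₀)).trans hJ)
      (fun g _ => hWnorm g) he fun R _ hsq hne => ?_)
    obtain ⟨h1, h2⟩ := hb R hsq
    have hc2 : 2 ≤ cd R W := by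
      have := cd_pos R W
      have : cd R W ≠ 1 := fun e => hne (CfsgLib.PushUp.cd_eq_one_iff.mp e)
      omega
    refine ⟨?_, lt_of_lt_of_le (by nlinarith) h2⟩
    calc cd R W ^ 3 < (cd R W ^ 2) ^ 2 := by
          rw [← pow_mul]; exact Nat.pow_lt_pow_right hc2 (by norm_num)
      _ ≤ cd W R ^ 2 := Nat.pow_le_pow_left h1 2
  set T := (S : Subgroup G) ⊓ C with hT
  have hTA : ∀ A, MaxEl (S : Subgroup G) A → A ≤ T := fun A hA => le_inf hA.le (hC ▸ hAC A hA)
  have hTU : ∀ U ≤ (S : Subgroup G), EGrp U → je (S : Subgroup G) ≤ U → U ≤ T :=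
    fun U h1 h2 h3 => le_inf h1 (hC ▸ hUC U h1 h2 h3)
  have h1 : Subgroup.normalizer (T : Set G) ≤
      Subgroup.normalizer (je (S : Subgroup G) : Set G) :=
    je_eq_of_le inf_le_left hTA ▸ normalizer_le_normalizer_je T
  have h2 : Subgroup.normalizer (T : Set G) ≤
      Subgroup.normalizer (jh (S : Subgroup G) : Set G) :=
    jh_eq_of_le inf_le_left hTA hTU ▸ normalizer_le_normalizer_jh T
  exact ⟨fun g => by
      obtain ⟨c, hc', n, hn, e⟩ := exists_frattini S C g
      exact ⟨c, hCZ hc', n, h1 hn, e⟩,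
    fun g => by
      obtain ⟨c, hc', n, hn, e⟩ := exists_frattini S C g
      exact ⟨c, hCZ hc', n, h2 hn, e⟩⟩

end CfsgLib.LocalK
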