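import Cfsg.Agent.Lib.LocalK.Basic
import Cfsg.Agent.Lib.SL2.Overgroups
import Cfsg.Agent.Lib.SL2.Klein
import Cfsg.Agent.Lib.SL2.Solubilizer
import Cfsg.Agent.Lib.AutPSL.Out
import Cfsg.Agent.Lib.AutPSL.Predicates
import Cfsg.Agent.Lib.AutPSL.Twisted
import Cfsg.Agent.Lib.NumberTheory.Zsigmondy
import Cfsg.Agent.S0276

/-!
The groups `PSL(2, q)`, `q` an odd power of three.
-/

set_option autoImplicit false
set_option linter.unusedSectionVars false

namespace CfsgLib.LocalK

open Matrix CfsgLib.SL2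
open scoped MatrixGroups

theorem exists_three_prime {n : ℕ} (hn : Odd n) (h3 : 3 ≤ n) : ∃ r : ℕ, r.Prime ∧ 11 ≤ r ∧
    r ∣ 3 ^ n - 1 ∧ ∀ k : ℕ, 0 < k → k < n → ¬ r ∣ 3 ^ k - 1 := by
  obtain ⟨r, hr, hrd, hprim⟩ := NumberTheory.exists_primitive_prime (a := 3) (n := n)
    (by norm_num) (by omega) (by rintro ⟨h, -⟩; omega) (by rintro ⟨h, -⟩; omega)
  refine ⟨r, hr, ?_, hrd, hprim⟩
  haveI := Fact.mk hr
  by_contra hlt
  have hr2 : r ≠ 2 := fun e => hprim 1 one_pos (by omega) (by rw [e]; norm_num)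
  have hr3 : r ≠ 3 := by
    rintro rfl
    have h1 : 3 ∣ 3 ^ n := dvd_pow_self 3 (by omega)
    have h2 := Nat.dvd_sub h1 hrd
    rw [Nat.sub_sub_self (Nat.one_le_pow n 3 (by norm_num))] at h2
    norm_num at h2
  have hcases : r = 5 ∨ r = 7 := by
    have := hr.two_le
    rcases (show r = 4 ∨ r = 5 ∨ r = 6 ∨ r = 7 ∨ r = 8 ∨ r = 9 ∨ r = 10 by omega) with
      h | h | h | h | h | h | h
    all_goals first
      | exact Or.inl h
      | exact Or.inr h
      | exact absurd (h ▸ hr) (by norm_num)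
  have h1 : r ∣ 3 ^ Nat.gcd n (r - 1) - 1 := by
    rw [← Nat.pow_sub_one_gcd_pow_sub_one]
    refine Nat.dvd_gcd hrd ?_
    rcases hcases with rfl | rfl <;> norm_num
  have h2 : Nat.gcd n (r - 1) = n := by
    rcases (Nat.le_of_dvd (by omega) (Nat.gcd_dvd_left n (r - 1))).lt_or_eq with h | h
    · exact absurd h1 (hprim _ (Nat.gcd_pos_of_pos_left _ (by omega)) h)
    · exact h
  have h4 : n ∣ r - 1 := h2 ▸ Nat.gcd_dvd_right n (r - 1)
  rcases hcases with rfl | rfl
  · rcases (show n = 3 ∨ 5 ≤ n by rcases hn with ⟨j, rfl⟩; omega) with rfl | h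
    · norm_num at h4
    · have := Nat.le_of_dvd (by norm_num) h4; omega
  · rcases (show n = 3 ∨ n = 5 ∨ 7 ≤ n by rcases hn with ⟨j, rfl⟩; omega) with rfl | rfl | h
    · norm_num at hrd
    · norm_num at h4
    · have := Nat.le_of_dvd (by norm_num) h4; omega

theorem big_two {r : ℕ} (hr : r.Prime) (h11 : 11 ≤ r) : Big 2 r := by
  intro a ha hd
  by_contra h
  rcases (show a = 1 ∨ a = 2 ∨ a = 3 by omega) with rfl | rfl | rfl
  · norm_num at hd; have := Nat.le_of_dvd (by norm_num) hd; omega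
  · norm_num at hd
    rcases hr.dvd_mul.mp (show r ∣ 3 * 5 by norm_num; exact hd) with h | h <;>
      · have := Nat.le_of_dvd (by norm_num) h; omega
  · norm_num at hd
    rcases hr.dvd_mul.mp (show r ∣ 9 * 7 by norm_num; exact hd) with h | h <;>
      · have := Nat.le_of_dvd (by norm_num) h; omega

variable {F : Type} [Field F] [Fintype F] [CharP F 3] {n : ℕ}

local notation "PSL2" => ProjectiveSpecialLinearGroup (Fin 2) F

theorem odd_card (hF : Fintype.card F = 3 ^ n) : Odd (Nat.card F) := by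
  rw [Nat.card_eq_fintype_card, hF]; exact (by decide : Odd 3).pow

theorem pred_mod_four (hn : Odd n) : (3 ^ n - 1) / 2 % 2 = 1 := by
  have := SL2.Solubilizer.mod_eight_of_three hn
  have := Nat.one_le_pow n 3 (by norm_num)
  omega

theorem sylow_generates_psl (hn : Odd n) (h3 : 3 ≤ n) (hF : Fintype.card F = 3 ^ n) {r : ℕ}
    (hr : r.Prime) (h11 : 11 ≤ r) (hrd : r ∣ 3 ^ n - 1)
    (hprim : ∀ k : ℕ, 0 < k → k < n → ¬ r ∣ 3 ^ k - 1)
    (P : Sylow 2 PSL2) (y : PSL2) (hy : orderOf y = r) :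
    (P : Subgroup PSL2) ⊔ Subgroup.zpowers y = ⊤ := by
  haveI : Fact (Nat.Prime 3) := ⟨Nat.prime_three⟩
  by_contra hne
  set H := (P : Subgroup PSL2) ⊔ Subgroup.zpowers y with hH
  have hq8 : Fintype.card F % 8 = 3 := hF ▸ SL2.Solubilizer.mod_eight_of_three hn
  have hP4 : Nat.card (P : Subgroup PSL2) = 4 :=
    (Cfsg.Agent.S0276.result rfl (Or.inl hq8) P).card_four
  have h4 : 4 ∣ Nat.card H := hP4 ▸ Subgroup.card_dvd_of_le le_sup_left
  have hrH : r ∣ Nat.card H :=
    hy ▸ H.orderOf_dvd_natCard (Subgroup.mem_sup_right (Subgroup.mem_zpowers y))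
  have hle : 44 ≤ 4 * r := by omega
  have h4r : 4 * r ∣ Nat.card H :=
    (Nat.Coprime.mul_dvd_of_dvd_of_dvd ((Nat.Prime.coprime_iff_not_dvd hr).mpr
      (fun h => by have := Nat.le_of_dvd (by norm_num) h; omega)).symm h4 hrH)
  have hge : 44 ≤ Nat.card H := hle.trans (Nat.le_of_dvd Nat.card_pos h4r)
  rcases dickson_maximal 3 H with ⟨c, -, hc, hle⟩ | ⟨k, hk⟩ | ⟨⟨e⟩⟩ | ⟨⟨e⟩⟩ | ⟨⟨e⟩⟩ | hsub
  · have hd := Subgroup.card_dvd_of_le hle
    rw [card_normalizer_torus 3 hc] at hd
    have h4' : 2 ∣ Nat.card (torus c) :=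
      Nat.dvd_of_mul_dvd_mul_left two_pos (show 2 * 2 ∣ 2 * Nat.card (torus c) from h4.trans hd)
    have hr' : r ∣ Nat.card (torus c) :=
      (hr.dvd_mul.mp (hrH.trans hd)).resolve_left fun h => by
        have := Nat.le_of_dvd two_pos h; omega
    have hdd : dd F = 2 := dd_of_odd (odd_card hF)
    rcases card_torus_cases 3 hc with h | h <;>
      rw [hdd, Nat.card_eq_fintype_card (α := F), hF] at h <;> rw [h] at h4' hr'
    · have := pred_mod_four hn; omega
    · have h1 : r ∣ 3 ^ n + 1 := hr'.trans (Nat.div_dvd_of_dvd (by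
        have := Nat.odd_iff.mp ((by decide : Odd 3).pow (n := n)); omega))
      have h2 : r ∣ 2 := by
        have := Nat.dvd_sub h1 hrd
        have h3 : 3 ^ n + 1 - (3 ^ n - 1) = 2 := by
          have := Nat.one_le_pow n 3 (by norm_num); omega
        rwa [h3] at this
      have := Nat.le_of_dvd two_pos h2; omega
  · have hd : Nat.card H ∣ Nat.card (borelPSL F) := by
      rw [← card_map_conj H k]
      exact Subgroup.card_dvd_of_le (by rintro _ ⟨h, hh, rfl⟩; exact hk h hh)
    have h1 : 2 * 4 ∣ Nat.card F * (Nat.card F - 1) := by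
      rw [← card_borelPSL, dd_of_odd (odd_card hF)]
      exact Nat.mul_dvd_mul_left 2 (h4.trans hd)
    rw [Nat.card_eq_fintype_card, hF] at h1
    have h2 : 8 ∣ 3 ^ n - 1 := (Nat.Coprime.pow_right n
      (show Nat.Coprime 8 3 by norm_num)).dvd_of_dvd_mul_left h1
    have := SL2.Solubilizer.mod_eight_of_three hn
    omega
  · rw [Nat.card_congr e.toEquiv, Nat.card_eq_fintype_card,
      show Fintype.card (alternatingGroup (Fin 4)) = 12 from rfl] at hge
    omega
  · rw [Nat.card_congr e.toEquiv, Nat.card_perm, Nat.card_fin] at hge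
    norm_num [Nat.factorial] at hge
  · rw [Nat.card_congr e.toEquiv, Nat.card_eq_fintype_card,
      show Fintype.card (alternatingGroup (Fin 5)) = 60 from rfl] at hge
    have h5 : 4 * r ∣ 60 := by
      rwa [Nat.card_congr e.toEquiv, Nat.card_eq_fintype_card,
        show Fintype.card (alternatingGroup (Fin 5)) = 60 from rfl] at h4r
    have h6 : r ∣ 15 := Nat.dvd_of_mul_dvd_mul_left (by norm_num : 0 < 4) h5
    rcases hr.dvd_mul.mp (show r ∣ 3 * 5 from h6) with h | h <;>
      · have := Nat.le_of_dvd (by norm_num) h; omega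
  · obtain ⟨k, m, hm, hk, hkm, hcard⟩ := card_subfield_shape hne hsub
    rw [Nat.card_eq_fintype_card (α := F), hF] at hkm
    obtain ⟨d, -, rfl⟩ := (Nat.dvd_prime_pow Nat.prime_three).mp (hkm ▸ dvd_pow_self k (by omega))
    have hdn : n = d * m := Nat.pow_right_injective (le_refl 3 |>.trans' (by norm_num))
      (hkm.symm.trans (pow_mul 3 d m).symm)
    have hd0 : 0 < d := Nat.pos_of_ne_zero fun e => by rw [e, zero_mul] at hdn; omega
    have hdlt : 2 * d ≤ n := by rw [hdn, mul_comm 2]; exact Nat.mul_le_mul_left d hm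
    have hd : r ∣ 3 ^ d * ((3 ^ d - 1) * (3 ^ d + 1)) := by
      rcases hcard with h | h
      · exact h ▸ hrH.mul_left _
      · exact h ▸ hrH
    have hsq : (3 ^ d - 1) * (3 ^ d + 1) = 3 ^ (2 * d) - 1 := by
      rw [mul_comm, ← Nat.sq_sub_sq, one_pow, ← pow_mul, mul_comm d 2]
    rw [hsq] at hd
    rcases hr.dvd_mul.mp hd with h | h
    · have := Nat.le_of_dvd (by norm_num) (hr.dvd_of_dvd_pow h); omega
    · have hlt : 2 * d < n := by rcases hn with ⟨j, rfl⟩; omega
      exact hprim (2 * d) (by omega) hlt h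

theorem exists_inverted_psl (hn : Odd n) (hF : Fintype.card F = 3 ^ n) {r : ℕ} (hr : r.Prime)
    (hr2 : r ≠ 2) (hrd : r ∣ 3 ^ n - 1) (h4 : 4 ≤ Nat.card F) :
    ∃ t y : PSL2, orderOf t = 2 ∧ orderOf y = r ∧ t * y * t⁻¹ = y⁻¹ := by
  haveI : Fact (Nat.Prime 3) := ⟨Nat.prime_three⟩
  haveI := Fact.mk hr
  obtain ⟨c, hc, -, hT⟩ := exists_semi_pred (F := F) 3 h4
  rw [dd_of_odd (odd_card hF), Nat.card_eq_fintype_card (α := F), hF] at hT
  have hrT : r ∣ Nat.card (torus c) := by
    rw [hT]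
    have he : 2 ∣ 3 ^ n - 1 := by
      have := Nat.odd_iff.mp ((by decide : Odd 3).pow (n := n)); omega
    exact ((Nat.coprime_primes hr Nat.prime_two).mpr hr2).dvd_of_dvd_mul_left
      (by rwa [Nat.mul_div_cancel' he])
  obtain ⟨⟨y, hy⟩, hyo⟩ := exists_prime_orderOf_dvd_card' (G := torus c) r hrT
  rw [Subgroup.orderOf_mk] at hyo
  set N := Subgroup.normalizer (torus c : Set PSL2)
  obtain ⟨t, htN, htT⟩ : ∃ t ∈ N, t ∉ torus c := by
    by_contra! hall
    have h1 : Nat.card N ≤ Nat.card (torus c) := Subgroup.card_le_of_le hall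
    have h2 : Nat.card N = 2 * Nat.card (torus c) := card_normalizer_torus 3 hc
    have := Nat.card_pos (α := torus c)
    omega
  have ht2 := mul_self_of_normalizer_torus 3 hc htN htT
  have hty := mul_self_of_normalizer_torus 3 hc (mul_mem htN (Subgroup.le_normalizer hy))
    (fun h => htT ((mul_mem_cancel_right hy).mp h))
  refine ⟨t, y, orderOf_eq_prime (by rw [pow_two, ht2]) (fun e => htT (e ▸ one_mem _)), hyo, ?_⟩
  rw [inv_eq_of_mul_eq_one_right ht2]
  exact eq_inv_of_mul_eq_one_left (by rwa [mul_assoc (t * y) t y])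

/-- A non-square determinant involution of `PGL(2, q)`, `q ≡ 3 (mod 4)`, inverts a transvection. -/
theorem exists_three_inverted (hn : Odd n) (hF : Fintype.card F = 3 ^ n) (g : GL (Fin 2) F)
    (hg : AutPSL.delta g * AutPSL.delta g = (1 : MulAut PSL2))
    (hout : AutPSL.delta g ∉ (MulAut.conj : PSL2 →* MulAut PSL2).range) :
    ∃ x : PSL2, orderOf x = 3 ∧ AutPSL.delta g x = x⁻¹ := by
  haveI : Fact (Nat.Prime 3) := ⟨Nat.prime_three⟩
  have hq8 : Fintype.card F % 8 = 3 := hF ▸ SL2.Solubilizer.mod_eight_of_three hn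
  have hchar : ringChar F ≠ 2 := by rw [ringChar.eq F 3]; norm_num
  rw [← map_mul] at hg
  obtain ⟨c, hc⟩ := AutPSL.mem_center_of_delta_eq_one 3 le_rfl hg
  set M : Matrix (Fin 2) (Fin 2) F := (g : Matrix (Fin 2) (Fin 2) F) with hMdef
  have hMM : M * M = (c : F) • (1 : Matrix (Fin 2) (Fin 2) F) := by
    have := congrArg Units.val hc
    rw [Units.val_mul] at this
    rw [this, Matrix.smul_one_eq_diagonal]
    rfl
  have hns : ∀ lam : F, M.det ≠ lam * lam := fun lam hlam => by
    have h0 : lam ≠ 0 := fun e => by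
      rw [e, mul_zero] at hlam
      exact (Matrix.isUnit_iff_isUnit_det M |>.mp g.isUnit).ne_zero hlam
    exact hout (AutPSL.mem_range_conj_of_delta g (Units.mk0 lam h0) (Units.ext (by
      rw [GeneralLinearGroup.val_det_apply, Units.val_pow_eq_pow_val, pow_two]
      exact hlam)))
  have e00 := congrFun (congrFun hMM 0) 0
  have e01 := congrFun (congrFun hMM 0) 1
  have e10 := congrFun (congrFun hMM 1) 0
  have e11 := congrFun (congrFun hMM 1) 1
  simp [Matrix.mul_apply, Fin.sum_univ_two] at e00 e01 e10 e11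
  have ht : M 1 1 = -M 0 0 := by
    by_contra hne
    have hne' : M 0 0 + M 1 1 ≠ 0 := fun h => hne (eq_neg_of_add_eq_zero_right h)
    have hb : M 0 1 = 0 := (mul_eq_zero.mp (show M 0 1 * (M 0 0 + M 1 1) = 0 by
      linear_combination e01)).resolve_right hne'
    have he : M 1 0 = 0 := (mul_eq_zero.mp (show M 1 0 * (M 0 0 + M 1 1) = 0 by
      linear_combination e10)).resolve_right hne'
    have hd : M 0 0 = M 1 1 := sub_eq_zero.mp ((mul_eq_zero.mp
      (show (M 0 0 - M 1 1) * (M 0 0 + M 1 1) = 0 by linear_combination e00 - e11)).resolve_right hne')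
    exact hns (M 0 0) (by rw [Matrix.det_fin_two, hb, ← hd]; ring)
  have hdet : M.det = -(c : F) := by
    rw [Matrix.det_fin_two, ht]; linear_combination -e00
  obtain ⟨s, hs⟩ : IsSquare (c : F) := by
    rw [FiniteField.isSquare_iff hchar c.ne_zero]
    rcases FiniteField.pow_dichotomy hchar c.ne_zero with h | h
    · exact h
    exfalso
    have hodd : Odd (Fintype.card F / 2) := Nat.odd_iff.mpr (by omega)
    obtain ⟨lam, hlam⟩ : IsSquare (-(c : F)) := by
      rw [FiniteField.isSquare_iff hchar (neg_ne_zero.mpr c.ne_zero), hodd.neg_pow, h, neg_neg]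
    exact hns lam (hdet.trans hlam)
  set A := M + s • (1 : Matrix (Fin 2) (Fin 2) F) with hA
  set B := M - s • (1 : Matrix (Fin 2) (Fin 2) F) with hB
  have hss : s • s • (1 : Matrix (Fin 2) (Fin 2) F) = (c : F) • 1 := by rw [smul_smul, ← hs]
  have hMA : M * A = s • A := by
    rw [hA, mul_add, hMM, smul_add, hss, Matrix.mul_smul, mul_one, add_comm]
  have hBM : B * M = -(s • B) := by
    rw [hB, sub_mul, hMM, smul_sub, hss, Matrix.smul_mul, one_mul, neg_sub]
  have hBA : B * A = 0 := by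
    rw [hA, mul_add, hBM, Matrix.mul_smul, mul_one, neg_add_cancel]
  have hnsc : ∀ u : F, M ≠ u • 1 := fun u hu => hns u (by rw [hu, Matrix.det_smul]; simp [pow_two])
  obtain ⟨i, j, hij⟩ : ∃ i j, A i j ≠ 0 := by
    by_contra! hall
    exact hnsc (-s) (Matrix.ext fun a b => by
      have := hall a b
      rw [hA, Matrix.add_apply] at this
      rw [neg_smul, Matrix.neg_apply]
      exact eq_neg_of_add_eq_zero_left this)
  obtain ⟨k, l, hkl⟩ : ∃ i j, B i j ≠ 0 := by
    by_contra! hall
    exact hnsc s (Matrix.ext fun a b => by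
      have := hall a b
      rw [hB, Matrix.sub_apply] at this
      exact sub_eq_zero.mp this)
  set N := A * Matrix.single j k 1 * B with hN
  have hN0 : N ≠ 0 := fun h => by
    have h1 := congrFun (congrFun h i) l
    rw [hN, Matrix.mul_assoc, Matrix.mul_apply, Finset.sum_eq_single j (fun b _ hb => by
      rw [Matrix.mul_apply, Finset.sum_eq_zero (fun a _ => by
        simp [Matrix.single, Ne.symm hb]), mul_zero]) (fun h => absurd (Finset.mem_univ _) h),
      Matrix.mul_apply, Finset.sum_eq_single k (fun b _ hb => by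
        simp [Matrix.single, Ne.symm hb]) (fun h => absurd (Finset.mem_univ _) h),
      Matrix.single_apply_same, one_mul, Matrix.zero_apply] at h1
    exact mul_ne_zero hij hkl h1
  have hNN : N * N = 0 := by
    rw [hN, show A * Matrix.single j k 1 * B * (A * Matrix.single j k 1 * B)
      = A * Matrix.single j k 1 * (B * A) * (Matrix.single j k 1 * B) by
        simp only [Matrix.mul_assoc], hBA, mul_zero, zero_mul]
  have hanti : M * N = -(N * M) := by
    rw [hN, ← Matrix.mul_assoc, ← Matrix.mul_assoc, hMA, Matrix.mul_assoc _ B M, hBM,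
      Matrix.smul_mul, Matrix.smul_mul, Matrix.mul_neg, Matrix.mul_smul, neg_neg]
  have n00 := congrFun (congrFun hNN 0) 0
  have n01 := congrFun (congrFun hNN 0) 1
  have n10 := congrFun (congrFun hNN 1) 0
  have n11 := congrFun (congrFun hNN 1) 1
  simp [Matrix.mul_apply, Fin.sum_univ_two] at n00 n01 n10 n11
  have htr : N 1 1 = -N 0 0 := by
    by_contra hne
    have hne' : N 0 0 + N 1 1 ≠ 0 := fun h => hne (eq_neg_of_add_eq_zero_right h)
    have hb : N 0 1 = 0 := (mul_eq_zero.mp (show N 0 1 * (N 0 0 + N 1 1) = 0 by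
      linear_combination n01)).resolve_right hne'
    have he : N 1 0 = 0 := (mul_eq_zero.mp (show N 1 0 * (N 0 0 + N 1 1) = 0 by
      linear_combination n10)).resolve_right hne'
    have ha : N 0 0 = 0 := mul_self_eq_zero.mp (by rw [hb, zero_mul, add_zero] at n00; exact n00)
    have hd : N 1 1 = 0 := mul_self_eq_zero.mp (by rw [he, zero_mul, zero_add] at n11; exact n11)
    exact hne (by rw [ha, hd, neg_zero])
  have hdet1 : (1 + N).det = 1 := by
    rw [Matrix.det_fin_two]
    simp [Matrix.one_apply, htr]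
    linear_combination -n00
  let X : SpecialLinearGroup (Fin 2) F := ⟨1 + N, hdet1⟩
  have hX3 : X ^ 3 = 1 := by
    apply Subtype.ext
    show (1 + N) ^ 3 = 1
    have h3 : (3 : Matrix (Fin 2) (Fin 2) F) = 0 := by
      have : (3 : F) = 0 := by simpa using CharP.cast_eq_zero F 3
      rw [← map_ofNat (algebraMap F (Matrix (Fin 2) (Fin 2) F)), this, map_zero]
    calc (1 + N) ^ 3 = 1 + 3 * N + 3 * (N * N) + N * (N * N) := by noncomm_ring
      _ = 1 := by rw [hNN, h3, zero_mul, mul_zero, mul_zero]; simp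
  refine ⟨AutPSL.mkP X, ?_, ?_⟩
  · refine orderOf_eq_prime (by rw [← map_pow, hX3, map_one]) fun h => hN0 ?_
    have hcen : X ∈ Subgroup.center _ := (QuotientGroup.eq_one_iff X).mp h
    obtain ⟨u, -, hu⟩ := Matrix.SpecialLinearGroup.mem_center_iff.mp hcen
    have h' : ∀ a b, (Matrix.scalar (Fin 2) u) a b = (1 + N) a b := fun a b => by rw [hu]
    have a00 := h' 0 0
    have a01 := h' 0 1
    have a10 := h' 1 0
    simp at a00 a01 a10
    ext a b
    fin_cases a <;> fin_cases b
    · exact mul_self_eq_zero.mp (by rw [← a01, zero_mul, add_zero] at n00; exact n00)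
    · exact a01.symm
    · exact a10.symm
    · show N 1 1 = 0
      rw [htr, neg_eq_zero]
      exact mul_self_eq_zero.mp (by rw [← a01, zero_mul, add_zero] at n00; exact n00)
  · rw [← map_inv]
    refine congrArg AutPSL.mkP (eq_inv_of_mul_eq_one_left (Subtype.ext ?_))
    show M * (1 + N) * ((g⁻¹ : GL (Fin 2) F) : Matrix (Fin 2) (Fin 2) F) * (1 + N) = 1
    have h1 : M * (1 + N) = (1 - N) * M := by
      rw [mul_add, mul_one, hanti, sub_mul, one_mul, sub_eq_add_neg]
    rw [h1, Matrix.mul_assoc (1 - N), hMdef, Units.mul_inv, mul_one]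
    calc (1 - N) * (1 + N) = 1 - N * N := by noncomm_ring
      _ = 1 := by rw [hNN, sub_zero]

theorem good_psl (hn : Odd n) (h3 : 3 ≤ n) (hF : Fintype.card F = 3 ^ n) :
    ∃ r k : ℕ, Good PSL2 r k := by
  haveI : Fact (Nat.Prime 2) := ⟨Nat.prime_two⟩
  haveI : Fact (Nat.Prime 3) := ⟨Nat.prime_three⟩
  obtain ⟨r, hr, h11, hrd, hprim⟩ := exists_three_prime hn h3
  have h4 : 4 ≤ Nat.card F := by
    rw [Nat.card_eq_fintype_card, hF]
    exact le_trans (by norm_num) (Nat.pow_le_pow_right (by norm_num) h3)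
  have hq8 : Fintype.card F % 8 = 3 := hF ▸ SL2.Solubilizer.mod_eight_of_three hn
  obtain ⟨t, y, ht, hy, hinv⟩ := exists_inverted_psl hn hF hr (by omega) hrd h4
  have hI : ∀ {u : PSL2}, orderOf u = 2 → Invol u := fun {u} hu =>
    ⟨by have := pow_orderOf_eq_one u; rwa [hu, pow_two] at this,
      fun e => by rw [e, orderOf_one] at hu; omega⟩
  refine ⟨r, 2, ?_⟩
  exact
    { prime := hr
      five_le := by omega
      one_le := by omega
      big := big_two hr h11
      rank := fun B hB => by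
        have hBp : IsPGroup 2 B := fun b => ⟨1, Subtype.ext (by
          rw [pow_one, SubmonoidClass.coe_pow, pow_two, hB b b.2]; rfl)⟩
        obtain ⟨P, hBP⟩ := hBp.exists_le_sylow
        exact (Subgroup.card_le_of_le hBP).trans
          (Cfsg.Agent.S0276.result rfl (Or.inl hq8) P).card_four.le
      inverts := fun u hu => by
        obtain ⟨g, hg⟩ := invol_conj (odd_card hF) (hI ht) (hI hu)
        refine ⟨g * y * g⁻¹, ?_, ?_⟩
        · rw [← MulAut.conj_apply, MulEquiv.orderOf_eq, hy]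
        · rw [← hg]
          calc g * t * g⁻¹ * (g * y * g⁻¹) * (g * t * g⁻¹)⁻¹ = g * (t * y * t⁻¹) * g⁻¹ := by group
            _ = (g * y * g⁻¹)⁻¹ := by rw [hinv]; group
      exists_invol := ⟨t, ht⟩
      generates := sylow_generates_psl hn h3 hF hr h11 hrd hprim
      outer := fun α hα => by
        have hodd : Odd (Nat.card (F ≃+* F)) := by
          rw [(AutPSL.card_ringAut_isCyclic hF (by omega)).2]; exact hn
        have h1 : AutPSL.componentTwo (F := F) 3 α ^ 2 = 1 := by
          rw [← map_pow, pow_two, hα, map_one]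
        have h2 : orderOf (AutPSL.componentTwo (F := F) 3 α) = 1 := Nat.eq_one_of_dvd_coprimes
          (Nat.coprime_two_left.mpr hodd) (orderOf_dvd_of_pow_eq_one h1) (orderOf_dvd_natCard _)
        obtain ⟨g, rfl⟩ : α ∈ (AutPSL.delta : GL (Fin 2) F →* MulAut PSL2).range := by
          rw [← AutPSL.ker_componentTwo 3]; exact orderOf_eq_one_iff.mp h2
        by_cases hin : AutPSL.delta g ∈ (MulAut.conj : PSL2 →* MulAut PSL2).range
        · exact Or.inl hin
        · exact Or.inr (exists_three_inverted hn hF g hα hin) }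

end CfsgLib.LocalK
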