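import Cfsg.Agent.Lib.LocalK.Suzuki
import Cfsg.Agent.Lib.LocalK.PSL
import Cfsg.Agent.Lib.SL2.Solvable

/-!
Every simple group in the class `Sz(q)`, `PSL(2, 3^odd)` has a good prime.
-/

set_option autoImplicit false

namespace CfsgLib.LocalK

universe u

theorem exists_good {X : Type u} [Group X] [IsSimpleGroup X] (hna : ¬ IsMulCommutative X)
    (h : Cfsg.IsSuzukiOrPSL2OddPowerThree X) : ∃ r n : ℕ, Good X r n := by
  rcases h with ⟨F, hf, hfin, m, hm, hF, ⟨e⟩⟩ | ⟨F, hf, hfin, n, hF, ⟨e⟩⟩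
  · haveI := CfsgLib.Suzuki.charP_two_of_card hF
    haveI : CfsgLib.Suzuki.Param F m := ⟨hm, hF⟩
    obtain ⟨r, k, hg⟩ := good_suzuki (CfsgLib.Suzuki.lieEquiv F m)
    exact ⟨r, k, hg.of_equiv e.symm⟩
  · haveI : Fact (Nat.Prime 3) := ⟨Nat.prime_three⟩
    haveI := CfsgLib.AutPSL.charP_of_card (F := F) hF
    have hn : 1 ≤ n := by
      by_contra h0
      obtain rfl : n = 0 := by omega
      haveI : IsSimpleGroup (Matrix.ProjectiveSpecialLinearGroup (Fin 2) F) :=
        e.symm.isSimpleGroup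
      have hsol : Group.IsSolvable (Matrix.ProjectiveSpecialLinearGroup (Fin 2) F) :=
        Cfsg.Agent.S0144.result 2 3 2 1 Nat.prime_two Nat.prime_three (by
          have hc := CfsgLib.SL2.card_PSL (F := F)
          rw [Nat.card_eq_fintype_card (α := F), hF] at hc
          norm_num at hc
          omega)
      exact hna ⟨⟨fun a b => e.injective (by
        rw [map_mul, map_mul]
        exact IsSimpleGroup.comm_iff_isSolvable.mpr hsol _ _)⟩⟩
    obtain ⟨r, k, hg⟩ := good_psl (F := F) (n := 2 * n + 1) ⟨n, rfl⟩ (by omega) hF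
    exact ⟨r, k, hg.of_equiv e.symm⟩

end CfsgLib.LocalK
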