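import Cfsg.Agent.Lib.LocalK.Induct
import Cfsg.Prelude.Def_ConjugacyFunctors

/-!
The two functors of the triple factorization.
-/

set_option autoImplicit false
set_option linter.style.haveILetI false

namespace CfsgLib.LocalK

open CfsgLib.PushUp (mem_centralizer_iff_conj MaxEl cd cd_pos)
open Cfsg.Agent.S4022 (cj)

universe u

local notation "KG" => Cfsg.IsCompositionKGroupWith Cfsg.IsSuzukiOrPSL2OddPowerThree

variable {G : Type u} [Group G]

theorem map_top_subtype (P : Subgroup G) : (⊤ : Subgroup P).map P.subtype = P := by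
  rw [← MonoidHom.range_eq_map, Subgroup.range_subtype]

theorem normalizer_jh_le_normalizer_yy (T : Subgroup G) :
    Subgroup.normalizer (jh T : Set G) ≤ Subgroup.normalizer (yy T : Set G) := fun g hg => by
  have key : ∀ g ∈ Subgroup.normalizer (jh T : Set G), ∀ x ∈ yy T, g * x * g⁻¹ ∈ yy T := by
    intro g hg x hx
    have hle : yy T ≤ (yy T).comap (MulAut.conj g).toMonoidHom := by
      refine (Subgroup.closure_le _).mpr fun y hy => Subgroup.subset_closure ⟨⟨?_, ?_⟩, ?_⟩
      · exact (Subgroup.mem_normalizer_iff.mp hg y).mp hy.1.1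
      · refine mem_centralizer_iff_conj.mpr fun j hj => ?_
        have h1 : g⁻¹ * j * g ∈ jh T := (Subgroup.mem_normalizer_iff''.mp hg j).mp hj
        have h2 := mem_centralizer_iff_conj.mp hy.1.2 _ h1
        calc g * y * g⁻¹ * j * (g * y * g⁻¹)⁻¹ = g * (y * (g⁻¹ * j * g) * y⁻¹) * g⁻¹ := by group
          _ = j := by rw [h2]; group
      · show (g * y * g⁻¹) ^ 2 = 1
        rw [conj_pow, hy.2, mul_one, mul_inv_cancel]
    exact hle hx
  refine Subgroup.mem_normalizer_iff.mpr fun x => ⟨key g hg x, fun hx => ?_⟩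
  have := key g⁻¹ (inv_mem hg) _ hx
  rwa [show g⁻¹ * (g * x * g⁻¹) * g⁻¹⁻¹ = x by group] at this

/-- The first functor. -/
def wJe (Q : Type u) [Group Q] : Subgroup Q := je (⊤ : Subgroup Q)

/-- The second functor. -/
def wY (Q : Type u) [Group Q] : Subgroup Q := yy (⊤ : Subgroup Q)

theorem induced_wJe (P : Subgroup G) : Cfsg.inducedFunctor (G := G) wJe P = je P := by
  show (je (⊤ : Subgroup P)).map P.subtype = je P
  rw [map_je P.subtype P.subtype_injective, map_top_subtype]

theorem induced_wY (P : Subgroup G) : Cfsg.inducedFunctor (G := G) wY P = yy P := by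
  show (yy (⊤ : Subgroup P)).map P.subtype = yy P
  rw [map_yy P.subtype P.subtype_injective, map_top_subtype]

variable [Finite G]

theorem egrp_je (S : Subgroup G) : EGrp (je S) := fun V hV hn he hp => by
  refine Subgroup.le_centralizer_iff.mp ((je_le_iff (S := S)).mpr fun A hA => ?_)
  by_contra hne
  have h1 := (hp A (le_je hA) (fun a ha => by rw [hA.sq a ha]; exact one_mem _) hne).1
  have h2 := h1.trans_le (Nat.pow_le_pow_left (hA.offender (hV.trans (je_le S)) he) 2)
  exact absurd h2 (not_lt.mpr (Nat.pow_le_pow_right (cd_pos A V) (by norm_num)))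

theorem je_le_jh (S : Subgroup G) : je S ≤ jh S := le_sSup ⟨je_le S, egrp_je S, le_rfl⟩

theorem omega_center_le (S : Subgroup G) :
    Cfsg.omegaOne 2 (S ⊓ Subgroup.centralizer (S : Set G)) ≤ je S ⊓ yy S := by
  refine (Subgroup.closure_le _).mpr fun z hz => ?_
  obtain ⟨⟨hzS, hzC⟩, hz2⟩ := hz
  rw [pow_two] at hz2
  obtain ⟨A, hA⟩ := CfsgLib.PushUp.exists_maxEl S
  have hzsq : ∀ y ∈ Subgroup.zpowers z, y * y = 1 := by
    rintro y ⟨i, rfl⟩
    rw [← zpow_add, ← two_mul, zpow_mul, zpow_two, hz2, one_zpow]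
  have hAz : A ≤ Subgroup.centralizer (Subgroup.zpowers z : Set G) :=
    Subgroup.le_centralizer_iff.mp ((Subgroup.zpowers_le).mpr (Subgroup.centralizer_le hA.le hzC))
  have h1 := hA.max (A ⊔ Subgroup.zpowers z) (sup_le hA.le (Subgroup.zpowers_le.mpr hzS))
    (CfsgLib.PushUp.sq_one_sup hA.sq hzsq hAz)
  have hzA : z ∈ A := (Subgroup.eq_of_le_of_card_ge le_sup_left h1).ge
    (Subgroup.mem_sup_right (Subgroup.mem_zpowers z))
  exact ⟨le_je hA hzA, Subgroup.subset_closure ⟨⟨je_le_jh S (le_je hA hzA),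
    Subgroup.centralizer_le (jh_le S) hzC⟩, (pow_two z).trans hz2⟩⟩

theorem functor_ne_bot {Q : Type u} [Group Q] [Finite Q] (hQ : IsPGroup 2 Q) [Nontrivial Q] :
    wJe Q ≠ ⊥ ∧ wY Q ≠ ⊥ := by
  haveI : Fact (Nat.Prime 2) := ⟨Nat.prime_two⟩
  haveI := hQ.center_nontrivial
  obtain ⟨n, hn⟩ := IsPGroup.iff_card.mp (hQ.to_subgroup (Subgroup.center Q))
  have hdvd : 2 ∣ Nat.card (Subgroup.center Q) := by
    rw [hn]
    refine dvd_pow_self 2 fun h0 => ?_
    rw [h0, pow_zero] at hn
    exact absurd hn (Finite.one_lt_card).ne'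
  obtain ⟨z, hz⟩ := exists_prime_orderOf_dvd_card' 2 hdvd
  have hmem : (z : Q) ∈ Cfsg.omegaOne 2
      ((⊤ : Subgroup Q) ⊓ Subgroup.centralizer ((⊤ : Subgroup Q) : Set Q)) :=
    Subgroup.subset_closure ⟨⟨Subgroup.mem_top _, Subgroup.mem_centralizer_iff.mpr fun g _ =>
      Subgroup.mem_center_iff.mp z.2 g⟩, by
        have := pow_orderOf_eq_one z
        rw [hz] at this
        exact congrArg Subtype.val this⟩
  have hz1 : (z : Q) ≠ 1 := fun h => by
    rw [show z = 1 from Subtype.ext h, orderOf_one] at hz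
    norm_num at hz
  exact ⟨fun h => hz1 (Subgroup.mem_bot.mp (h.le (omega_center_le _ hmem).1)),
    fun h => hz1 (Subgroup.mem_bot.mp (h.le (omega_center_le _ hmem).2))⟩

theorem isCharPFunctor_wJe : Cfsg.IsCharPFunctor.{u} 2 wJe :=
  ⟨fun _ _ _ hQ _ => (functor_ne_bot hQ).1, fun Q R _ _ _ _ φ => by
    show (je (⊤ : Subgroup Q)).map φ.toMonoidHom = je ⊤
    rw [map_je φ.toMonoidHom φ.injective, Subgroup.map_top_of_surjective φ.toMonoidHom φ.surjective]⟩

theorem isCharPFunctor_wY : Cfsg.IsCharPFunctor.{u} 2 wY :=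
  ⟨fun _ _ _ hQ _ => (functor_ne_bot hQ).2, fun Q R _ _ _ _ φ => by
    show (yy (⊤ : Subgroup Q)).map φ.toMonoidHom = yy ⊤
    rw [map_yy φ.toMonoidHom φ.injective, Subgroup.map_top_of_surjective φ.toMonoidHom φ.surjective]⟩

/-- The three factorizations for the two functors. -/
theorem triple (hchar : Subgroup.centralizer (Cfsg.pCore 2 G : Set G) ≤ Cfsg.pCore 2 G)
    (hfree : ¬ Cfsg.Involves (Equiv.Perm (Fin 4)) G) (hc : KG G) (T : Sylow 2 G) :
    Fac (Subgroup.centralizer (Cfsg.omegaOne 2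
        ((T : Subgroup G) ⊓ Subgroup.centralizer ((T : Subgroup G) : Set G)) : Set G))
      (Subgroup.normalizer (Cfsg.inducedFunctor (G := G) wJe (T : Subgroup G) : Set G)) ∧
    Fac (Subgroup.centralizer (Cfsg.omegaOne 2
        ((T : Subgroup G) ⊓ Subgroup.centralizer ((T : Subgroup G) : Set G)) : Set G))
      (Subgroup.normalizer (Cfsg.inducedFunctor (G := G) wY (T : Subgroup G) : Set G)) ∧
    Fac (Subgroup.normalizer (Cfsg.inducedFunctor (G := G) wJe (T : Subgroup G) : Set G))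
      (Subgroup.normalizer (Cfsg.inducedFunctor (G := G) wY (T : Subgroup G) : Set G)) := by
  have h1 := fac_center hchar hfree hc T
  have hle : Cfsg.omegaOne 2 ((T : Subgroup G) ⊓ Subgroup.centralizer ((T : Subgroup G) : Set G))
      ≤ (T : Subgroup G) ⊓ Subgroup.centralizer ((T : Subgroup G) : Set G) :=
    (Subgroup.closure_le _).mpr fun _ hx => hx.1
  rw [induced_wJe, induced_wY]
  refine ⟨h1.1.mono (Subgroup.centralizer_le hle) le_rfl,
    h1.2.mono (Subgroup.centralizer_le hle) (normalizer_jh_le_normalizer_yy _), fun g => ?_⟩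
  obtain ⟨c, hc', n, hn, e⟩ := fac_omega hchar hfree hc T g⁻¹
  exact ⟨n⁻¹, inv_mem hn, c⁻¹, inv_mem (Subgroup.centralizer_le_normalizer _ hc'),
    by rw [← mul_inv_rev, ← e, inv_inv]⟩

end CfsgLib.LocalK
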