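import Cfsg.Agent.Lib.LocalK.OddCore

/-!
The subgroup generated by the largest elementary abelian subgroups fixes every conjugate of `V`.
-/

set_option autoImplicit false
set_option linter.style.haveILetI false

namespace CfsgLib.LocalK

open scoped Pointwise
open CfsgLib.PushUp (mem_centralizer_iff_conj conj_fix_iff MaxEl)
open Cfsg.Agent.S4022 (cj cj_mul cj_mono card_cj)

universe u

local notation "KG" => Cfsg.IsCompositionKGroupWith Cfsg.IsSuzukiOrPSL2OddPowerThree

variable {G : Type u} [Group G] [Finite G]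

/-- The `2`-part of the kernel of a map onto a group with trivial `2`-core. -/
theorem pCore_quotient_normalCore {S : Sylow 2 G} {V : Subgroup G} (h : Setting S V) {F : Subgroup G}
    [F.Normal] (hF : F = (Subgroup.normalizer (V : Set G)).normalCore) :
    Cfsg.pCore 2 (G ⧸ F) = ⊥ := by
  haveI : Fact (Nat.Prime 2) := ⟨Nat.prime_two⟩
  refine CfsgLib.PushUp.pCore_quotient_eq_bot fun T hT hFT hTp => ?_
  haveI := hT
  set P := (S : Subgroup G) ⊓ T with hP
  have hT2 : T = F ⊔ P := by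
    refine le_antisymm ?_ (sup_le hFT inf_le_right)
    refine Subgroup.relIndex_eq_one.mp (Nat.eq_one_of_dvd_coprimes (a := P.relIndex T) ?_ ?_
      (Subgroup.relIndex_dvd_of_le_left T (le_sup_left : F ≤ F ⊔ P)))
    · show Nat.Coprime (P.relIndex T) (F.relIndex T)
      obtain ⟨j, hj⟩ := IsPGroup.iff_card.mp hTp
      rw [← Subgroup.relIndex_ker, QuotientGroup.ker_mk'] at hj
      rw [hj, hP, Subgroup.inf_relIndex_right]
      exact ((Nat.prime_two.coprime_iff_not_dvd.mpr
        (CfsgLib.PushUp.not_two_dvd_relIndex S T)).symm).pow_right j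
    · exact Subgroup.relIndex_dvd_of_le_left T le_sup_right
  rw [hT2]
  refine sup_le le_rfl ?_
  rw [hF]
  refine le_normalCore_of_forall fun g => ?_
  obtain ⟨t, ht, n, hn, rfl⟩ := exists_frattini S T g
  obtain ⟨f, hf, p, hp, rfl⟩ := Subgroup.mem_sup_of_normal_left.mp (hT2.le ht)
  have hPn : P ≤ Subgroup.normalizer (cj n V : Set G) :=
    (mem_normalizer_iff_cj.mp hn).ge.trans (le_normalizer_cj ((inf_le_left : P ≤ _).trans h.norm))
  have e : cj (f * p * n) V = cj n V := by
    rw [cj_mul, cj_mul, mem_normalizer_iff_cj.mp (hPn hp),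
      mem_normalizer_iff_cj.mp (normalCore_le_normalizer_cj V n (hF.le hf))]
  rw [e]
  exact hPn

/-- The preimage of the normalizer of a Sylow intersection is proper and keeps the hypothesis. -/
theorem exists_proper_supplement {S : Sylow 2 G} {F M : Subgroup G} [F.Normal] [M.Normal]
    (hc : KG G) (hcore : Cfsg.pCore 2 (G ⧸ F) = ⊥) (hFM : F ≤ M)
    (hne : ¬ (S : Subgroup G) ⊓ M ≤ F) :
    ∃ H : Subgroup G, H ≠ ⊤ ∧ (S : Subgroup G) ≤ H ∧ KG H ∧
      ∀ g : G, ∃ m ∈ M, ∃ h ∈ H, g = m * h := by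
  haveI : Fact (Nat.Prime 2) := ⟨Nat.prime_two⟩
  set π := QuotientGroup.mk' F with hπ
  have hπ1 : ∀ {g : G}, π g = 1 ↔ g ∈ F := fun {g} => QuotientGroup.eq_one_iff g
  set P := (S : Subgroup G) ⊓ M with hP
  set R := P.map π with hR
  set H := (Subgroup.normalizer (R : Set (G ⧸ F))).comap π with hH
  have hNP : Subgroup.normalizer (P : Set G) ≤ H := fun g hg =>
    Subgroup.le_normalizer_map π ⟨g, hg, rfl⟩
  have hGMH : ∀ g : G, ∃ m ∈ M, ∃ h ∈ H, g = m * h := fun g => by
    obtain ⟨m, hm, n, hn, e⟩ := exists_frattini S M g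
    exact ⟨m, hm, n, hNP hn, e⟩
  have hFH : F ≤ H := fun f hf => by
    rw [hH, Subgroup.mem_comap, hπ1.mpr hf]; exact one_mem _
  refine ⟨H, fun htop => hne ?_, fun s hs => hNP ?_, ?_, hGMH⟩
  · have hRn : R.Normal := Subgroup.normalizer_eq_top_iff.mp (eq_top_iff.mpr fun q _ => by
      obtain ⟨g, rfl⟩ := QuotientGroup.mk'_surjective F q
      exact htop.ge (Subgroup.mem_top g))
    have h1 : R ≤ Cfsg.pCore 2 (G ⧸ F) :=
      CfsgLib.Fitting.le_pCore hRn ((S.2.to_le inf_le_left).map π)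
    rw [hcore] at h1
    exact fun x hx => hπ1.mp (Subgroup.mem_bot.mp (h1 (Subgroup.mem_map_of_mem π hx)))
  · exact mem_normalizer_inf (Subgroup.le_normalizer hs)
      (Subgroup.le_normalizer_of_normal (Subgroup.mem_top s))
  · let f : H →* G ⧸ M := (QuotientGroup.mk' M).comp H.subtype
    refine kgroup_of_extension f ?_
      (kgroup_of_surjective (QuotientGroup.mk' M) (QuotientGroup.mk'_surjective M) hc) fun q => ?_
    swap
    · obtain ⟨g, rfl⟩ := QuotientGroup.mk'_surjective M q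
      obtain ⟨m, hm, n, hn, rfl⟩ := hGMH g
      refine ⟨⟨n, hn⟩, ?_⟩
      show QuotientGroup.mk' M n = QuotientGroup.mk' M (m * n)
      rw [map_mul, show QuotientGroup.mk' M m = 1 from (QuotientGroup.eq_one_iff m).mpr hm, one_mul]
    set L := M ⊓ H with hL
    have hKL : KG L := by
      let g : L →* L.map π := π.subgroupMap L
      refine kgroup_of_extension g ?_ ?_ (π.subgroupMap_surjective L)
      · refine kgroup_of_surjective
          (((Subgroup.subgroupOfEquivOfLe (le_inf hFM hFH)).symm : F ≃* F.subgroupOf L).toMonoidHom)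
          (MulEquiv.surjective _) (kgroup_of_subnormal (Subgroup.Normal.isSubnormal inferInstance) hc)
          |> fun hk => ?_
        have e : g.ker = F.subgroupOf L := by
          ext x
          rw [MonoidHom.mem_ker, Subgroup.mem_subgroupOf, ← hπ1]
          exact ⟨fun hx => congrArg Subtype.val hx, fun hx => Subtype.ext hx⟩
        exact kgroup_of_surjective (MulEquiv.subgroupCongr e).symm.toMonoidHom
          (MulEquiv.surjective _) hk
      · have hRL : R ≤ L.map π := Subgroup.map_mono (le_inf inf_le_right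
          (Subgroup.le_normalizer.trans hNP))
        haveI : (R.subgroupOf (L.map π)).Normal := Subgroup.normal_subgroupOf_of_le_normalizer (by
          rintro _ ⟨x, hx, rfl⟩; exact hx.2)
        haveI : Group.IsSolvable (L.map π) := isSolvable_of_normal_sylow (R.subgroupOf (L.map π))
          (((S.2.to_le inf_le_left).map π).comap_of_injective _ (Subgroup.subtype_injective _))
          (fun hd => by
            have h1 : (R.subgroupOf (L.map π)).index = (R.comap π).relIndex L :=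
              (Subgroup.relIndex_comap R π L).symm
            have h2 : (R.comap π).relIndex L ∣ P.relIndex L :=
              Subgroup.relIndex_dvd_of_le_left L (Subgroup.le_comap_map π P)
            have h3 : P.relIndex L ∣ (S : Subgroup G).relIndex M := by
              rw [← Subgroup.inf_relIndex_right (S : Subgroup G) M]
              exact Dvd.intro _ (Subgroup.relIndex_mul_relIndex P L M
                (le_inf inf_le_right (Subgroup.le_normalizer.trans hNP)) inf_le_left)
            exact CfsgLib.PushUp.not_two_dvd_relIndex S M ((h1 ▸ hd).trans (h2.trans h3)))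
        exact kgroup_of_isSolvable
    have e : f.ker = L.subgroupOf H := by
      ext x
      rw [MonoidHom.mem_ker, Subgroup.mem_subgroupOf, hL]
      show QuotientGroup.mk' M (x : G) = 1 ↔ _
      exact ⟨fun hx => ⟨(QuotientGroup.eq_one_iff _).mp hx, x.2⟩,
        fun hx => (QuotientGroup.eq_one_iff _).mpr hx.1⟩
    exact kgroup_of_surjective
      (((Subgroup.subgroupOfEquivOfLe (inf_le_right : L ≤ H)).symm).trans
        (MulEquiv.subgroupCongr e).symm).toMonoidHom (MulEquiv.surjective _) hKL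

theorem je_fix {S : Sylow 2 G} {V : Subgroup G} (h : Setting S V)
    (hcomm : ∀ a b : G, cj a V ≤ Subgroup.centralizer (cj b V : Set G))
    (hQ : V ≤ Cfsg.pCore 2 G)
    (hchar : Subgroup.centralizer (Cfsg.pCore 2 G : Set G) ≤ Cfsg.pCore 2 G)
    (hfree : ¬ Cfsg.Involves (Equiv.Perm (Fin 4)) G) (hc : KG G)
    (hind : ∀ H : Subgroup G, H ≠ ⊤ → (S : Subgroup G) ≤ H → KG H → ∀ x ∈ H,
      ∃ c ∈ Subgroup.centralizer (V : Set G),
        ∃ n ∈ Subgroup.normalizer (je (S : Subgroup G) : Set G), x = c * n)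
    {A₀ : Subgroup G} (hA₀ : MaxEl (S : Subgroup G) A₀) :
    A₀ ≤ (Subgroup.normalizer (V : Set G)).normalCore := by
  by_contra hA₀F
  haveI : Fact (Nat.Prime 2) := ⟨Nat.prime_two⟩
  haveI := CfsgLib.Fitting.pCore_normal (G := G) 2
  set F := (Subgroup.normalizer (V : Set G)).normalCore with hF
  set π := QuotientGroup.mk' F with hπ
  have hπ1 : ∀ {g : G}, π g = 1 ↔ g ∈ F := fun {g} => QuotientGroup.eq_one_iff g
  have hQF : Cfsg.pCore 2 G ≤ F := by
    refine le_normalCore_of_forall fun g => (Cfsg.Agent.S4022.cj_normal g _).ge.trans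
      (le_normalizer_cj ?_)
    exact (CfsgLib.PushUp.le_sylow_of_normal (CfsgLib.Fitting.pCore_isPGroup 2) S).trans h.norm
  have hSK : SK (G ⧸ F) := sk_quotient hchar hfree hc F hQF
  have hcore : Cfsg.pCore 2 (G ⧸ F) = ⊥ := pCore_quotient_normalCore h hF
  -- the points fixed by all largest elementary abelian subgroups
  let fx : G → Prop := fun g => je (S : Subgroup G) ≤ Subgroup.normalizer (cj g V : Set G)
  suffices hall : ∀ g, fx g by
    exact hA₀F (le_normalCore_of_forall fun g => (le_je hA₀).trans (hall g))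
  have hfx1 : fx 1 := by
    show _ ≤ Subgroup.normalizer (cj 1 V : Set G)
    rw [Cfsg.Agent.S4270.cj_one]
    exact (je_le _).trans h.norm
  have hmove : ∀ {n : G}, n ∈ Subgroup.normalizer (je (S : Subgroup G) : Set G) → ∀ {g : G}, fx g →
      fx (n * g) := fun {n} hn {g} hg => by
    show _ ≤ Subgroup.normalizer (cj (n * g) V : Set G)
    rw [cj_mul]
    exact (mem_normalizer_iff_cj.mp hn).ge.trans (le_normalizer_cj hg)
  have hH : ∀ H : Subgroup G, H ≠ ⊤ → (S : Subgroup G) ≤ H → KG H → ∀ x ∈ H,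
      ∃ n ∈ Subgroup.normalizer (je (S : Subgroup G) : Set G), cj x V = cj n V := by
    intro H h1 h2 h3 x hx
    obtain ⟨c, hc', n, hn, e⟩ := hind H h1 h2 h3 x⁻¹ (inv_mem hx)
    refine ⟨n⁻¹, inv_mem hn, ?_⟩
    rw [← inv_inv x, e, mul_inv_rev, cj_mul,
      mem_normalizer_iff_cj.mp (Subgroup.centralizer_le_normalizer _ (inv_mem hc'))]
  have hext : ∀ M : Subgroup G, M.Normal → F ≤ M → ¬ (S : Subgroup G) ⊓ M ≤ F → (∀ m ∈ M, fx m) →
      ∀ g, fx g := by
    intro M hM hFM hne hfix g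
    haveI := hM
    obtain ⟨H, h1, h2, h3, hGMH⟩ := exists_proper_supplement hc hcore hFM hne
    obtain ⟨m, hm, x, hx, rfl⟩ := hGMH g
    obtain ⟨n, hn, e⟩ := hH H h1 h2 h3 x hx
    show _ ≤ Subgroup.normalizer (cj (m * x) V : Set G)
    rw [cj_mul, e, ← cj_mul, show m * n = n * (n⁻¹ * m * n) by group]
    refine hmove hn (hfix _ ?_)
    have := hM.conj_mem m hm n⁻¹
    rwa [inv_inv] at this
  -- the odd core
  set O := Cfsg.pPrimeCore 2 (G ⧸ F) with hOdef
  haveI : O.Normal := CfsgLib.Transfer.pPrimeCore_normal 2 (G ⧸ F)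
  have hOodd : Odd (Nat.card O) :=
    Nat.coprime_two_right.mp (CfsgLib.Transfer.pPrimeCore_coprime (G := G ⧸ F) 2)
  have hOfix : ∀ o : G, π o ∈ O → fx o := fun o ho => by
    show _ ≤ _
    rw [je_le_iff]
    intro A hA
    have h1 := odd_le_stabFix h hcomm hQ hA hF hSK.free O hOodd ho 1
    rw [mul_one] at h1
    exact h1.mpr ((le_je hA).trans hfx1)
  set ρ := (QuotientGroup.mk' O).comp π with hρ
  have hρs : Function.Surjective ρ :=
    (QuotientGroup.mk'_surjective O).comp (QuotientGroup.mk'_surjective F)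
  have hρ1 : ∀ {g : G}, ρ g = 1 ↔ π g ∈ O := fun {g} => QuotientGroup.eq_one_iff (π g)
  have hFρ : ∀ {N : Subgroup ((G ⧸ F) ⧸ O)}, F ≤ N.comap ρ := fun {N} f hf => by
    rw [Subgroup.mem_comap, hρ1.mpr (by rw [hπ1.mpr hf]; exact one_mem _)]; exact one_mem _
  have hAρ : ∀ A, MaxEl (S : Subgroup G) A → ∀ a ∈ A, ρ a = 1 → a ∈ F := fun A hA a ha hρa => by
    refine hπ1.mp (orderOf_eq_one_iff.mp (Nat.eq_one_of_dvd_coprimes
      (Nat.coprime_two_left.mpr hOodd) (orderOf_dvd_of_pow_eq_one ?_)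
      (O.orderOf_dvd_natCard (hρ1.mp hρa))))
    rw [pow_two, ← map_mul, hA.sq a ha, map_one]
  -- elements acting like a product
  have hprod : ∀ o v : G, π o ∈ O → v ∈ Subgroup.normalizer (V : Set G) → fx (o * v) := fun o v ho hv => by
    show _ ≤ Subgroup.normalizer (cj (o * v) V : Set G)
    rw [cj_mul, mem_normalizer_iff_cj.mp hv]
    exact hOfix o ho
  by_cases hTp : Cfsg.pCore 2 ((G ⧸ F) ⧸ O) = ⊥
  swap
  · set N := Cfsg.pCore 2 ((G ⧸ F) ⧸ O) with hN
    haveI : N.Normal := CfsgLib.Fitting.pCore_normal 2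
    set M := N.comap ρ with hM
    have hMP : ∀ m ∈ M, ∃ s ∈ (S : Subgroup G) ⊓ M, ρ s = ρ m := by
      have hle : ((S : Subgroup G) ⊓ M).map ρ ≤ N := by
        rintro _ ⟨s, hs, rfl⟩; exact hs.2
      have heq : ((S : Subgroup G) ⊓ M).map ρ = N := by
        refine le_antisymm hle (Subgroup.relIndex_eq_one.mp ?_)
        obtain ⟨j, hj⟩ := IsPGroup.iff_card.mp
          (CfsgLib.Fitting.pCore_isPGroup (G := (G ⧸ F) ⧸ O) 2)
        have h1 : (((S : Subgroup G) ⊓ M).map ρ).relIndex N ∣ 2 ^ j := by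
          rw [← hj]; exact Subgroup.relIndex_dvd_card _ _
        obtain ⟨i, -, hi⟩ := (Nat.dvd_prime_pow Nat.prime_two).mp h1
        rcases i with _ | i
        · rw [hi, pow_zero]
        exfalso
        have h2 : (((S : Subgroup G) ⊓ M).map ρ).relIndex (M.map ρ)
            ∣ (S : Subgroup G).relIndex M := by
          rw [← Subgroup.relIndex_comap, ← Subgroup.inf_relIndex_right (S : Subgroup G) M]
          exact Subgroup.relIndex_dvd_of_le_left M (Subgroup.le_comap_map ρ _)
        rw [hM, Subgroup.map_comap_eq_self_of_surjective hρs, hi] at h2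
        exact CfsgLib.PushUp.not_two_dvd_relIndex S M ((dvd_pow_self 2 i.succ_ne_zero).trans h2)
      intro m hm
      exact heq.ge hm
    refine hext M inferInstance hFρ (fun hle => hTp ?_) fun m hm => ?_
    · refine eq_bot_iff.mpr fun q hq => ?_
      obtain ⟨m, rfl⟩ := hρs q
      obtain ⟨s, hs, e⟩ := hMP m hq
      rw [Subgroup.mem_bot, ← e, hρ1, hπ1.mpr (hle hs)]
      exact one_mem _
    · obtain ⟨s, hs, e⟩ := hMP m hm
      rw [show m = (m * s⁻¹) * s by group]
      refine hprod _ _ (hρ1.mp ?_) (h.norm hs.1)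
      rw [map_mul, map_inv, e, mul_inv_cancel]
  -- a minimal normal subgroup of the quotient by the odd core
  have hA₀ρ : ∃ a ∈ A₀, ρ a ≠ 1 := by
    by_contra! hall'
    exact hA₀F fun a ha => hAρ A₀ hA₀ a ha (hall' a ha)
  haveI : Nontrivial ((G ⧸ F) ⧸ O) := by
    obtain ⟨a, -, ha⟩ := hA₀ρ
    exact nontrivial_of_ne _ _ ha
  obtain ⟨N, hN, hN0, hmin⟩ : ∃ N : Subgroup ((G ⧸ F) ⧸ O), N.Normal ∧ N ≠ ⊥ ∧
      ∀ K : Subgroup _, K.Normal → K ≠ ⊥ → K ≤ N → K = N := by
    obtain ⟨N, hN⟩ := (Set.toFinite {N : Subgroup ((G ⧸ F) ⧸ O) | N.Normal ∧ N ≠ ⊥}).exists_minimal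
      ⟨⊤, inferInstance, top_ne_bot⟩
    exact ⟨N, hN.prop.1, hN.prop.2, fun M h1 h2 h3 => le_antisymm h3 (hN.le_of_le ⟨h1, h2⟩ h3)⟩
  haveI := hN
  set M := N.comap ρ with hMdef
  have hρM : M.map ρ = N := Subgroup.map_comap_eq_self_of_surjective hρs N
  -- `N` is not of odd order
  have hNeven : 2 ∣ Nat.card N := by
    by_contra hnd
    have hodd : Odd (Nat.card N) := Nat.odd_iff.mpr (by omega)
    set N₁ := N.comap (QuotientGroup.mk' O) with hN₁
    have hN₁le : N₁ ≤ O := by
      refine le_sSup ⟨(inferInstance : N₁.Normal), ?_⟩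
      have hle : O ≤ N₁ := fun o ho => by
        rw [hN₁, Subgroup.mem_comap, show QuotientGroup.mk' O o = 1 from
          (QuotientGroup.eq_one_iff o).mpr ho]
        exact one_mem _
      have h1 := Subgroup.relIndex_mul_relIndex ⊥ O N₁ bot_le hle
      rw [Subgroup.relIndex_bot_left, Subgroup.relIndex_bot_left] at h1
      have h2 : O.relIndex N₁ = Nat.card N := by
        conv_lhs => rw [← QuotientGroup.ker_mk' O]
        rw [Subgroup.relIndex_ker, hN₁,
          Subgroup.map_comap_eq_self_of_surjective (QuotientGroup.mk'_surjective O)]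
      rw [← h1, h2]
      exact Nat.coprime_two_right.mpr (hOodd.mul hodd)
    refine hN0 (eq_bot_iff.mpr fun q hq => ?_)
    obtain ⟨x, rfl⟩ := QuotientGroup.mk'_surjective O q
    exact Subgroup.mem_bot.mpr ((QuotientGroup.eq_one_iff x).mpr (hN₁le hq))
  have hna : ¬ IsMulCommutative N := fun hcm => by
    let P : Sylow 2 N := default
    haveI : (P : Subgroup N).Normal := by
      letI : CommGroup N := { (inferInstance : Group N) with mul_comm := hcm.is_comm.comm }
      exact Subgroup.normal_of_comm _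
    haveI := Sylow.characteristic_of_normal P inferInstance
    have hP : (P : Subgroup N).map N.subtype ≤ Cfsg.pCore 2 ((G ⧸ F) ⧸ O) :=
      CfsgLib.Fitting.le_pCore (CfsgLib.PSolvable.normal_map_of_characteristic N _) (P.2.map _)
    rw [hTp, le_bot_iff, Subgroup.map_eq_bot_iff_of_injective _ N.subtype_injective] at hP
    exact P.ne_bot_of_dvd_card hNeven hP
  have hSM : ¬ (S : Subgroup G) ⊓ M ≤ F := fun hle => by
    have h0 : ((S : Subgroup G) ⊓ M).map ρ = ⊥ := eq_bot_iff.mpr (by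
      rintro _ ⟨s, hs, rfl⟩
      rw [Subgroup.mem_bot, hρ1, hπ1.mpr (hle hs)]; exact one_mem _)
    have h2 : (((S : Subgroup G) ⊓ M).map ρ).relIndex (M.map ρ) ∣ (S : Subgroup G).relIndex M := by
      rw [← Subgroup.relIndex_comap, ← Subgroup.inf_relIndex_right (S : Subgroup G) M]
      exact Subgroup.relIndex_dvd_of_le_left M (Subgroup.le_comap_map ρ _)
    rw [h0, hρM, Subgroup.relIndex_bot_left] at h2
    exact CfsgLib.PushUp.not_two_dvd_relIndex S M (hNeven.trans h2)
  refine hext M inferInstance hFρ hSM fun m hm => ?_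
  by_cases hMS : M ⊔ (S : Subgroup G) = ⊤
  swap
  · have hK : KG ↥(M ⊔ (S : Subgroup G)) := kgroup_sup hc M S.2
    obtain ⟨n, hn, e⟩ := hH _ hMS le_sup_right hK m (Subgroup.mem_sup_left hm)
    show _ ≤ Subgroup.normalizer (cj m V : Set G)
    rw [e, ← mul_one n]
    exact hmove hn hfx1
  -- a component step fixing `V`
  have hSKT : SK ((G ⧸ F) ⧸ O) :=
    hSK.of_surjective (QuotientGroup.mk' O) (QuotientGroup.mk'_surjective O)
  have htopN : N ⊔ (S : Subgroup G).map ρ = ⊤ := by
    rw [← hρM, ← Subgroup.map_sup, hMS, Subgroup.map_top_of_surjective _ hρs]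
  have hA2 : ∀ a ∈ A₀.map ρ, a * a = 1 := by
    rintro _ ⟨a, ha, rfl⟩; rw [← map_mul, hA₀.sq a ha, map_one]
  have hne : ¬ N ≤ Subgroup.centralizer (A₀.map ρ : Set ((G ⧸ F) ⧸ O)) := by
    intro hle
    set C := Subgroup.centralizer (N : Set ((G ⧸ F) ⧸ O)) with hCdef
    haveI hCn : C.Normal := inferInstance
    have hCN : C ⊓ N = ⊥ := by
      by_contra h0
      have := hmin _ inferInstance h0 inf_le_right
      refine hna ⟨⟨fun a b => Subtype.ext ?_⟩⟩
      exact (Subgroup.mem_centralizer_iff.mp (this.ge b.2).1 a a.2)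
    have hQp : IsPGroup 2 (((G ⧸ F) ⧸ O) ⧸ N) := by
      have e : ((S : Subgroup G).map ρ).map (QuotientGroup.mk' N) = ⊤ := by
        have h1 := Subgroup.map_top_of_surjective _ (QuotientGroup.mk'_surjective N)
        rw [← htopN, Subgroup.map_sup, show N.map (QuotientGroup.mk' N) = ⊥ from
          (Subgroup.map_eq_bot_iff _).mpr (by rw [QuotientGroup.ker_mk']), bot_sup_eq] at h1
        exact h1
      exact ((S.2.map ρ).map (QuotientGroup.mk' N)).of_equiv
        ((MulEquiv.subgroupCongr e).trans Subgroup.topEquiv)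
    have hCp : IsPGroup 2 C := hQp.of_injective ((QuotientGroup.mk' N).comp C.subtype)
      ((injective_iff_map_eq_one _).mpr fun c hc => by
        have : (c : (G ⧸ F) ⧸ O) ∈ C ⊓ N := ⟨c.2, (QuotientGroup.eq_one_iff _).mp hc⟩
        rw [hCN] at this
        exact Subtype.ext (Subgroup.mem_bot.mp this))
    have hC1 : C ≤ ⊥ := hTp ▸ CfsgLib.Fitting.le_pCore hCn hCp
    obtain ⟨a, ha, ha'⟩ := hA₀ρ
    exact ha' (Subgroup.mem_bot.mp
      (hC1 (Subgroup.le_centralizer_iff.mp hle (Subgroup.mem_map_of_mem ρ ha))))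
  obtain ⟨A₁, t, y, k, r, hs, hyN, hgen⟩ := exists_component_step hSKT hmin hna hA2 hne
  obtain ⟨t₀, ht₀, hρt⟩ := hs.mem
  have hr2 : r ≠ 2 := fun e => by have := hs.five_le; omega
  -- lift to the quotient by `F`
  set Ab := A₀.map π with hAb
  have hAb2 : ∀ a ∈ Ab, a * a = 1 := by
    rintro _ ⟨a, ha, rfl⟩; rw [← map_mul, hA₀.sq a ha, map_one]
  set B := A₁.comap (QuotientGroup.mk' O) ⊓ Ab with hB
  set K := (Subgroup.zpowers y).comap (QuotientGroup.mk' O) with hK
  have hBK : B ≤ Subgroup.normalizer (K : Set (G ⧸ F)) := fun b hb =>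
    Subgroup.le_normalizer_comap (QuotientGroup.mk' O) (Subgroup.mem_comap.mpr
      (Subgroup.centralizer_le_normalizer _ (Subgroup.mem_centralizer_iff.mpr fun x hx => by
        obtain ⟨i, rfl⟩ := hx
        exact ((show Commute (QuotientGroup.mk' O b) y from hs.comm _ hb.1).zpow_right i).symm.eq)))
  have hKcard : Nat.card K = Nat.card O * r := by
    have hle : O ≤ K := fun o ho => by
      rw [hK, Subgroup.mem_comap, show QuotientGroup.mk' O o = 1 from
        (QuotientGroup.eq_one_iff o).mpr ho]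
      exact one_mem _
    have h1 := Subgroup.relIndex_mul_relIndex ⊥ O K bot_le hle
    rw [Subgroup.relIndex_bot_left, Subgroup.relIndex_bot_left] at h1
    have h2 : O.relIndex K = r := by
      conv_lhs => rw [← QuotientGroup.ker_mk' O]
      rw [Subgroup.relIndex_ker, hK,
        Subgroup.map_comap_eq_self_of_surjective (QuotientGroup.mk'_surjective O), Nat.card_zpowers,
        hs.ord]
    rw [← h1, h2]
  have hBp : IsPGroup 2 B := ((S.2.to_le hA₀.le).map π).to_le inf_le_right
  have hcop : (Nat.card B).Coprime (Nat.card K) := by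
    obtain ⟨i, hi⟩ := IsPGroup.iff_card.mp hBp
    rw [hi, hKcard]
    exact (Nat.coprime_two_left.mpr (hOodd.mul (hs.prime.odd_of_ne_two hr2))).pow_left i
  haveI := hBp.isNilpotent
  obtain ⟨y₁, hy₁, hy₁y⟩ : y ∈ (K ⊓ Subgroup.centralizer (B : Set (G ⧸ F))).map (QuotientGroup.mk' O) := by
    rw [CfsgLib.Coprime.map_inf_centralizer hBK hcop (Or.inl inferInstance)]
    refine ⟨?_, Subgroup.mem_centralizer_iff.mpr ?_⟩
    · rw [hK, Subgroup.map_comap_eq_self_of_surjective (QuotientGroup.mk'_surjective O)]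
      exact Subgroup.mem_zpowers y
    · rintro _ ⟨b, hb, rfl⟩
      exact hs.comm _ hb.1
  set CB := Subgroup.centralizer (B : Set (G ⧸ F)) with hCB
  have htCB : π t₀ ∈ CB := Subgroup.mem_centralizer_iff.mpr fun b hb =>
    Subgroup.mem_centralizer_iff.mp (CfsgLib.PushUp.comm_of_sq hAb2 (Subgroup.mem_map_of_mem π ht₀)) b hb.2
  obtain ⟨z, hz1, ⟨j, hz2⟩, hz3, -⟩ := exists_inverted_lift (N := CB)
    ((QuotientGroup.mk' O).comp CB.subtype) (t := ⟨π t₀, htCB⟩) (y := ⟨y₁, hy₁.2⟩) hs.prime hr2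
    (Subtype.ext (hAb2 _ (Subgroup.mem_map_of_mem π ht₀)))
    (by
      show QuotientGroup.mk' O (π t₀ * y₁ * (π t₀)⁻¹) = (QuotientGroup.mk' O y₁)⁻¹
      rw [map_mul, map_mul, map_inv, hy₁y]
      exact hρt ▸ hs.inv)
    ⟨1, by
      show orderOf (QuotientGroup.mk' O y₁) = r ^ 1
      rw [hy₁y, hs.ord, pow_one]⟩
  obtain ⟨g, hg⟩ := QuotientGroup.mk'_surjective F (z : G ⧸ F)
  have hρg : ρ g = y := (congrArg (QuotientGroup.mk' O) hg).trans (hz3.trans hy₁y)
  have hcard : Nat.card A₀ ≤ 2 ^ k * Nat.card ↥(A₁.comap ρ ⊓ A₀) := by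
    have h1 := CfsgLib.Coprime.relIndex_mul_card_inf (A₁.comap ρ) A₀
    rw [Subgroup.relIndex_comap] at h1
    have h2 := Subgroup.relIndex_mul_relIndex ⊥ A₁ (A₀.map ρ) bot_le hs.le
    rw [Subgroup.relIndex_bot_left, Subgroup.relIndex_bot_left] at h2
    have h3 : A₁.relIndex (A₀.map ρ) ≤ 2 ^ k :=
      Nat.le_of_mul_le_mul_left (h2.trans_le (hs.card_le.trans_eq (mul_comm _ _))) Nat.card_pos
    rw [← h1]
    exact Nat.mul_le_mul_right _ h3
  have hgV : g ∈ Subgroup.normalizer (V : Set G) := by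
    have h1 := step_fix h hcomm hQ (Subgroup.normalCore_le _) hA₀
      (A₁ := A₁.comap ρ ⊓ A₀) inf_le_right ht₀ hs.prime hr2 hs.one_le hs.big (y := g) (hπ1.mp ?_)
      ⟨j, hπ1.mp ?_⟩ (fun a ha => hπ1.mp ?_) hcard 1 ((le_je hA₀).trans hfx1)
    · rwa [Cfsg.Agent.S4270.cj_one] at h1
    · have h2 : π t₀ * (z : G ⧸ F) * (π t₀)⁻¹ = (z : G ⧸ F)⁻¹ := congrArg Subtype.val hz1
      rw [map_mul, map_mul, map_mul, map_inv, hg, h2, inv_mul_cancel]
    · have h2 := pow_orderOf_eq_one z
      rw [hz2] at h2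
      rw [map_pow, hg, ← SubmonoidClass.coe_pow, h2]
      rfl
    · have h2 : π a * (z : G ⧸ F) = (z : G ⧸ F) * π a :=
        Subgroup.mem_centralizer_iff.mp z.2 (π a) ⟨ha.1, Subgroup.mem_map_of_mem π ha.2⟩
      rw [map_mul, map_mul, map_mul, map_inv, map_inv, hg, h2, mul_inv_cancel_right, mul_inv_cancel]
  -- the elements of `M` fixing `V` cover `N`
  set T' := (M ⊓ Subgroup.normalizer (V : Set G)).map ρ with hT'def
  have hT' : T' = N := by
    refine hgen (S.mapSurjective hρs) T' ((Subgroup.map_mono inf_le_left).trans hρM.le) ?_ ?_ ?_ ?_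
    · rintro _ ⟨⟨s, hs', rfl⟩, hsN⟩
      exact ⟨s, ⟨hsN, h.norm hs'⟩, rfl⟩
    · refine le_trans (Subgroup.map_mono fun s hs' => ?_) (Subgroup.le_normalizer_map ρ)
      exact mem_normalizer_inf (Subgroup.le_normalizer_of_normal (Subgroup.mem_top s))
        (Subgroup.le_normalizer (h.norm hs'))
    · exact ⟨g, ⟨by show ρ g ∈ N; rw [hρg]; exact hyN, hgV⟩, hρg⟩
    · exact htopN
  obtain ⟨m', hm', e⟩ := hT'.ge (show ρ m ∈ N from hm)
  rw [show m = (m * m'⁻¹) * m' by group]
  refine hprod _ _ (hρ1.mp ?_) hm'.2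
  rw [map_mul, map_inv, e, mul_inv_cancel]

end CfsgLib.LocalK
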