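import Cfsg.Agent.Lib.LocalK.Global
import Cfsg.Agent.Lib.PSolvable.Constrained

/-!
The factorization by the centralizer of the elements of order two in the centre of the subgroup
generated by the E-groups.
-/

set_option autoImplicit false
set_option linter.style.haveILetI false

namespace CfsgLib.LocalK

open scoped Pointwise
open CfsgLib.PushUp (mem_centralizer_iff_conj MaxEl cd cd_pos)
open Cfsg.Agent.S4022 (cj cj_mul cj_mono card_cj)

universe u

local notation "KG" => Cfsg.IsCompositionKGroupWith Cfsg.IsSuzukiOrPSL2OddPowerThree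

variable {G : Type u} [Group G]

/-- The elements of order two in the centre of `jh S`. -/
def yy (S : Subgroup G) : Subgroup G :=
  Cfsg.omegaOne 2 (jh S ⊓ Subgroup.centralizer (jh S : Set G))

theorem yy_le (S : Subgroup G) : yy S ≤ jh S ⊓ Subgroup.centralizer (jh S : Set G) :=
  (Subgroup.closure_le _).mpr fun _ hx => hx.1

theorem map_yy {H : Type u} [Group H] (f : G →* H) (hf : Function.Injective f) (S : Subgroup G) :
    (yy S).map f = yy (S.map f) := by
  rw [yy, yy, Cfsg.omegaOne, Cfsg.omegaOne, MonoidHom.map_closure, ← map_jh f hf]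
  congr 1
  ext y
  constructor
  · rintro ⟨x, ⟨⟨hxJ, hxC⟩, hx2⟩, rfl⟩
    refine ⟨⟨Subgroup.mem_map_of_mem f hxJ, ?_⟩, by rw [← map_pow, hx2, map_one]⟩
    rintro _ ⟨j, hj, rfl⟩
    rw [← map_mul, ← map_mul, hxC j hj]
  · rintro ⟨⟨⟨x, hx, rfl⟩, hC⟩, hy2⟩
    refine ⟨x, ⟨⟨hx, fun j hj => hf ?_⟩, hf (by rw [map_pow, hy2, map_one])⟩, rfl⟩
    rw [map_mul, map_mul]
    exact hC _ (Subgroup.mem_map_of_mem f hj)

/-- A factorization in a subgroup gives one in the group. -/
theorem fac_transfer {H : Subgroup G} {T : Subgroup H}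
    (hfac : Fac (Subgroup.centralizer (yy T : Set H)) (Subgroup.normalizer (je T : Set H)))
    {x : G} (hx : x ∈ H) :
    ∃ c ∈ Subgroup.centralizer (yy (T.map H.subtype) : Set G),
      ∃ n ∈ Subgroup.normalizer (je (T.map H.subtype) : Set G), x = c * n := by
  obtain ⟨c, hc, n, hn, e⟩ := hfac ⟨x, hx⟩
  refine ⟨c, ?_, n, ?_, congrArg Subtype.val e⟩
  · rw [← map_yy H.subtype H.subtype_injective]
    refine Subgroup.mem_centralizer_iff.mpr ?_
    rintro _ ⟨y, hy, rfl⟩
    exact congrArg Subtype.val (Subgroup.mem_centralizer_iff.mp hc y hy)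
  · rw [← map_je H.subtype H.subtype_injective]
    exact Subgroup.le_normalizer_map H.subtype (Subgroup.mem_map_of_mem H.subtype hn)

variable [Finite G]

/-- The inductive statement. -/
theorem fac_omega_aux : ∀ (n : ℕ) (G : Type u) [Group G] [Finite G], Nat.card G = n →
    Subgroup.centralizer (Cfsg.pCore 2 G : Set G) ≤ Cfsg.pCore 2 G →
    ¬ Cfsg.Involves (Equiv.Perm (Fin 4)) G → KG G → ∀ S : Sylow 2 G,
    Fac (Subgroup.centralizer (yy (S : Subgroup G) : Set G))
      (Subgroup.normalizer (je (S : Subgroup G) : Set G)) := by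
  intro n
  induction n using Nat.strong_induction_on with
  | _ n ih =>
  intro G _ _ hn hchar hfree hc S
  haveI : Fact (Nat.Prime 2) := ⟨Nat.prime_two⟩
  haveI := CfsgLib.Fitting.pCore_normal (G := G) 2
  have hcard : ∀ H : Subgroup G, H ≠ ⊤ → Nat.card H < n := fun H hH =>
    hn ▸ lt_of_le_of_ne H.card_le_card_group fun e => hH (Subgroup.eq_top_of_card_eq H e)
  have hfreeH : ∀ H : Subgroup G, ¬ Cfsg.Involves (Equiv.Perm (Fin 4)) H := fun H hi =>
    hfree (CfsgLib.Offender.involves_of_injective H.subtype H.subtype_injective hi)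
  have hQS : Cfsg.pCore 2 G ≤ (S : Subgroup G) :=
    CfsgLib.PushUp.le_sylow_of_normal (CfsgLib.Fitting.pCore_isPGroup 2) S
  have hind : ∀ H : Subgroup G, H ≠ ⊤ → (S : Subgroup G) ≤ H → KG H → ∀ x ∈ H,
      ∃ c ∈ Subgroup.centralizer (yy (S : Subgroup G) : Set G),
        ∃ k ∈ Subgroup.normalizer (je (S : Subgroup G) : Set G), x = c * k := by
    intro H hH hSH hK x hx
    have hQH : Cfsg.pCore 2 G ≤ H := hQS.trans hSH
    have hcharH : Subgroup.centralizer (Cfsg.pCore 2 H : Set H) ≤ Cfsg.pCore 2 H := by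
      have hle : (Cfsg.pCore 2 G).subgroupOf H ≤ Cfsg.pCore 2 H :=
        CfsgLib.Fitting.le_pCore inferInstance
          ((CfsgLib.Fitting.pCore_isPGroup 2).comap_of_injective _ H.subtype_injective)
      refine fun y hy => hle (hchar ?_)
      exact Subgroup.mem_centralizer_iff.mpr fun q hq =>
        congrArg Subtype.val (Subgroup.mem_centralizer_iff.mp hy ⟨q, hQH hq⟩ (hle hq))
    have e : ((S.subtype hSH : Sylow 2 H) : Subgroup H).map H.subtype = (S : Subgroup G) := by
      rw [Sylow.coe_subtype, Subgroup.map_subgroupOf_eq_of_le hSH]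
    have := fac_transfer (ih _ (hcard H hH) H rfl hcharH (hfreeH H) hK (S.subtype hSH)) hx
    rwa [e] at this
  by_cases hU : ∃ U ≤ (S : Subgroup G), EGrp U ∧ je (S : Subgroup G) ≤ U
  swap
  · have h0 : jh (S : Subgroup G) = ⊥ := eq_bot_iff.mpr (sSup_le fun U h => absurd ⟨U, h⟩ hU)
    refine fun g => ⟨g, Subgroup.mem_centralizer_iff.mpr fun y hy => ?_, 1, one_mem _, (mul_one g).symm⟩
    have := Subgroup.mem_bot.mp (h0.le (yy_le _ hy).1)
    rw [this, one_mul, mul_one]
  obtain ⟨U, hUS, hUE, hUJ⟩ := hU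
  by_cases hSE : EGrp (S : Subgroup G)
  · have h0 : jh (S : Subgroup G) = S :=
      le_antisymm (jh_le _) (le_sSup ⟨le_rfl, hSE, je_le _⟩)
    refine (fac_center hchar hfree hc S).1.mono (Subgroup.centralizer_le fun y hy => ?_) le_rfl
    have := yy_le _ hy
    rwa [h0] at this
  simp only [EGrp, not_forall] at hSE
  obtain ⟨V, hVS, hSV, hVe, hVp, hVnc⟩ := hSE
  have h : Setting S V := ⟨hVS, hSV, hVe, hVp⟩
  obtain ⟨A₀, hA₀⟩ := CfsgLib.PushUp.exists_maxEl (S : Subgroup G)
  have hVA : V ≤ A₀ := by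
    have h1 := hA₀.max (A₀ ⊔ V) (sup_le hA₀.le hVS)
      (CfsgLib.PushUp.sq_one_sup hA₀.sq hVe (h.maxEl_le_centralizer hA₀))
    exact (le_sup_right : V ≤ A₀ ⊔ V).trans (Subgroup.eq_of_le_of_card_ge le_sup_left h1).ge
  have hVJ : V ≤ je (S : Subgroup G) := hVA.trans (le_je hA₀)
  have hJV : jh (S : Subgroup G) ≤ Subgroup.centralizer (V : Set G) :=
    sSup_le fun U' hU' => Subgroup.le_centralizer_iff.mp
      (hU'.2.1 V (hVJ.trans hU'.2.2) (hU'.1.trans hSV) hVe fun R hR => hVp R (hR.trans hU'.1))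
  have hVy : V ≤ yy (S : Subgroup G) := fun v hv => Subgroup.subset_closure
    ⟨⟨(le_sSup (show U ∈ {U | U ≤ (S : Subgroup G) ∧ EGrp U ∧ je (S : Subgroup G) ≤ U} from
      ⟨hUS, hUE, hUJ⟩)) (hUJ (hVJ hv)), Subgroup.le_centralizer_iff.mp hJV hv⟩,
      (pow_two v).trans (hVe v hv)⟩
  have hCy : Subgroup.centralizer (yy (S : Subgroup G) : Set G) ≤
      Subgroup.centralizer (V : Set G) := Subgroup.centralizer_le hVy
  have hQ : V ≤ Cfsg.pCore 2 G := vee_le_pCore h hchar (sk_quotient hchar hfree hc _ le_rfl)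
  have hcomm := conj_comm h hQ
  have hAF : ∀ A, MaxEl (S : Subgroup G) A → A ≤ (Subgroup.normalizer (V : Set G)).normalCore :=
    fun A hA => je_fix h hcomm hQ hchar hfree hc (fun H h1 h2 h3 x hx => by
      obtain ⟨c, hc', k, hk, e⟩ := hind H h1 h2 h3 x hx
      exact ⟨c, hCy hc', k, hk, e⟩) hA
  set W := ⨆ g : G, cj g V with hW
  haveI hWn : W.Normal := Subgroup.normalizer_eq_top_iff.mp (eq_top_iff.mpr fun g _ =>
    mem_normalizer_iff_cj.mpr (Subgroup.eq_of_le_of_card_ge (by
      rw [hW, cj, Subgroup.map_iSup]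
      exact iSup_le fun a => (cj_mul g a V).ge.trans (le_iSup (fun g => cj g V) (g * a)))
      (card_cj _ _).ge))
  have hWS : W ≤ (S : Subgroup G) := iSup_le fun g =>
    ((cj_mono g hQ).trans (Cfsg.Agent.S4022.cj_normal g _).le).trans hQS
  have hWc : W ≤ Subgroup.centralizer (W : Set G) :=
    iSup_le fun a => Subgroup.le_centralizer_iff.mp (iSup_le fun b => hcomm b a)
  have hWe : ∀ w ∈ W, w * w = 1 := by
    have : W ≤ CfsgLib.PushUp.sqSub W hWc := iSup_le fun g x hx =>
      ⟨le_iSup (fun g => cj g V) g hx, (h.cj g).sq x hx⟩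
    exact fun w hw => (this hw).2
  set X := Subgroup.centralizer (W : Set G) with hX
  haveI hXn : X.Normal := inferInstance
  have hAX : ∀ A, MaxEl (S : Subgroup G) A → A ≤ X := fun A hA => by
    have hcube : Cube A W := Cube.sSup (Set.range fun g => cj g V) fun B hB _ hV' => by
      obtain ⟨g, rfl⟩ := hV'
      exact (h.cj g).cube ((S.2.to_le hA.le).to_le hB)
        ((hB.trans (hAF A hA)).trans (normalCore_le_normalizer_cj V g))
        fun b hb => by rw [hA.sq b (hB hb)]; exact one_mem _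
    refine CfsgLib.PushUp.cd_eq_one_iff.mp (by_contra fun hne => ?_)
    have h1 := (hcube hne).trans_le (Nat.pow_le_pow_left (hA.offender hWS hWe) 2)
    exact absurd h1 (not_lt.mpr (Nat.pow_le_pow_right (cd_pos A W) (by norm_num)))
  have hVW : V ≤ W := by
    have := le_iSup (fun g => cj g V) 1
    rwa [Cfsg.Agent.S4270.cj_one] at this
  have hXtop : X ≠ ⊤ := fun e => hVnc (Subgroup.le_centralizer_iff.mp fun s _ =>
    Subgroup.centralizer_le hVW (e.ge (Subgroup.mem_top s)))
  have hfin : (∀ x ∈ X, ∃ c ∈ Subgroup.centralizer (yy (S : Subgroup G) : Set G),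
      ∃ k ∈ Subgroup.normalizer (je (S : Subgroup G) : Set G), x = c * k) →
      Fac (Subgroup.centralizer (yy (S : Subgroup G) : Set G))
        (Subgroup.normalizer (je (S : Subgroup G) : Set G)) := fun hx g => by
    obtain ⟨x, hxX, k, hk, rfl⟩ := exists_frattini S X g
    obtain ⟨c, hc', k', hk', rfl⟩ := hx x hxX
    refine ⟨c, hc', k' * k, mul_mem hk' ?_, mul_assoc _ _ _⟩
    rw [← je_eq_of_le inf_le_left fun A hA => le_inf hA.le (hAX A hA)]
    exact normalizer_le_normalizer_je _ hk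
  by_cases hXS : X ⊔ (S : Subgroup G) = ⊤
  swap
  · exact hfin fun x hx =>
      hind _ hXS le_sup_right (kgroup_sup hc X S.2) x (Subgroup.mem_sup_left hx)
  have hVn : ∀ g : G, cj g V = V := fun g => by
    obtain ⟨x, hx, s, hs, rfl⟩ := Subgroup.mem_sup_of_normal_left.mp (hXS.ge (Subgroup.mem_top g))
    rw [cj_mul, mem_normalizer_iff_cj.mp (hSV hs), mem_normalizer_iff_cj.mp
      (Subgroup.centralizer_le_normalizer _ (Subgroup.centralizer_le hVW hx))]
  have hWV : W ≤ V := iSup_le fun g => (hVn g).le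
  have hJX : jh (S : Subgroup G) ≤ X := hJV.trans (Subgroup.centralizer_le hWV)
  refine hfin fun x hx => ?_
  have hP : IsPGroup 2 ((S : Subgroup G).subgroupOf X) :=
    S.2.comap_of_injective _ X.subtype_injective
  let P : Sylow 2 X := hP.toSylow (CfsgLib.PushUp.not_two_dvd_relIndex S X)
  have hPe : ((P : Subgroup X)).map X.subtype = (S : Subgroup G) ⊓ X := by
    exact Subgroup.subgroupOf_map_subtype _ _
  have := fac_transfer (ih _ (hcard X hXtop) X rfl
    (CfsgLib.PSolvable.centralizer_pCore_le_of_normal hchar X) (hfreeH X)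
    (kgroup_of_subnormal (Subgroup.Normal.isSubnormal hXn) hc) P) hx
  rw [hPe, je_eq_of_le inf_le_left fun A hA => le_inf hA.le (hAX A hA)] at this
  rwa [yy, jh_eq_of_le inf_le_left (fun A hA => le_inf hA.le (hAX A hA))
    (fun U' h1 h2 h3 => le_inf h1 ((le_sSup (show U' ∈ {U | U ≤ (S : Subgroup G) ∧ EGrp U ∧
      je (S : Subgroup G) ≤ U} from ⟨h1, h2, h3⟩)).trans hJX))] at this

/-- The factorization by the centralizer of `yy S` and the normalizer of `je S`. -/
theorem fac_omega (hchar : Subgroup.centralizer (Cfsg.pCore 2 G : Set G) ≤ Cfsg.pCore 2 G)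
    (hfree : ¬ Cfsg.Involves (Equiv.Perm (Fin 4)) G) (hc : KG G) (S : Sylow 2 G) :
    Fac (Subgroup.centralizer (yy (S : Subgroup G) : Set G))
      (Subgroup.normalizer (je (S : Subgroup G) : Set G)) :=
  fac_omega_aux _ G rfl hchar hfree hc S

end CfsgLib.LocalK
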