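import Cfsg.Agent.Lib.LocalK.Facts
import Cfsg.Agent.Lib.Offender.Involves
import Cfsg.Agent.Lib.LocalEven.DihedralInvolved
import Cfsg.Agent.Lib.PSolvable.Core

/-!
Inheritance of the hypotheses to normal subgroups and quotients.
-/

set_option autoImplicit false

namespace CfsgLib.LocalK

universe u

theorem isSuzukiOrPSL_congr {X Y : Type*} [Group X] [Group Y] (e : X ≃* Y)
    (h : Cfsg.IsSuzukiOrPSL2OddPowerThree X) : Cfsg.IsSuzukiOrPSL2OddPowerThree Y := by
  rcases h with ⟨F, hf, hfin, m, hm, hF, ⟨i⟩⟩ | ⟨F, hf, hfin, n, hF, ⟨i⟩⟩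
  · exact Or.inl ⟨F, hf, hfin, m, hm, hF, ⟨e.symm.trans i⟩⟩
  · exact Or.inr ⟨F, hf, hfin, n, hF, ⟨e.symm.trans i⟩⟩

/-- The standing hypothesis on a section: no `S₃`-section and only the allowed composition factors. -/
structure SK (X : Type u) [Group X] : Prop where
  free : ¬ Cfsg.Involves (Equiv.Perm (Fin 3)) X
  kgroup : Cfsg.IsCompositionKGroupWith Cfsg.IsSuzukiOrPSL2OddPowerThree X

theorem kgroup_of_surjective {X Y : Type u} [Group X] [Group Y] (f : X →* Y)
    (hf : Function.Surjective f)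
    (h : Cfsg.IsCompositionKGroupWith Cfsg.IsSuzukiOrPSL2OddPowerThree X) :
    Cfsg.IsCompositionKGroupWith Cfsg.IsSuzukiOrPSL2OddPowerThree Y := by
  intro H hH N hN hs hna
  let g : H.comap f →* H := f.subgroupComap H
  have hg : Function.Surjective g := f.subgroupComap_surjective_of_surjective H hf
  let i : (H.comap f) ⧸ N.comap g ≃* H ⧸ N :=
    (QuotientGroup.quotientMulEquivOfEq (show N.comap g = ((QuotientGroup.mk' N).comp g).ker by
      rw [← MonoidHom.comap_ker, QuotientGroup.ker_mk'])).trans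
      (QuotientGroup.quotientKerEquivOfSurjective _ ((QuotientGroup.mk'_surjective N).comp hg))
  haveI := hs
  exact isSuzukiOrPSL_congr i (h _ (hH.comap f) (N.comap g) i.isSimpleGroup
    (fun hc => hna ⟨⟨fun a b => i.symm.injective (by rw [map_mul, map_mul]; exact hc.1.comm _ _)⟩⟩))

theorem kgroup_of_subnormal {X : Type u} [Group X] {C : Subgroup X} (hC : C.IsSubnormal)
    (h : Cfsg.IsCompositionKGroupWith Cfsg.IsSuzukiOrPSL2OddPowerThree X) :
    Cfsg.IsCompositionKGroupWith Cfsg.IsSuzukiOrPSL2OddPowerThree C := by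
  intro H hH N hN hs hna
  let e : H ≃* H.map C.subtype := H.equivMapOfInjective C.subtype C.subtype_injective
  haveI : (N.map e.toMonoidHom).Normal := hN.map _ e.surjective
  let i : (H.map C.subtype) ⧸ N.map e.toMonoidHom ≃* H ⧸ N :=
    (QuotientGroup.congr N (N.map e.toMonoidHom) e rfl).symm
  haveI := hs
  exact isSuzukiOrPSL_congr i (h _ (hH.trans' hC) (N.map e.toMonoidHom) i.isSimpleGroup
    (fun hc => hna ⟨⟨fun a b => i.symm.injective (by rw [map_mul, map_mul]; exact hc.1.comm _ _)⟩⟩))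

theorem SK.of_surjective {X Y : Type u} [Group X] [Group Y] (h : SK X) (f : X →* Y)
    (hf : Function.Surjective f) : SK Y :=
  ⟨fun hi => h.free (CfsgLib.Offender.involves_of_surjective f hf hi),
    kgroup_of_surjective f hf h.kgroup⟩

theorem SK.normal {X : Type u} [Group X] (h : SK X) (C : Subgroup X) [hC : C.Normal] : SK C :=
  ⟨fun hi => h.free (CfsgLib.Offender.involves_of_injective C.subtype C.subtype_injective hi),
    kgroup_of_subnormal hC.isSubnormal h.kgroup⟩

theorem kgroup_simple {X : Type u} [Group X] {K : Subgroup X} (hK : K.IsSubnormal)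
    (hs : IsSimpleGroup K) (hna : ¬ IsMulCommutative K)
    (h : Cfsg.IsCompositionKGroupWith Cfsg.IsSuzukiOrPSL2OddPowerThree X) :
    Cfsg.IsSuzukiOrPSL2OddPowerThree K := by
  let i : K ⧸ (⊥ : Subgroup K) ≃* K := QuotientGroup.quotientBot
  exact isSuzukiOrPSL_congr i (h K hK ⊥ i.isSimpleGroup
    (fun hc => hna ⟨⟨fun a b => i.symm.injective (by rw [map_mul, map_mul]; exact hc.1.comm _ _)⟩⟩))

theorem pCore_normal_subgroup {X : Type u} [Group X] [Finite X] (C : Subgroup X) [C.Normal]
    (h : Cfsg.pCore 2 X = ⊥) : Cfsg.pCore 2 C = ⊥ := by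
  haveI : Fact (Nat.Prime 2) := ⟨Nat.prime_two⟩
  have h1 := CfsgLib.PSolvable.map_pCore_le (p := 2) C
  rw [h, le_bot_iff, Subgroup.map_eq_bot_iff_of_injective _ C.subtype_injective] at h1
  exact h1

/-- No element of order three is inverted. -/
theorem ne_three_of_inverted {X : Type u} [Group X] [Finite X]
    (h : ¬ Cfsg.Involves (Equiv.Perm (Fin 3)) X) {t x : X} (ht : t * t = 1) (hx : orderOf x = 3) :
    t * x * t⁻¹ ≠ x⁻¹ := by
  intro hinv
  have hx1 : x ≠ 1 := fun e => by rw [e, orderOf_one] at hx; omega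
  have hxt : x * t ≠ t * x := fun e => by
    rw [← e, mul_inv_cancel_right] at hinv
    have h2 : x ^ 2 = 1 := by rw [pow_two]; nth_rw 2 [hinv]; exact mul_inv_cancel x
    have := Nat.le_of_dvd two_pos (orderOf_dvd_of_pow_eq_one h2)
    omega
  set K := Subgroup.zpowers x ⊔ Subgroup.zpowers t
  have hnorm : Subgroup.zpowers t ≤ Subgroup.normalizer (Subgroup.zpowers x : Set X) := by
    refine Subgroup.zpowers_le.mpr (Subgroup.mem_normalizer_fintype ?_)
    rintro _ ⟨j, rfl⟩
    exact ⟨-j, by show x ^ (-j) = t * x ^ j * t⁻¹; rw [← conj_zpow, hinv, inv_zpow, zpow_neg]⟩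
  have hto : orderOf t = 2 := orderOf_eq_prime (by rw [pow_two, ht])
    (fun e => hxt (by rw [e, one_mul, mul_one]))
  have hcard : Nat.card K = 6 := by
    have h1 := CfsgLib.Coprime.card_sup_mul_card_inf hnorm
    have h2 : Subgroup.zpowers x ⊓ Subgroup.zpowers t = ⊥ :=
      disjoint_iff.mp (Subgroup.disjoint_of_coprime_natCard (by rw [Nat.card_zpowers, Nat.card_zpowers, hx, hto]; norm_num))
    rw [h2, Subgroup.card_bot, mul_one, Nat.card_zpowers, Nat.card_zpowers, hx, hto] at h1
    exact h1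
  apply h
  have hxK : x ∈ K := Subgroup.mem_sup_left (Subgroup.mem_zpowers x)
  have htK : t ∈ K := Subgroup.mem_sup_right (Subgroup.mem_zpowers t)
  set T : Subgroup K := Subgroup.zpowers ⟨t, htK⟩
  have hT : Nat.card T = 2 := by rw [Nat.card_zpowers, ← hto, ← Subgroup.orderOf_coe]
  have hidx : T.index = 3 := by
    have := T.card_mul_index
    rw [hT, hcard] at this
    omega
  have hcore : T.normalCore = ⊥ := by
    rw [eq_bot_iff]
    intro z hz
    have hzT := T.normalCore_le hz
    obtain ⟨j, rfl⟩ := hzT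
    rw [Subgroup.mem_bot]
    by_contra hne
    have h2 : (⟨t, htK⟩ : K) ^ (2 : ℤ) = 1 := by
      rw [zpow_two]; exact Subtype.ext ht
    rcases Int.even_or_odd' j with ⟨i, rfl | rfl⟩
    · exact hne (by show (⟨t, htK⟩ : K) ^ (2 * i) = 1; rw [zpow_mul, h2, one_zpow])
    · have hz' : (⟨t, htK⟩ : K) ∈ T.normalCore := by
        have e : (⟨t, htK⟩ : K) ^ (2 * i + 1) = ⟨t, htK⟩ := by
          rw [zpow_add, zpow_mul, h2, one_zpow, one_mul, zpow_one]
        exact e ▸ hz
      have h3 := T.normalCore_le ((Subgroup.normalCore_normal T).conj_mem _ hz' ⟨x, hxK⟩)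
      obtain ⟨l, hl⟩ := h3
      rcases Int.even_or_odd' l with ⟨p, rfl | rfl⟩
      · have : (⟨t, htK⟩ : K) ^ (2 * p) = 1 := by rw [zpow_mul, h2, one_zpow]
        rw [show ((fun j => (⟨t, htK⟩ : K) ^ j) (2 * p)) = (⟨t, htK⟩ : K) ^ (2 * p) from rfl, this]
          at hl
        have h4 := congrArg Subtype.val hl
        simp only [Subgroup.coe_one, Subgroup.coe_mul, Subgroup.coe_inv] at h4
        have : t = 1 := by
          rw [← inv_mul_cancel x]
          calc t = x⁻¹ * (x * t * x⁻¹) * x := by group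
            _ = x⁻¹ * x := by rw [← h4, mul_one]
        rw [this, orderOf_one] at hto
        omega
      · have : (⟨t, htK⟩ : K) ^ (2 * p + 1) = ⟨t, htK⟩ := by
          rw [zpow_add, zpow_mul, h2, one_zpow, one_mul, zpow_one]
        rw [show ((fun j => (⟨t, htK⟩ : K) ^ j) (2 * p + 1)) = (⟨t, htK⟩ : K) ^ (2 * p + 1) from rfl,
          this] at hl
        have h4 := congrArg Subtype.val hl
        simp only [Subgroup.coe_mul, Subgroup.coe_inv] at h4
        exact hxt (mul_inv_eq_iff_eq_mul.mp h4.symm)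
  let e : K ⧸ T ≃ Fin 3 := Finite.equivFinOfCardEq hidx
  let f : K →* Equiv.Perm (Fin 3) :=
    e.permCongrHom.toMonoidHom.comp (MulAction.toPermHom K (K ⧸ T))
  have hinj : Function.Injective f := e.permCongrHom.injective.comp (by
    rw [← MonoidHom.ker_eq_bot_iff, ← Subgroup.normalCore_eq_ker, hcore])
  haveI := Fintype.ofFinite K
  have hb : Function.Bijective f := by
    rw [Fintype.bijective_iff_injective_and_card]
    refine ⟨hinj, ?_⟩
    rw [← Nat.card_eq_fintype_card, hcard, Fintype.card_perm, Fintype.card_fin]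
    rfl
  exact CfsgLib.Offender.involves_of_hom (MulEquiv.ofBijective f hb).toMonoidHom hb.surjective

end CfsgLib.LocalK
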