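import Cfsg.Agent.Lib.LocalK.Basic
import Cfsg.Agent.Lib.PushUp.Main

/-!
Elementary abelian `2`-groups acted on by a dihedral group, the odd element without fixed points.
-/

set_option autoImplicit false
set_option linter.style.haveILetI false

namespace CfsgLib.LocalK

open scoped commutatorElement
open CfsgLib.PushUp (mem_centralizer_iff_conj conj_fix_iff)

variable {G : Type*} [Group G]

theorem mem_centralizer_singleton_conj {g w : G} :
    w ∈ Subgroup.centralizer ({g} : Set G) ↔ g * w * g⁻¹ = w := by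
  rw [Subgroup.mem_centralizer_singleton_iff, conj_fix_iff]

theorem centralizer_zpowers (g : G) :
    Subgroup.centralizer (Subgroup.zpowers g : Set G) = Subgroup.centralizer ({g} : Set G) :=
  le_antisymm (Subgroup.centralizer_le (Set.singleton_subset_iff.mpr (Subgroup.mem_zpowers g)))
    fun _ hx => CfsgLib.Coprime.mem_centralizer_singleton_zpowers hx

theorem conj_mem_of_mem_normalizer {H : Subgroup G} {g x : G}
    (hg : g ∈ Subgroup.normalizer (H : Set G)) (hx : x ∈ H) : g * x * g⁻¹ ∈ H :=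
  (Subgroup.mem_normalizer_iff.mp hg x).mp hx

variable [Finite G]

theorem isPGroup_two_of_sq {W : Subgroup G} (he : ∀ w ∈ W, w * w = 1) : IsPGroup 2 W := fun b =>
  ⟨1, Subtype.ext (by rw [pow_one, SubmonoidClass.coe_pow, pow_two, he b b.2]; rfl)⟩

theorem exists_card_eq_two_pow {W : Subgroup G} (he : ∀ w ∈ W, w * w = 1) :
    ∃ a, Nat.card W = 2 ^ a := by
  haveI : Fact (Nat.Prime 2) := ⟨Nat.prime_two⟩
  exact IsPGroup.iff_card.mp (isPGroup_two_of_sq he)

/-- A free module for a dihedral group. -/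
theorem free_card {W : Subgroup G} (he : ∀ w ∈ W, w * w = 1) {y t : G} {k r : ℕ} (hr : r.Prime)
    (hr2 : r ≠ 2) (hbig : Big k r) (hy : ∃ j, orderOf y = r ^ j)
    (hyW : y ∈ Subgroup.normalizer (W : Set G)) (htW : t ∈ Subgroup.normalizer (W : Set G))
    (hinv : t * y * t⁻¹ * y ∈ Subgroup.centralizer (W : Set G))
    (ht2 : t * t ∈ Subgroup.centralizer (W : Set G))
    (hfpf : W ⊓ Subgroup.centralizer ({y} : Set G) = ⊥) :
    Nat.card W = Nat.card ↥(W ⊓ Subgroup.centralizer ({t} : Set G)) ^ 2 ∧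
      (W ≠ ⊥ → 2 ^ (2 * k) ≤ Nat.card ↥(W ⊓ Subgroup.centralizer ({t} : Set G))) ∧
      ∀ x ∈ W ⊓ Subgroup.centralizer ({t} : Set G), ∃ w ∈ W, w * (t * w * t⁻¹) = x := by
  haveI := Fact.mk hr
  haveI : Fact (Nat.Prime 2) := ⟨Nat.prime_two⟩
  have hcomm : ∀ {a b : G}, a ∈ W → b ∈ W → a * b = b * a := fun ha hb =>
    (Subgroup.mem_centralizer_iff.mp (CfsgLib.PushUp.comm_of_sq he hb) _ ha)
  have hiW : ∀ {a : G}, a ∈ W → a⁻¹ = a := fun ha => inv_eq_of_mul_eq_one_right (he _ ha)
  set C := W ⊓ Subgroup.centralizer ({t} : Set G) with hC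
  have htconj : ∀ {w : G}, w ∈ W → t * w * t⁻¹ ∈ W := fun hw => conj_mem_of_mem_normalizer htW hw
  let φ : W →* W :=
    { toFun := fun w => ⟨w * (t * w * t⁻¹), mul_mem w.2 (htconj w.2)⟩
      map_one' := Subtype.ext (by simp)
      map_mul' := fun a b => Subtype.ext (by
        show (a : G) * b * (t * ((a : G) * b) * t⁻¹) = a * (t * a * t⁻¹) * (b * (t * b * t⁻¹))
        calc (a : G) * b * (t * ((a : G) * b) * t⁻¹)
            = (a : G) * ((b : G) * (t * a * t⁻¹)) * (t * b * t⁻¹) := by group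
          _ = (a : G) * ((t * a * t⁻¹) * b) * (t * b * t⁻¹) := by rw [hcomm b.2 (htconj a.2)]
          _ = _ := by group) }
  have hker : φ.ker.map W.subtype = C := by
    ext x
    constructor
    · rintro ⟨w, hw, rfl⟩
      have h1 : (w : G) * (t * w * t⁻¹) = 1 := congrArg Subtype.val hw
      refine ⟨w.2, mem_centralizer_singleton_conj.mpr ?_⟩
      exact (eq_inv_of_mul_eq_one_right h1).trans (hiW w.2)
    · rintro ⟨hxW, hx⟩
      refine ⟨⟨x, hxW⟩, Subtype.ext ?_, rfl⟩
      show x * (t * x * t⁻¹) = 1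
      rw [mem_centralizer_singleton_conj.mp hx, he x hxW]
  have hrange : φ.range.map W.subtype ≤ C := by
    rintro _ ⟨_, ⟨w, rfl⟩, rfl⟩
    refine ⟨(φ w).2, mem_centralizer_singleton_conj.mpr ?_⟩
    show t * ((w : G) * (t * w * t⁻¹)) * t⁻¹ = (w : G) * (t * w * t⁻¹)
    calc t * ((w : G) * (t * w * t⁻¹)) * t⁻¹
        = (t * w * t⁻¹) * ((t * t) * w * (t * t)⁻¹) := by group
      _ = (t * w * t⁻¹) * w := by rw [mem_centralizer_iff_conj.mp ht2 _ w.2]
      _ = _ := hcomm (htconj w.2) w.2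
  have hcard : Nat.card W = Nat.card ↥(φ.range.map W.subtype) * Nat.card C := by
    rw [← hker, Subgroup.card_map_of_injective W.subtype_injective,
      Subgroup.card_map_of_injective W.subtype_injective, ← Subgroup.index_ker, mul_comm,
      Subgroup.card_mul_index]
  -- `C ∩ C^y` is trivial
  have hodd : Odd (orderOf y) := by
    obtain ⟨j, hj⟩ := hy
    rw [hj]
    exact (hr.eq_two_or_odd'.resolve_left hr2).pow
  set C' := C.map (MulAut.conj y).toMonoidHom with hC'
  have hC'W : C' ≤ W := by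
    rintro _ ⟨x, hx, rfl⟩
    exact conj_mem_of_mem_normalizer hyW hx.1
  have hmeet : C ⊓ C' = ⊥ := by
    rw [eq_bot_iff]
    rintro _ ⟨hx, x, hx', rfl⟩
    change y * x * y⁻¹ ∈ C at hx
    rw [← hfpf]
    have h1 : t * x * t⁻¹ = x := mem_centralizer_singleton_conj.mp hx'.2
    have h2 : t * (y * x * y⁻¹) * t⁻¹ = y * x * y⁻¹ := mem_centralizer_singleton_conj.mp hx.2
    have h3 : (y * y) * x * (y * y)⁻¹ = x := by
      have e1 : t * (y * x * y⁻¹) * t⁻¹ = y⁻¹ * x * y := by
        have hxy : y⁻¹ * x * y ∈ W := (Subgroup.mem_normalizer_iff''.mp hyW x).mp hx'.1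
        calc t * (y * x * y⁻¹) * t⁻¹ = (t * y * t⁻¹ * y) * (y⁻¹ * (t * x * t⁻¹) * y) *
              (t * y * t⁻¹ * y)⁻¹ := by group
          _ = _ := by rw [h1, mem_centralizer_iff_conj.mp hinv _ hxy]
      rw [h2] at e1
      calc (y * y) * x * (y * y)⁻¹ = y * (y * x * y⁻¹) * y⁻¹ := by group
        _ = x := by rw [e1]; group
    have hc : y ∈ Subgroup.centralizer ({x} : Set G) :=
      CfsgLib.PushUp.centralizer_fix_sq hodd (Subgroup.mem_centralizer_singleton_iff.mpr
        (by rw [pow_two]; exact (conj_fix_iff.mp h3).symm))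
    have hyx : y * x * y⁻¹ = x :=
      conj_fix_iff.mpr (Subgroup.mem_centralizer_singleton_iff.mp hc).symm
    show y * x * y⁻¹ ∈ W ⊓ Subgroup.centralizer ({y} : Set G)
    rw [hyx]
    exact ⟨hx'.1, mem_centralizer_singleton_conj.mpr hyx⟩
  have hle : Nat.card C * Nat.card C ≤ Nat.card W := by
    have hn : C' ≤ Subgroup.normalizer (C : Set G) :=
      hC'W.trans ((show W ≤ Subgroup.centralizer (C : Set G) from fun w hw =>
        Subgroup.mem_centralizer_iff.mpr fun c hc => hcomm hc.1 hw).trans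
          (Subgroup.centralizer_le_normalizer _))
    have h1 := CfsgLib.Coprime.card_sup_mul_card_inf hn
    rw [hmeet, Subgroup.card_bot, mul_one] at h1
    have h2 : Nat.card C' = Nat.card C := Subgroup.card_map_of_injective (MulAut.conj y).injective
    rw [h2] at h1
    exact h1 ▸ Subgroup.card_le_of_le (sup_le inf_le_left hC'W)
  have hCpos := Nat.card_pos (α := C)
  have hrle := Subgroup.card_le_of_le hrange
  have hsq : Nat.card W = Nat.card C ^ 2 := by
    refine le_antisymm ?_ (by rw [pow_two]; exact hle)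
    rw [hcard, pow_two]
    exact Nat.mul_le_mul_right _ hrle
  refine ⟨hsq, fun hW => ?_, fun x hx => ?_⟩
  · -- the congruence
    have hyp : IsPGroup r (Subgroup.zpowers y) := by
      obtain ⟨j, hj⟩ := hy
      exact IsPGroup.of_card (n := j) (by rw [Nat.card_zpowers, hj])
    letI : MulAction (Subgroup.zpowers y) W :=
      MulAction.compHom W (CfsgLib.Coprime.conjAct (A := Subgroup.zpowers y) (V := W)
        (Subgroup.zpowers_le.mpr hyW))
    have hfix : Nat.card (MulAction.fixedPoints (Subgroup.zpowers y) W) = 1 := by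
      rw [Nat.card_eq_one_iff_unique]
      refine ⟨⟨fun a b => Subtype.ext (Subtype.ext ?_)⟩, ⟨⟨1, fun g => Subtype.ext (by
        show ((g : G)) * ((1 : W) : G) * (g : G)⁻¹ = ((1 : W) : G); simp)⟩⟩⟩
      have h0 : ∀ a : MulAction.fixedPoints (Subgroup.zpowers y) W, ((a : W) : G) = 1 := fun a => by
        have h1 := congrArg Subtype.val (a.2 ⟨y, Subgroup.mem_zpowers y⟩)
        rw [← Subgroup.mem_bot, ← hfpf]
        exact ⟨(a : W).2, mem_centralizer_singleton_conj.mpr h1⟩
      rw [h0 a, h0 b]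
    have hmod := hyp.card_modEq_card_fixedPoints W
    rw [hfix] at hmod
    obtain ⟨a, ha⟩ := exists_card_eq_two_pow (W := C) fun w hw => he w hw.1
    rw [hsq, ha, ← pow_mul] at hmod
    have ha0 : 0 < a := by
      by_contra h0
      refine hW (Subgroup.card_eq_one.mp ?_)
      rw [hsq, ha, show a = 0 by omega, pow_zero, one_pow]
    have hd : r ∣ 2 ^ (2 * a) - 1 :=
      (Nat.modEq_iff_dvd' Nat.one_le_two_pow).mp (by rw [mul_comm 2 a]; exact hmod.symm)
    rw [ha]
    exact Nat.pow_le_pow_right two_pos (hbig a ha0 hd)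
  · have heq : φ.range.map W.subtype = C := Subgroup.eq_of_le_of_card_ge hrange (by
      have := hsq
      rw [hcard, pow_two] at this
      exact (Nat.eq_of_mul_eq_mul_right hCpos this).ge)
    obtain ⟨_, ⟨w, rfl⟩, hwx⟩ := heq.ge hx
    exact ⟨w, w.2, hwx⟩

/-- The decomposition of an elementary abelian `2`-group under an element of odd order. -/
theorem decompose {W : Subgroup G} (he : ∀ w ∈ W, w * w = 1) {y : G}
    (hy : Odd (orderOf y)) (hyW : y ∈ Subgroup.normalizer (W : Set G)) :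
    (W ⊓ Subgroup.centralizer ({y} : Set G)) ⊓ ⁅W, Subgroup.zpowers y⁆ = ⊥ ∧
      (W ⊓ Subgroup.centralizer ({y} : Set G)) ⊔ ⁅W, Subgroup.zpowers y⁆ = W := by
  haveI : IsMulCommutative W := Subgroup.le_centralizer_iff_isMulCommutative.mp (CfsgLib.PushUp.comm_of_sq he)
  have hn : Subgroup.zpowers y ≤ Subgroup.normalizer (W : Set G) := Subgroup.zpowers_le.mpr hyW
  obtain ⟨a, ha⟩ := exists_card_eq_two_pow he
  have hcop : (Nat.card (Subgroup.zpowers y)).Coprime (Nat.card W) := by
    rw [Nat.card_zpowers, ha]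
    exact (Nat.coprime_two_right.mpr hy).pow_right a
  rw [← centralizer_zpowers]
  exact ⟨CfsgLib.Coprime.centralizer_inf_commutator_eq_bot hn hcop,
    CfsgLib.Coprime.centralizer_sup_commutator_eq hn hcop⟩

theorem commutator_le_self {W : Subgroup G} {y : G} (hyW : y ∈ Subgroup.normalizer (W : Set G)) :
    ⁅W, Subgroup.zpowers y⁆ ≤ W :=
  Subgroup.commutator_le.mpr fun w hw g hg => by
    rw [commutatorElement_def, show w * g * w⁻¹ * g⁻¹ = w * (g * w⁻¹ * g⁻¹) by group]
    exact mul_mem hw (conj_mem_of_mem_normalizer (Subgroup.zpowers_le.mpr hyW hg) (inv_mem hw))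

/-- An element normalizing `W` and inverting or fixing `y` modulo `C(W)` normalizes `[W, y]`. -/
theorem mem_normalizer_commutator {W : Subgroup G} {y a : G}
    (hyW : y ∈ Subgroup.normalizer (W : Set G)) (haW : a ∈ Subgroup.normalizer (W : Set G))
    (h : ∀ g ∈ Subgroup.zpowers y, ∃ g' ∈ Subgroup.zpowers y,
      g'⁻¹ * (a * g * a⁻¹) ∈ Subgroup.centralizer (W : Set G)) :
    a ∈ Subgroup.normalizer ((⁅W, Subgroup.zpowers y⁆ : Subgroup G) : Set G) := by
  refine Subgroup.mem_normalizer_fintype fun x hx => ?_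
  have hle : ⁅W, Subgroup.zpowers y⁆ ≤
      ⁅W, Subgroup.zpowers y⁆.comap (MulAut.conj a).toMonoidHom := by
    refine Subgroup.commutator_le.mpr fun w hw g hg => ?_
    obtain ⟨g', hg', hc⟩ := h g hg
    show a * (⁅w, g⁆ : G) * a⁻¹ ∈ ⁅W, Subgroup.zpowers y⁆
    set c := g'⁻¹ * (a * g * a⁻¹) with hcdef
    set v := a * w * a⁻¹ with hvdef
    have hv : v ∈ W := conj_mem_of_mem_normalizer haW hw
    have hcv : c * v⁻¹ * c⁻¹ = v⁻¹ := mem_centralizer_iff_conj.mp hc _ (inv_mem hv)
    have e : a * (⁅w, g⁆ : G) * a⁻¹ = ⁅v, g'⁆ := by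
      have e1 : a * g * a⁻¹ = g' * c := by rw [hcdef]; group
      rw [commutatorElement_def, commutatorElement_def]
      calc a * (w * g * w⁻¹ * g⁻¹) * a⁻¹ = v * (a * g * a⁻¹) * v⁻¹ * (a * g * a⁻¹)⁻¹ := by
            rw [hvdef]; group
        _ = v * g' * (c * v⁻¹ * c⁻¹) * g'⁻¹ := by rw [e1]; group
        _ = _ := by rw [hcv]
    rw [e]
    exact Subgroup.commutator_mem_commutator hv hg'
  exact hle hx

end CfsgLib.LocalK
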