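import Cfsg.Agent.Lib.LocalK.Core
import Cfsg.Agent.Lib.LocalK.Factor

/-!
The set of conjugates of `V` fixed by a largest elementary abelian subgroup, and the odd core.
-/

set_option autoImplicit false
set_option linter.style.haveILetI false

namespace CfsgLib.LocalK

open scoped Pointwise
open CfsgLib.PushUp (mem_centralizer_iff_conj conj_fix_iff MaxEl)
open Cfsg.Agent.S4022 (cj cj_mul cj_mono card_cj)

universe u

variable {G : Type u} [Group G]

/-- The elements permuting the conjugates of `V` normalized by `A`. -/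
def stabFix (A V : Subgroup G) : Subgroup G where
  carrier := {g | ∀ x : G, A ≤ Subgroup.normalizer (cj (g * x) V : Set G) ↔
    A ≤ Subgroup.normalizer (cj x V : Set G)}
  one_mem' := fun x => by rw [one_mul]
  mul_mem' {a b} ha hb := fun x => by rw [mul_assoc, ha (b * x), hb x]
  inv_mem' {a} ha := fun x => by rw [← ha (a⁻¹ * x), mul_inv_cancel_left]

theorem cj_normalizer (g : G) (H : Subgroup G) :
    cj g (Subgroup.normalizer (H : Set G)) ≤ Subgroup.normalizer (cj g H : Set G) :=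
  Subgroup.le_normalizer_map _

theorem normalCore_le_normalizer_cj (V : Subgroup G) (g : G) :
    (Subgroup.normalizer (V : Set G)).normalCore ≤ Subgroup.normalizer (cj g V : Set G) :=
  (Cfsg.Agent.S4022.cj_normal g _).ge.trans
    ((cj_mono g (Subgroup.normalCore_le _)).trans (cj_normalizer g V))

theorem le_normalCore_of_forall {A V : Subgroup G}
    (h : ∀ g : G, A ≤ Subgroup.normalizer (cj g V : Set G)) :
    A ≤ (Subgroup.normalizer (V : Set G)).normalCore := fun a ha b => by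
  have h1 := mem_normalizer_iff_cj.mp (h b⁻¹ ha)
  refine mem_normalizer_iff_cj.mpr ?_
  rw [cj_mul, cj_mul]
  rw [h1, ← cj_mul, mul_inv_cancel, Cfsg.Agent.S4270.cj_one]

/-- An element commuting with `A` modulo the core of `N(V)` permutes the fixed conjugates. -/
theorem mem_stabFix_of_comm {A V : Subgroup G} {x : G}
    (h : ∀ a ∈ A, a * x * a⁻¹ * x⁻¹ ∈ (Subgroup.normalizer (V : Set G)).normalCore) :
    x ∈ stabFix A V := by
  set F := (Subgroup.normalizer (V : Set G)).normalCore with hF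
  have key : ∀ {x : G}, (∀ a ∈ A, a * x * a⁻¹ * x⁻¹ ∈ F) → ∀ w : G,
      A ≤ Subgroup.normalizer (cj w V : Set G) → A ≤ Subgroup.normalizer (cj (x * w) V : Set G) := by
    intro x hx w hw a ha
    refine mem_normalizer_iff_cj.mpr ?_
    rw [← cj_mul, show a * (x * w) = (a * x * a⁻¹ * x⁻¹) * x * (a * w) by group, cj_mul, cj_mul a w,
      mem_normalizer_iff_cj.mp (hw ha), ← cj_mul, mul_assoc, cj_mul,
      mem_normalizer_iff_cj.mp (normalCore_le_normalizer_cj V (x * w) (hx a ha))]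
  refine fun w => ⟨fun hw => ?_, key h w⟩
  have hinv : ∀ a ∈ A, a * x⁻¹ * a⁻¹ * x⁻¹⁻¹ ∈ F := fun a ha => by
    have h1 := (inferInstance : F.Normal).conj_mem _ (inv_mem (h a ha)) x⁻¹
    rwa [show x⁻¹ * (a * x * a⁻¹ * x⁻¹)⁻¹ * x⁻¹⁻¹ = a * x⁻¹ * a⁻¹ * x⁻¹⁻¹ by group] at h1
  have := key hinv (x * w) hw
  rwa [inv_mul_cancel_left] at this

variable [Finite G]

/-- A step of `A` fixes every conjugate of `V` normalized by `A`. -/
theorem step_fix {S : Sylow 2 G} {V : Subgroup G} (h : Setting S V)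
    (hcomm : ∀ a b : G, cj a V ≤ Subgroup.centralizer (cj b V : Set G))
    (hQ : V ≤ Cfsg.pCore 2 G) {F : Subgroup G} [F.Normal] (hFV : F ≤ Subgroup.normalizer (V : Set G))
    {A A₁ : Subgroup G} (hA : MaxEl (S : Subgroup G) A) (hA₁ : A₁ ≤ A) {t y : G} (ht : t ∈ A)
    {k r : ℕ} (hr : r.Prime) (hr2 : r ≠ 2) (hk : 1 ≤ k) (hbig : Big k r)
    (hinv : t * y * t⁻¹ * y ∈ F) (hord : ∃ j, y ^ r ^ j ∈ F)
    (hA₁y : ∀ a ∈ A₁, a * y * a⁻¹ * y⁻¹ ∈ F) (hcard : Nat.card A ≤ 2 ^ k * Nat.card A₁) (x : G)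
    (hAx : A ≤ Subgroup.normalizer (cj x V : Set G)) :
    y ∈ Subgroup.normalizer (cj x V : Set G) := by
  haveI : Fact (Nat.Prime 2) := ⟨Nat.prime_two⟩
  haveI := CfsgLib.Fitting.pCore_normal (G := G) 2
  obtain ⟨n, hn, hAn⟩ := CfsgLib.PushUp.sylow_conj_le (x • S) (h.cj x).norm hAx (S.2.to_le hA.le)
  rw [coe_smul_sylow, ← cj_mul] at hAn
  have hU : cj (n * x) V = cj x V := by rw [cj_mul, mem_normalizer_iff_cj.mp hn]
  rw [← hU]
  have hA' : MaxEl ((((n * x) • S : Sylow 2 G)) : Subgroup G) A := by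
    rw [coe_smul_sylow]
    exact ⟨hAn, hA.sq, fun B hB hB2 => ((MaxEl.cj hA (n * x)).max B hB hB2).trans_eq (card_cj _ A)⟩
  refine core_fix (h.cj (n * x)) (fun g => by rw [← cj_mul]; exact hcomm _ _) (fun g => ?_) ?_ hA'
    hA₁ ht hr hr2 hk hbig hinv hord hA₁y hcard
  · rw [← cj_mul]
    exact ((cj_mono _ hQ).trans (Cfsg.Agent.S4022.cj_normal _ _).le).trans
      (CfsgLib.PushUp.le_sylow_of_normal (CfsgLib.Fitting.pCore_isPGroup 2) _)
  · exact (Cfsg.Agent.S4022.cj_normal (n * x) F).ge.trans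
      ((cj_mono _ hFV).trans (cj_normalizer _ V))

/-- An element inverted by `t` and centralized by a hyperplane, of prime power order, is in the
stabilizer. -/
theorem mem_stabFix_of_step {S : Sylow 2 G} {V : Subgroup G} (h : Setting S V)
    (hcomm : ∀ a b : G, cj a V ≤ Subgroup.centralizer (cj b V : Set G))
    (hQ : V ≤ Cfsg.pCore 2 G)
    {A A₁ : Subgroup G} (hA : MaxEl (S : Subgroup G) A) (hA₁ : A₁ ≤ A) {t y : G} (ht : t ∈ A)
    {k r : ℕ} (hr : r.Prime) (hr2 : r ≠ 2) (hk : 1 ≤ k) (hbig : Big k r)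
    (hinv : t * y * t⁻¹ * y ∈ (Subgroup.normalizer (V : Set G)).normalCore)
    (hord : ∃ j, y ^ r ^ j ∈ (Subgroup.normalizer (V : Set G)).normalCore)
    (hA₁y : ∀ a ∈ A₁, a * y * a⁻¹ * y⁻¹ ∈ (Subgroup.normalizer (V : Set G)).normalCore)
    (hcard : Nat.card A ≤ 2 ^ k * Nat.card A₁) : y ∈ stabFix A V := by
  have hfix : ∀ x : G, A ≤ Subgroup.normalizer (cj x V : Set G) → cj (y * x) V = cj x V := fun x hx => by
    rw [cj_mul, mem_normalizer_iff_cj.mp (step_fix h hcomm hQ (Subgroup.normalCore_le _) hA hA₁ ht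
      hr hr2 hk hbig hinv hord hA₁y hcard x hx)]
  refine fun x => ⟨fun hx => ?_, fun hx => by rwa [hfix x hx]⟩
  have h1 := hfix (y * x) hx
  have h2 : cj (y * x) V = cj x V := by
    have h3 := congrArg (cj y⁻¹) h1
    rwa [← cj_mul, ← cj_mul, inv_mul_cancel_left, inv_mul_cancel_left] at h3
  rwa [h2] at hx

end CfsgLib.LocalK
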