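import Cfsg.Agent.Lib.LocalK.Moves

/-!
Normal subgroups of odd order modulo the core of `N(V)` permute the fixed conjugates.
-/

set_option autoImplicit false
set_option linter.style.haveILetI false

namespace CfsgLib.LocalK

open scoped Pointwise
open CfsgLib.PushUp (mem_centralizer_iff_conj conj_fix_iff MaxEl)
open Cfsg.Agent.S4022 (cj cj_mul cj_mono card_cj)

universe u

variable {G : Type u} [Group G] [Finite G]

/-- An element of finite order lies in a subgroup containing all its prime power parts. -/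
theorem mem_of_primePow_parts {X : Type*} [Group X] [Finite X] {Y : Subgroup X} {z : X}
    (h : ∀ w ∈ Subgroup.zpowers z, (∃ p n : ℕ, p.Prime ∧ orderOf w = p ^ n) → w ∈ Y) : z ∈ Y := by
  have hd : orderOf z ∣ Nat.card ↥(Y ⊓ Subgroup.zpowers z) := by
    refine (Nat.dvd_iff_prime_pow_dvd_dvd _ _).mpr fun p n hp hpn => ?_
    have ho : orderOf (z ^ (orderOf z / p ^ n)) = p ^ n :=
      orderOf_pow_orderOf_div (orderOf_pos z).ne' hpn
    rw [← ho]
    exact Subgroup.orderOf_dvd_natCard _ ⟨h _ (Subgroup.npow_mem_zpowers z _) ⟨p, n, hp, ho⟩,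
      Subgroup.npow_mem_zpowers z _⟩
  have he : Y ⊓ Subgroup.zpowers z = Subgroup.zpowers z := Subgroup.eq_of_le_of_card_ge inf_le_right
    (by rw [Nat.card_zpowers]; exact Nat.le_of_dvd Nat.card_pos hd)
  exact (he.ge (Subgroup.mem_zpowers z)).1

theorem odd_le_stabFix {S : Sylow 2 G} {V : Subgroup G} (h : Setting S V)
    (hcomm : ∀ a b : G, cj a V ≤ Subgroup.centralizer (cj b V : Set G))
    (hQ : V ≤ Cfsg.pCore 2 G) {A : Subgroup G} (hA : MaxEl (S : Subgroup G) A)
    {F : Subgroup G} [F.Normal] (hF : F = (Subgroup.normalizer (V : Set G)).normalCore)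
    (hfree : ¬ Cfsg.Involves (Equiv.Perm (Fin 3)) (G ⧸ F))
    (O : Subgroup (G ⧸ F)) [O.Normal] (hO : Odd (Nat.card O)) :
    O.comap (QuotientGroup.mk' F) ≤ stabFix A V := by
  haveI : Fact (Nat.Prime 2) := ⟨Nat.prime_two⟩
  set π := QuotientGroup.mk' F with hπ
  have hπ1 : ∀ {g : G}, π g = 1 ↔ g ∈ F := fun {g} => QuotientGroup.eq_one_iff g
  have hFst : F ≤ stabFix A V := fun f hf x => by
    rw [cj_mul, mem_normalizer_iff_cj.mp (normalCore_le_normalizer_cj V x (hF.le hf))]
  set Y := (stabFix A V).map π with hY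
  suffices hOY : O ≤ Y by
    intro g hg
    obtain ⟨g', hg', e⟩ := hOY hg
    have h1 : g'⁻¹ * g ∈ F := QuotientGroup.eq.mp e
    have := mul_mem hg' (hFst h1)
    rwa [mul_inv_cancel_left] at this
  set Ab := A.map π with hAb
  have hAb2 : ∀ a ∈ Ab, a * a = 1 := by
    rintro _ ⟨a, ha, rfl⟩; rw [← map_mul, hA.sq a ha, map_one]
  have hcomY : ∀ x : G ⧸ F, (∀ a ∈ Ab, a * x = x * a) → x ∈ Y := by
    intro x hx
    obtain ⟨g, rfl⟩ := QuotientGroup.mk'_surjective F x
    refine ⟨g, mem_stabFix_of_comm fun a ha => hF.le (hπ1.mp ?_), rfl⟩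
    rw [map_mul, map_mul, map_mul, map_inv, map_inv, hx _ (Subgroup.mem_map_of_mem π ha),
      mul_inv_cancel_right, mul_inv_cancel]
  have claim : ∀ B ≤ Ab, B.relIndex Ab ≤ 2 → O ⊓ Subgroup.centralizer (B : Set (G ⧸ F)) ≤ Y := by
    rintro B hB hidx x ⟨hxO, hxB⟩
    by_cases hBA : Ab ≤ B
    · exact hcomY x fun a ha => (Subgroup.mem_centralizer_iff.mp hxB a (hBA ha))
    obtain ⟨tb, htb, htB⟩ := SetLike.not_le_iff_exists.mp hBA
    have hidx2 : B.relIndex Ab = 2 := by
      have h0 : B.relIndex Ab ≠ 0 := Subgroup.index_ne_zero_of_finite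
      have h1 : B.relIndex Ab ≠ 1 := fun e => hBA (Subgroup.relIndex_eq_one.mp e)
      omega
    have hcases : ∀ a ∈ Ab, a ∈ B ∨ tb⁻¹ * a ∈ B := fun a ha => by
      by_cases haB : a ∈ B
      · exact Or.inl haB
      · right
        have h1 := Subgroup.mul_mem_iff_of_index_two (H := B.subgroupOf Ab) hidx2
          (a := ⟨tb, htb⟩⁻¹) (b := ⟨a, ha⟩)
        simp only [inv_mem_iff, Subgroup.mem_subgroupOf, Subgroup.coe_mul, Subgroup.coe_inv] at h1
        exact h1.mpr (iff_of_false htB haB)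
    have hxB' : ∀ b ∈ B, b * x = x * b := fun b hb => Subgroup.mem_centralizer_iff.mp hxB b hb
    have hti : tb⁻¹ = tb := inv_eq_of_mul_eq_one_right (hAb2 tb htb)
    have htB' : ∀ b ∈ B, Commute b tb := fun b hb =>
      Subgroup.mem_centralizer_iff.mp (CfsgLib.PushUp.comm_of_sq hAb2 htb) b (hB hb)
    set u := x⁻¹ * (tb * x * tb) with hu
    have huO : u ∈ O := mul_mem (inv_mem hxO) (by
      have := (inferInstance : O.Normal).conj_mem x hxO tb
      rwa [hti] at this)
    obtain ⟨j, hj⟩ := hO.of_dvd_nat (O.orderOf_dvd_natCard huO)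
    set z := u ^ (j + 1) with hz
    have hzz : z * z = u := by
      rw [hz, ← pow_add, show j + 1 + (j + 1) = orderOf u + 1 by omega, pow_succ, pow_orderOf_eq_one,
        one_mul]
    have huinv : tb * u * tb⁻¹ = u⁻¹ := by
      rw [hu, hti]
      calc tb * (x⁻¹ * (tb * x * tb)) * tb = (tb * x⁻¹ * tb) * x * (tb * tb) := by group
        _ = (x⁻¹ * (tb * x * tb))⁻¹ := by
          rw [hAb2 tb htb, mul_one, mul_inv_rev, mul_inv_rev, mul_inv_rev, hti, inv_inv]
          group
    have hzinv : tb * z * tb⁻¹ = z⁻¹ := by rw [hz, ← conj_pow, huinv, inv_pow]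
    have huB : ∀ b ∈ B, Commute b u := fun b hb =>
      ((show Commute b x from hxB' b hb).inv_right).mul_right
        (((htB' b hb).mul_right (hxB' b hb)).mul_right (htB' b hb))
    have hzY : z ∈ Y := by
      refine mem_of_primePow_parts fun w hw => ?_
      rintro ⟨p, n, hp, hwo⟩
      rcases eq_or_ne w 1 with rfl | hw1
      · exact one_mem _
      obtain ⟨l, rfl⟩ := hw
      have hwinv : tb * z ^ l * tb⁻¹ = (z ^ l)⁻¹ := by rw [← conj_zpow, hzinv, inv_zpow]
      have hn0 : n ≠ 0 := fun e => hw1 (orderOf_eq_one_iff.mp (by rw [hwo, e, pow_zero]))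
      have hdiv : p ∣ orderOf (z ^ l) := hwo ▸ dvd_pow_self p hn0
      have hp2 : p ≠ 2 := by
        rintro rfl
        exact Nat.not_even_iff_odd.mpr
          (hO.of_dvd_nat (O.orderOf_dvd_natCard (zpow_mem (pow_mem huO _) l)))
          (even_iff_two_dvd.mpr hdiv)
      have h5 : 5 ≤ p := by
        have := hp.two_le
        by_contra hlt
        rcases (show p = 3 ∨ p = 4 by omega) with rfl | rfl
        · exact ne_three_of_inverted hfree (hAb2 tb htb)
            (orderOf_pow_orderOf_div (orderOf_pos (z ^ l)).ne' hdiv)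
            (by rw [← conj_pow, hwinv, inv_pow])
        · norm_num at hp
      obtain ⟨t, htA, htπ⟩ := htb
      obtain ⟨g, hg⟩ := QuotientGroup.mk'_surjective F (z ^ l)
      refine ⟨g, ?_, hg⟩
      have hcard : Nat.card A ≤ 2 ^ 1 * Nat.card ↥(B.comap π ⊓ A) := by
        have h1 := CfsgLib.Coprime.relIndex_mul_card_inf (B.comap π) A
        rw [Subgroup.relIndex_comap, ← hAb, hidx2] at h1
        omega
      refine mem_stabFix_of_step h hcomm hQ hA (A₁ := B.comap π ⊓ A) inf_le_right htA hp hp2 le_rfl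
        (big_one h5) (hF.le (hπ1.mp ?_)) ⟨n, hF.le (hπ1.mp ?_)⟩ (fun a ha => hF.le (hπ1.mp ?_)) hcard
      · rw [map_mul, map_mul, map_mul, map_inv, htπ, hg, hwinv, inv_mul_cancel]
      · rw [map_pow, hg, ← hwo, pow_orderOf_eq_one]
      · have hc : Commute (π a) (z ^ l) := ((huB _ ha.1).pow_right _).zpow_right l
        rw [map_mul, map_mul, map_mul, map_inv, map_inv, hg, hc.eq, mul_inv_cancel_right,
          mul_inv_cancel]
    have hxzt : tb * (x * z) * tb⁻¹ = x * z := by
      have e1 : tb * x * tb⁻¹ = x * u := by rw [hu, hti]; group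
      calc tb * (x * z) * tb⁻¹ = (tb * x * tb⁻¹) * (tb * z * tb⁻¹) := by group
        _ = x * u * z⁻¹ := by rw [e1, hzinv]
        _ = x * z := by rw [← hzz]; group
    have hxz : x * z ∈ Y := hcomY _ fun a ha => by
      have hb : ∀ b ∈ B, Commute b (x * z) := fun b hb =>
        (show Commute b x from hxB' b hb).mul_right ((huB b hb).pow_right _)
      have ht : Commute tb (x * z) := mul_inv_eq_iff_eq_mul.mp hxzt
      rcases hcases a ha with haB | haB
      · exact (hb a haB).eq
      · have := ht.mul_left (hb _ haB)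
        rw [mul_inv_cancel_left] at this
        exact this.eq
    have := mul_mem hxz (inv_mem hzY)
    rwa [mul_inv_cancel_right] at this
  have hAp : IsPGroup 2 Ab := (S.2.to_le hA.le).map π
  obtain ⟨a, ha⟩ := IsPGroup.iff_card.mp hAp
  by_cases h4 : 4 ≤ Nat.card Ab
  · exact CfsgLib.Coprime.le_of_hyperplane_centralizer_le (p := 2)
      (Subgroup.le_centralizer_iff_isMulCommutative.mp (CfsgLib.PushUp.comm_of_sq hAb2))
      (fun b hb => by rw [pow_two]; exact hAb2 b hb) h4 Subgroup.le_normalizer_of_normal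
      (by rw [ha]; exact (Nat.coprime_two_left.mpr hO).pow_left a) claim
  · refine fun x hx => claim ⊥ bot_le ?_ ⟨hx, ?_⟩
    · rw [Subgroup.relIndex_bot_left, ha] at *
      rcases a with _ | _ | a
      · norm_num
      · norm_num
      · exact absurd (Nat.pow_le_pow_right two_pos (show 2 ≤ a + 2 by omega)) h4
    · exact mem_centralizer_iff_conj.mpr fun v hv => by
        rw [Subgroup.mem_bot.mp hv, mul_one, mul_inv_cancel]

end CfsgLib.LocalK
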