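import Cfsg.Agent.Lib.LocalK.Inherit
import Cfsg.Agent.Lib.MinNormal.SimpleConjugates
import Cfsg.Agent.Lib.PushUp.Basic

/-!
Steps: for an elementary abelian `2`-group `A`, a subgroup `A₁` of index at most `2 ^ k`, an element
`t ∈ A` and an element of prime order `r` inverted by `t` and centralized by `A₁`, where every
free module for the dihedral group they generate has order at least `2 ^ (4 k)`.
-/

set_option autoImplicit false
set_option linter.style.haveILetI false

namespace CfsgLib.LocalK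

open scoped Pointwise
open CfsgLib.MinNormal (cj mem_cj cj_one cj_mul SimpleConjugates)

universe u

variable {X : Type u} [Group X]

/-- See the module docstring. -/
structure IsStep (A A₁ : Subgroup X) (t y : X) (k r : ℕ) : Prop where
  le : A₁ ≤ A
  mem : t ∈ A
  prime : r.Prime
  five_le : 5 ≤ r
  one_le : 1 ≤ k
  big : Big k r
  ord : orderOf y = r
  inv : t * y * t⁻¹ = y⁻¹
  comm : ∀ a ∈ A₁, a * y = y * a
  card_le : Nat.card A ≤ 2 ^ k * Nat.card A₁

theorem IsStep.ne_one {A A₁ : Subgroup X} {t y : X} {k r : ℕ} (h : IsStep A A₁ t y k r) : y ≠ 1 :=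
  fun e => by
    have h5 := h.five_le
    rw [← h.ord, e, orderOf_one] at h5
    omega

theorem IsStep.not_mem {A A₁ : Subgroup X} {t y : X} {k r : ℕ} (h : IsStep A A₁ t y k r) :
    t ∉ A₁ := by
  intro hm
  have h5 := h.five_le
  have h1 := h.inv
  rw [h.comm t hm, mul_inv_cancel_right] at h1
  have h2 : y ^ 2 = 1 := by rw [pow_two]; nth_rw 2 [h1]; exact mul_inv_cancel y
  have := Nat.le_of_dvd two_pos (orderOf_dvd_of_pow_eq_one h2)
  rw [h.ord] at this
  omega

theorem inv_eq_self_of_sq {A : Subgroup X} (hA : ∀ a ∈ A, a * a = 1) {a : X} (ha : a ∈ A) :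
    a⁻¹ = a := inv_eq_of_mul_eq_one_right (hA a ha)

theorem comm_of_sq {A : Subgroup X} (hA : ∀ a ∈ A, a * a = 1) {a b : X} (ha : a ∈ A) (hb : b ∈ A) :
    a * b = b * a := by
  rw [← inv_eq_self_of_sq hA (mul_mem ha hb), mul_inv_rev, inv_eq_self_of_sq hA ha,
    inv_eq_self_of_sq hA hb]

theorem isPGroup_of_sq {A : Subgroup X} (hA : ∀ a ∈ A, a * a = 1) : IsPGroup 2 A := fun b =>
  ⟨1, Subtype.ext (by rw [pow_one, SubmonoidClass.coe_pow, pow_two, hA b b.2]; rfl)⟩

theorem le_normalizer_of_sq {A B C : Subgroup X} (hA : ∀ a ∈ A, a * a = 1) (hB : B ≤ A)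
    (hC : C ≤ A) : B ≤ Subgroup.normalizer (C : Set X) := fun b hb =>
  Subgroup.centralizer_le_normalizer _ (Subgroup.mem_centralizer_iff.mpr fun c hc =>
    comm_of_sq hA (hC hc) (hB hb))

variable [Finite X]

/-- Complements in elementary abelian `2`-groups. -/
theorem exists_complement {A A₀ : Subgroup X} (hA : ∀ a ∈ A, a * a = 1) (h0 : A₀ ≤ A) :
    ∃ B ≤ A, A₀ ⊓ B = ⊥ ∧ A₀ ⊔ B = A := by
  obtain ⟨B, hB⟩ := (Set.toFinite {B : Subgroup X | B ≤ A ∧ A₀ ⊓ B = ⊥}).exists_maximal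
    ⟨⊥, bot_le, inf_bot_eq _⟩
  refine ⟨B, hB.prop.1, hB.prop.2, le_antisymm (sup_le h0 hB.prop.1) fun a ha => ?_⟩
  by_contra hna
  set B' := B ⊔ Subgroup.zpowers a with hB'
  have hB'A : B' ≤ A := sup_le hB.prop.1 (Subgroup.zpowers_le.mpr ha)
  have hmeet : A₀ ⊓ B' = ⊥ := by
    rw [eq_bot_iff]
    rintro x ⟨hx0, hxB⟩
    have hx : x ∈ ((B : Set X) * (Subgroup.zpowers a : Set X)) := by
      rw [← Subgroup.coe_mul_of_right_le_normalizer_left _ _ (le_normalizer_of_sq hA
        (Subgroup.zpowers_le.mpr ha) hB.prop.1)]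
      exact hxB
    obtain ⟨b, hb, c, ⟨j, rfl⟩, rfl⟩ := hx
    rcases Int.even_or_odd' j with ⟨i, rfl | rfl⟩
    · have h1 : a ^ (2 * i) = 1 := by rw [zpow_mul, zpow_two, hA a ha, one_zpow]
      simp only [h1, mul_one] at hx0 ⊢
      exact hB.prop.2.le ⟨hx0, hb⟩
    · have h1 : a ^ (2 * i + 1) = a := by
        rw [zpow_add, zpow_mul, zpow_two, hA a ha, one_zpow, one_mul, zpow_one]
      simp only [h1] at hx0
      refine absurd ?_ hna
      rw [show a = b⁻¹ * (b * a) by group]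
      exact mul_mem (Subgroup.mem_sup_right (inv_mem hb)) (Subgroup.mem_sup_left hx0)
  exact hna (Subgroup.mem_sup_right (hB.le_of_ge ⟨hB'A, hmeet⟩ le_sup_left
    (Subgroup.mem_sup_right (Subgroup.mem_zpowers a))))

theorem card_complement {A A₀ B : Subgroup X} (hA : ∀ a ∈ A, a * a = 1) (h0 : A₀ ≤ A) (hB : B ≤ A)
    (hi : A₀ ⊓ B = ⊥) : Nat.card ↥(A₀ ⊔ B) = Nat.card A₀ * Nat.card B := by
  have h := CfsgLib.Coprime.card_sup_mul_card_inf (le_normalizer_of_sq hA hB h0)
  rwa [hi, Subgroup.card_bot, mul_one] at h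

/-- An element whose image has prime order has a power of that order. -/
theorem exists_pow_orderOf {Y : Type*} [Group Y] [Finite Y] {Q : Type*} [Group Q] (f : Y →* Q)
    {g : Y} {r : ℕ} (h : orderOf (f g) = r) : ∃ m : ℕ, orderOf (g ^ m) = r := by
  obtain ⟨d, hd⟩ := h ▸ orderOf_map_dvd f g
  have hd0 : d ≠ 0 := fun e => (orderOf_pos g).ne' (by rw [hd, e, mul_zero])
  exact ⟨d, by rw [orderOf_pow' _ hd0, hd, Nat.gcd_mul_left_left, Nat.mul_div_cancel _
    (Nat.pos_of_ne_zero hd0)]⟩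

/-- The product over the orbit of a simple subgroup. -/
theorem exists_orbit_elem {N L : Subgroup X} (d : SimpleConjugates N L) {B : Subgroup X}
    (hBN : Subgroup.normalizer (L : Set X) ⊓ B = ⊥) {y0 : X} (hy0 : y0 ∈ L) {r : ℕ}
    (hr : orderOf y0 = r) (hrp : r.Prime) (e : B → X) (he : ∀ b, e b = y0 ∨ e b = y0⁻¹) (he1 : e 1 = y0) :
    ∃ y, orderOf y = r ∧ y ∈ N ∧
      (∃ w ∈ Subgroup.centralizer (L : Set X), y = y0 * w) ∧
      (∀ (a : X) (c : B), (∀ b : B, a * ((b : X) * e b * (b : X)⁻¹) * a⁻¹ =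
        ((c * b : B) : X) * e (c * b) * ((c * b : B) : X)⁻¹) → a * y = y * a) ∧
      (∀ (a : X) (c : B), (∀ b : B, a * ((b : X) * e b * (b : X)⁻¹) * a⁻¹ =
        (((c * b : B) : X) * e (c * b) * ((c * b : B) : X)⁻¹)⁻¹) → a * y * a⁻¹ = y⁻¹) := by
  classical
  set f : B → X := fun b => (b : X) * e b * (b : X)⁻¹ with hf
  have hfL : ∀ b : B, f b ∈ cj L (b : X) := fun b =>
    CfsgLib.MinNormal.conj_mem_cj (by rcases he b with h | h <;> rw [h]; exacts [hy0, inv_mem hy0])
  have hdist : ∀ {b c : B}, cj L (b : X) = cj L (c : X) → b = c := fun {b c} h => by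
    have h1 : cj L ((c⁻¹ * b : B) : X) = L := by
      rw [Subgroup.coe_mul, Subgroup.coe_inv, ← cj_mul, h, cj_mul, inv_mul_cancel, cj_one]
    have h2 : ((c⁻¹ * b : B) : X) ∈ Subgroup.normalizer (L : Set X) :=
        Subgroup.mem_normalizer_fintype fun x hx => by
          have := CfsgLib.MinNormal.conj_mem_cj (g := ((c⁻¹ * b : B) : X)) hx
          rwa [h1] at this
    have h3 : ((c⁻¹ * b : B) : X) = 1 := by
      rw [← Subgroup.mem_bot, ← hBN]; exact ⟨h2, (c⁻¹ * b).2⟩
    exact (inv_mul_eq_one.mp (Subtype.ext h3)).symm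
  have hcomm : ∀ x ∈ Set.range f, ∀ z ∈ Set.range f, x * z = z * x := by
    rintro _ ⟨b, rfl⟩ _ ⟨c, rfl⟩
    by_cases h : b = c
    · rw [h]
    · exact d.comm _ _ (fun h' => h (hdist h')) _ (hfL b) _ (hfL c)
  set U := Subgroup.closure (Set.range f) with hU
  haveI hUc : IsMulCommutative U := Subgroup.isMulCommutative_closure hcomm
  letI : CommGroup U := { (inferInstance : Group U) with mul_comm := hUc.is_comm.comm }
  let g : B → U := fun b => ⟨f b, Subgroup.subset_closure ⟨b, rfl⟩⟩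
  haveI := Fintype.ofFinite B
  have hgr : ∀ b, (g b) ^ r = 1 := fun b => Subtype.ext (by
    show ((b : X) * e b * (b : X)⁻¹) ^ r = 1
    rw [conj_pow]
    rcases he b with h | h <;> rw [h] <;> simp [← hr, inv_pow, pow_orderOf_eq_one])
  set yU : U := ∏ b, g b with hyU
  set wU : U := ∏ b ∈ Finset.univ.erase (1 : B), g b with hwU
  have hsplit : yU = g 1 * wU := (Finset.mul_prod_erase _ _ (Finset.mem_univ _)).symm
  have hg1 : ((g 1 : U) : X) = y0 := by simp [g, f, he1]
  have hw : (wU : X) ∈ Subgroup.centralizer (L : Set X) := by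
    refine Finset.prod_induction g (fun u => (u : X) ∈ Subgroup.centralizer (L : Set X))
      (fun _ _ => mul_mem) (one_mem _) fun b hb => ?_
    have hne : cj L (1 : X) ≠ cj L (b : X) := fun h =>
      (Finset.ne_of_mem_erase hb) (hdist (b := 1) (c := b) h).symm
    have := d.le_centralizer hne (hfL b)
    rwa [cj_one] at this
  have hyN : (yU : X) ∈ N := by
    refine Finset.prod_induction g (fun u => (u : X) ∈ N) (fun _ _ => mul_mem) (one_mem _)
      fun b _ => d.cj_le _ (hfL b)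
  have hy1 : (yU : X) ≠ 1 := by
    intro h
    rw [hsplit, Subgroup.coe_mul, hg1] at h
    have h2 : y0 ∈ Subgroup.centralizer (L : Set X) := by
      rw [eq_inv_of_mul_eq_one_left h]; exact inv_mem hw
    have h3 := d.eq_one (g := 1) (x := y0) (by rw [cj_one]; exact hy0) (by rw [cj_one]; exact h2)
    have h4 : r = 1 := by rw [← hr, h3, orderOf_one]
    exact hrp.ne_one h4
  have hψ : ∀ a : X, ∀ σ : B → U, (∀ b, a * (g b : X) * a⁻¹ = (σ b : X)) →
      a * (yU : X) * a⁻¹ = ((∏ b, σ b : U) : X) := by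
    intro a σ hσ
    have hle : U ≤ U.comap (MulAut.conj a).toMonoidHom := by
      rw [hU, Subgroup.closure_le]
      rintro _ ⟨b, rfl⟩
      show a * f b * a⁻¹ ∈ U
      rw [show f b = (g b : X) from rfl, hσ b]
      exact (σ b).2
    let ψ : U →* U := ((MulAut.conj a).toMonoidHom.comp U.subtype).codRestrict U fun u => hle u.2
    have h1 : ψ yU = ∏ b, σ b := by
      rw [hyU, map_prod]
      exact Finset.prod_congr rfl fun b _ => Subtype.ext (hσ b)
    exact congrArg Subtype.val h1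
  refine ⟨(yU : X), ?_, hyN, ⟨(wU : X), hw, by rw [hsplit, Subgroup.coe_mul, hg1]⟩, ?_, ?_⟩
  · have hp : yU ^ r = 1 := by rw [hyU, ← Finset.prod_pow]; exact Finset.prod_eq_one fun b _ => hgr b
    haveI := Fact.mk hrp
    exact orderOf_eq_prime (congrArg Subtype.val hp) hy1
  · intro a c ha
    refine mul_inv_eq_iff_eq_mul.mp ((hψ a (fun b => g (c * b)) ha).trans ?_)
    rw [hyU]
    exact congrArg Subtype.val (Equiv.prod_comp (Equiv.mulLeft c) g)
  · intro a c ha
    refine (hψ a (fun b => (g (c * b))⁻¹) ha).trans ?_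
    rw [Finset.prod_inv_distrib, Subgroup.coe_inv, hyU]
    exact congrArg (fun u : U => (u : X)⁻¹) (Equiv.prod_comp (Equiv.mulLeft c) g)

end CfsgLib.LocalK
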