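import Cfsg.Agent.Lib.LocalK.Basic
import Cfsg.Agent.Lib.Suzuki.Maximal
import Cfsg.Agent.Lib.Suzuki.Aut
import Cfsg.Agent.Lib.Suzuki.ElemTI
import Cfsg.Agent.Lib.Suzuki.Solubilizer
import Cfsg.Agent.Lib.Suzuki.LieEquiv
import Cfsg.Agent.Lib.NumberTheory.Zsigmondy

/-!
The Suzuki groups.
-/

set_option autoImplicit false
set_option linter.unusedSectionVars false

namespace CfsgLib.LocalK

open CfsgLib.Suzuki MulAction

variable {F : Type} [Field F] [Fintype F] [CharP F 2] {m : ℕ} [hP : Param F m]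

include hP

theorem card_grpU_elementary (B : Subgroup (Gp F m)) (hB : ∀ b ∈ B, b * b = 1) :
    Nat.card B ≤ 2 ^ (2 * m + 1) := by
  haveI : Fact (Nat.Prime 2) := ⟨Nat.prime_two⟩
  have hBp : IsPGroup 2 B := fun b => ⟨1, Subtype.ext (by
    rw [pow_one, SubmonoidClass.coe_pow, pow_two, hB b b.2]; rfl)⟩
  obtain ⟨P, hBP⟩ := hBp.exists_le_sylow
  obtain ⟨g, hg⟩ := sylow_two_eq_conj P
  have hmem : ∀ b : B, ∃ c : F, g⁻¹ * (b : Gp F m) * g = gT 0 c := fun b => by
    obtain ⟨v, hv, hvb⟩ : (b : Gp F m) ∈ (grpU F m).map (MulAut.conj g).toMonoidHom := hg ▸ hBP b.2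
    have e : g⁻¹ * (b : Gp F m) * g = v := by
      rw [← hvb]
      show g⁻¹ * (g * v * g⁻¹) * g = v
      group
    rw [e]
    refine sq_eq_one_grpU hv ?_
    rw [← e, pow_two]
    calc g⁻¹ * (b : Gp F m) * g * (g⁻¹ * b * g) = g⁻¹ * ((b : Gp F m) * b) * g := by group
      _ = 1 := by rw [hB b b.2, mul_one, inv_mul_cancel]
  choose c hc using hmem
  have h := Nat.card_le_card_of_injective c (fun a b hab => Subtype.ext (by
    have h1 := hc a
    rw [hab, ← hc b] at h1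
    exact mul_left_cancel (mul_right_cancel h1)))
  rwa [Nat.card_eq_fintype_card (α := F), hP.card] at h

theorem sylow_generates {r : ℕ} (hr : r.Prime) (h2 : ¬ r ∣ 2) (h1 : ¬ r ∣ Fintype.card F - 1)
    (P : Sylow 2 (Gp F m)) (y : Gp F m) (hy : orderOf y = r) :
    (P : Subgroup (Gp F m)) ⊔ Subgroup.zpowers y = ⊤ := by
  by_contra hne
  obtain ⟨M, hM, hle⟩ := (eq_top_or_exists_le_coatom
    ((P : Subgroup (Gp F m)) ⊔ Subgroup.zpowers y)).resolve_left hne
  have hyM : y ∈ M := hle (Subgroup.mem_sup_right (Subgroup.mem_zpowers y))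
  rw [(sylow_unique_maximal P).2 M hM (le_sup_left.trans hle)] at hyM
  obtain ⟨g, hg⟩ := sylow_two_eq_conj P
  rw [hg, normalizer_conj_grpU, stabilizer_smul_eq_stabilizer_map_conj] at hyM
  have hd := Subgroup.orderOf_dvd_natCard _ hyM
  rw [Nat.card_congr ((stabilizer (Gp F m) (pinf F m)).equivMapOfInjective _
    (MulAut.conj g).injective).toEquiv.symm, natCard_stab, hy] at hd
  rcases hr.dvd_mul.mp hd with h | h
  · rw [hP.card] at h
    exact h2 (hr.dvd_of_dvd_pow (hr.dvd_of_dvd_pow h))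
  · exact h1 h

theorem aut_invol_inner {L : Type} [Group L] (e : Gp F m ≃* L) (α : MulAut L) (hα : α * α = 1) :
    α ∈ (MulAut.conj : L →* MulAut L).range := by
  haveI : Finite L := Finite.of_equiv _ e.toEquiv
  have hcard := natCard_out e
  set o : Cfsg.Out L := QuotientGroup.mk α
  have ho : o ^ 2 = 1 := by
    show (QuotientGroup.mk (α ^ 2) : Cfsg.Out L) = 1
    rw [pow_two, hα]; rfl
  have h2 : orderOf o ∣ 2 := orderOf_dvd_of_pow_eq_one ho
  have h3 : orderOf o ∣ 2 * m + 1 := hcard ▸ orderOf_dvd_natCard o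
  have h1 : orderOf o = 1 := Nat.eq_one_of_dvd_coprimes
    (Nat.coprime_two_left.mpr ⟨m, rfl⟩) h2 h3
  exact (QuotientGroup.eq_one_iff α).mp (orderOf_eq_one_iff.mp h1)

omit hP in
theorem exists_suzuki_prime (m : ℕ) : ∃ r : ℕ, r.Prime ∧ 5 ≤ r ∧
    r ∣ (2 ^ (2 * m + 1)) ^ 2 + 1 ∧ ¬ r ∣ 2 ^ (2 * m + 1) - 1 ∧ Big (2 * m + 1) r := by
  set n := 2 * m + 1 with hn
  obtain ⟨r, hr, hrd, hprim⟩ := NumberTheory.exists_primitive_prime (a := 2) (n := 4 * n)
    one_lt_two (by omega) (by omega) (by rintro ⟨h, -⟩; omega)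
  haveI := Fact.mk hr
  have hnd : ∀ k, 0 < k → k < 4 * n → ¬ r ∣ 2 ^ k - 1 := hprim
  have hsplit : 2 ^ (4 * n) - 1 = ((2 ^ n) ^ 2 + 1) * (2 ^ (2 * n) - 1) := by
    rw [show (2 ^ n) ^ 2 = 2 ^ (2 * n) by rw [← pow_mul, mul_comm],
      show 2 ^ (4 * n) = (2 ^ (2 * n)) ^ 2 by rw [← pow_mul]; congr 1; ring,
      show (2 ^ (2 * n)) ^ 2 - 1 = (2 ^ (2 * n)) ^ 2 - 1 ^ 2 by rw [one_pow], Nat.sq_sub_sq]
  have hr5 : 5 ≤ r := by
    by_contra h
    have h2 : r ≠ 2 := by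
      rintro rfl
      have h1 : Even (2 ^ (4 * n) - 1) := even_iff_two_dvd.mpr hrd
      rw [Nat.even_sub Nat.one_le_two_pow] at h1
      exact Nat.not_even_one (h1.mp ((Nat.even_pow' (by omega)).mpr even_two))
    have h3 : r = 3 := by
      have := hr.two_le
      rcases (show r = 3 ∨ r = 4 by omega) with h3 | h4
      · exact h3
      · exact absurd (h4 ▸ hr) (by norm_num)
    exact hnd 2 two_pos (by omega) (by rw [h3]; norm_num)
  refine ⟨r, hr, hr5, ?_, hnd n (by omega) (by omega), ?_⟩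
  · exact (hr.dvd_mul.mp (hsplit ▸ hrd)).resolve_right (hnd (2 * n) (by omega) (by omega))
  · intro a ha hd
    have h1 : r ∣ 2 ^ Nat.gcd (4 * n) (2 * a) - 1 := by
      rw [← Nat.pow_sub_one_gcd_pow_sub_one]
      exact Nat.dvd_gcd hrd hd
    have h2 : Nat.gcd (4 * n) (2 * a) = 4 * n := by
      rcases (Nat.le_of_dvd (by omega) (Nat.gcd_dvd_left (4 * n) (2 * a))).lt_or_eq with h | h
      · exact absurd h1 (hnd _ (Nat.gcd_pos_of_pos_left _ (by omega)) h)
      · exact h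
    have h3 := Nat.le_of_dvd (by omega) (h2 ▸ Nat.gcd_dvd_right (4 * n) (2 * a))
    omega

theorem good_suzuki {L : Type} [Group L] (e : Gp F m ≃* L) :
    ∃ r n : ℕ, Good L r n := by
  obtain ⟨r, hr, hr5, hrd, hrq, hbig⟩ := exists_suzuki_prime m
  haveI := Fact.mk hr
  obtain ⟨A, B, hA, hB, hA1, hB1, -, hmul, -, -, -⟩ := exists_tor_reps (F := F) (m := m)
  rw [← hP.card, ← hmul] at hrd
  obtain ⟨X, hX, hXne, hrX⟩ : ∃ X : Subgroup (Gp F m), Tor X 4 ∧ X ≠ ⊥ ∧ r ∣ Nat.card X := by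
    rcases hr.dvd_mul.mp hrd with h | h
    exacts [⟨A, hA, hA1, h⟩, ⟨B, hB, hB1, h⟩]
  obtain ⟨t, ht, ht2, ht1⟩ := hX.exists_invol
  obtain ⟨⟨y, hy⟩, hyo⟩ := exists_prime_orderOf_dvd_card' (G := X) r hrX
  rw [Subgroup.orderOf_mk] at hyo
  have hto : orderOf t = 2 := orderOf_eq_prime (by rw [pow_two, ht2]) ht1
  refine ⟨r, 2 * m + 1, Good.of_equiv ?_ e⟩
  exact
    { prime := hr
      five_le := hr5
      one_le := by omega
      big := hbig
      rank := card_grpU_elementary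
      inverts := fun u hu => by
        obtain ⟨g, hg⟩ := isConj_iff.mp ((involution_conj hto).symm.trans (involution_conj hu))
        refine ⟨g * y * g⁻¹, ?_, ?_⟩
        · rw [← MulAut.conj_apply, MulEquiv.orderOf_eq, hyo]
        · have hinv := hX.invert ht ht2 ht1 hy
          rw [← hg]
          calc g * t * g⁻¹ * (g * y * g⁻¹) * (g * t * g⁻¹)⁻¹ = g * (t * y * t⁻¹) * g⁻¹ := by group
            _ = g * (t * y * t) * g⁻¹ := by rw [inv_eq_of_mul_eq_one_right ht2]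
            _ = (g * y * g⁻¹)⁻¹ := by rw [hinv]; group
      exists_invol := ⟨t, hto⟩
      generates := fun P z hz => sylow_generates hr
        (fun h => by have := Nat.le_of_dvd two_pos h; omega) (hP.card ▸ hrq) P z hz
      outer := fun α hα => Or.inl (aut_invol_inner (MulEquiv.refl _) α hα) }

end CfsgLib.LocalK
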